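import Cfsg.Agent.SUShort.Two

/-!
The short presentations of the special unitary groups.
-/

set_option autoImplicit false
set_option linter.unusedSectionVars false

namespace CfsgLib.SUShort

open CfsgLib.BPres

variable {F : Type*} [Field F] [Finite F] {q n : ℕ}

theorem bounds (hF : Nat.card F = q ^ 2) (hn : 4 ≤ n) : Bounds F q n := by
  have hq := CfsgLib.Forms.two_le_q hF
  rcases (show q = 2 ∨ q = 3 ∨ 4 ≤ q by omega) with rfl | rfl | h
  · exact bounds_two hF hn
  · exact bounds_three hF hn
  · exact bounds_big hF hn h

end CfsgLib.SUShort
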