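import Cfsg.Agent.SLShort.UpTo
import Cfsg.Agent.BPres.Gens

/-!
A presentation from two presented groups and relations between their elements.
-/

set_option autoImplicit false
set_option linter.style.haveILetI false
set_option linter.unusedSectionVars false

namespace CfsgLib.SUShort

open CfsgLib.BPres CfsgLib.SLShort

universe u v w

/-- The value of a formal relation, a list of elements of the two groups. -/
def evalRel {K : Type u} {A : Type v} {G : Type w} [Group K] [Group A] [Group G] (ψ : K →* G) (φ : A →* G)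
    (r : List (K ⊕ A)) : G :=
  (r.map (Sum.elim (fun x => ψ x) fun y => φ y)).prod

/-- Two presented groups glued by listed relations. -/
theorem hasPresN_amalg {T : Type u} [Group T] {K : Type v} [Group K] {A : Type} [Group A] {k r1 r2 : ℕ}
    (hK : HasPresN K k r1) {c : A} (hA : PresUpTo c r2) (ε : K →* T) (μ : A →* T) (z : K)
    (hz : ε z = μ c) (hz3 : z ^ 3 = 1) (X : List (List (K ⊕ A))) (hX : ∀ r ∈ X, evalRel ε μ r = 1)
    (hgen : ε.range ⊔ μ.range = ⊤)
    (huniv : ∀ (G : Type) [Group G] (ψ : K →* G) (φ : A →* G), φ c = ψ z →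
      (∀ r ∈ X, evalRel ψ φ r = 1) → ∃ Φ : T →* G, (∀ x, Φ (ε x) = ψ x) ∧ ∀ y, Φ (μ y) = φ y) :
    HasPresN T (k + 2) (r1 + r2 + 1 + X.length) := by
  classical
  obtain ⟨R1, f1, hR1, P1⟩ := hK
  obtain ⟨R2, f2, wc, hR2, hwc, P2⟩ := hA
  choose W1 hW1 using exists_word P1.gen
  choose W2 hW2 using exists_word P2.gen
  let L : K → FreeGroup (Fin k ⊕ Fin 2) := fun x => FreeGroup.map Sum.inl (W1 x)
  let M : A → FreeGroup (Fin k ⊕ Fin 2) := fun y => FreeGroup.map Sum.inr (W2 y)
  let f : Fin k ⊕ Fin 2 → T := Sum.elim (fun i => ε (f1 i)) fun i => μ (f2 i)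
  let Rrot := FreeGroup.map Sum.inr wc * (L z)⁻¹
  let RX := X.map fun r => (r.map (Sum.elim L M)).prod
  let R := R1.map (FreeGroup.map Sum.inl) ++ R2.map (FreeGroup.map Sum.inr) ++ (Rrot :: RX)
  have hfL : ∀ x, FreeGroup.lift f (L x) = ε x := fun x => by
    rw [lift_map, ← hW1 x, lift_comp, hW1]; rfl
  have hfM : ∀ y, FreeGroup.lift f (M y) = μ y := fun y => by
    rw [lift_map, ← hW2 y, lift_comp, hW2]; rfl
  refine hasPresN_of (R := R) (f := f) ⟨fun r hr => ?_, ?_, fun G _ f' hf' => ?_⟩ (by simp) ?_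
  · simp only [R, List.mem_append, List.mem_map, List.mem_cons] at hr
    rcases hr with (⟨s, hs, rfl⟩ | ⟨s, hs, rfl⟩) | rfl | hr
    · rw [lift_map]
      exact (lift_comp ε f1 s).symm.trans (by rw [P1.rel s hs, map_one])
    · rw [lift_map]
      exact (lift_comp μ f2 s).symm.trans (by rw [P2.rel s (List.mem_append.2 (Or.inl hs)), map_one])
    · rw [map_mul, map_inv, hfL, lift_map, mul_inv_eq_one, hz]
      exact (lift_comp μ f2 wc).symm.trans (by rw [hwc])
    · obtain ⟨s, hs, rfl⟩ := List.mem_map.1 hr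
      rw [map_list_prod, List.map_map]
      refine Eq.trans (congrArg List.prod (List.map_congr_left fun e _ => ?_)) (hX s hs)
      cases e with
      | inl x => exact hfL x
      | inr y => exact hfM y
  · rw [← FreeGroup.range_lift_eq_closure, eq_top_iff, ← hgen]
    refine sup_le ?_ ?_
    · rintro _ ⟨x, rfl⟩; exact ⟨L x, hfL x⟩
    · rintro _ ⟨y, rfl⟩; exact ⟨M y, hfM y⟩
  swap
  · simp only [R, RX, List.length_append, List.length_map, List.length_cons]
    omega
  obtain ⟨ψ, hψ⟩ := P1.univ G (fun i => f' (Sum.inl i)) fun s hs => by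
    rw [← lift_map]
    exact hf' _ (List.mem_append.2 (Or.inl (List.mem_append.2 (Or.inl (List.mem_map.2 ⟨s, hs, rfl⟩)))))
  have hL : ∀ x, FreeGroup.lift f' (L x) = ψ x := fun x => by
    rw [lift_map, ← hW1 x, lift_comp, hW1, show (fun i => ψ (f1 i)) = _ from funext hψ]
  have hrot := hf' Rrot (List.mem_append.2 (Or.inr (List.mem_cons_self ..)))
  simp only [Rrot, map_mul, map_inv, hL, mul_inv_eq_one, lift_map] at hrot
  obtain ⟨φ, hφ⟩ := P2.univ G (fun i => f' (Sum.inr i)) fun s hs => by
    rcases List.mem_append.1 hs with hs | hs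
    · rw [← lift_map]
      exact hf' _ (List.mem_append.2 (Or.inl (List.mem_append.2 (Or.inr (List.mem_map.2 ⟨s, hs, rfl⟩)))))
    · obtain rfl := List.mem_singleton.1 hs
      rw [map_pow, hrot, ← map_pow, hz3, map_one]
  have hM : ∀ y, FreeGroup.lift f' (M y) = φ y := fun y => by
    rw [lift_map, ← hW2 y, lift_comp, hW2, show (fun i => φ (f2 i)) = _ from funext hφ]
  have hc : φ c = ψ z := by
    rw [← hrot, ← hwc, lift_comp, show (fun i => φ (f2 i)) = _ from funext hφ]
  obtain ⟨Φ, h1, h2⟩ := huniv G ψ φ hc fun r hr => by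
    have h := hf' ((r.map (Sum.elim L M)).prod)
      (List.mem_append.2 (Or.inr (List.mem_cons_of_mem _ (List.mem_map.2 ⟨r, hr, rfl⟩))))
    rw [map_list_prod, List.map_map] at h
    refine Eq.trans (congrArg List.prod (List.map_congr_left fun e _ => ?_)) h
    cases e with
    | inl x => exact (hL x).symm
    | inr y => exact (hM y).symm
  refine ⟨Φ, fun i => ?_⟩
  rcases i with i | i
  · exact (h1 (f1 i)).trans (hψ i)
  · exact (h2 (f2 i)).trans (hφ i)

end CfsgLib.SUShort
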