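import Cfsg.Agent.SUShort.Pres
import Cfsg.Agent.SU3Pres.Main

/-!
Short presentations of the special unitary groups over fields of order at least sixteen, and centres.
-/

set_option autoImplicit false
set_option linter.unusedSectionVars false
set_option linter.style.haveILetI false

namespace CfsgLib.SUShort

open CfsgLib.Phan CfsgLib.BPres CfsgLib.SLShort CfsgLib.Forms CfsgLib.Unitary

variable {F : Type*} [Field F] [Finite F] {q n : ℕ}

theorem gen_pairs (hF : Nat.card F = q ^ 2) (h3 : 3 ≤ q) (T : Set (Cfsg.SU 3 F q)) :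
    Subgroup.closure (Set.range (emb (F := F) (q := q) (win 0 2 3 (by omega))) ∪
      Set.range (emb (F := F) (q := q) (win 1 2 3 (by omega))) ∪ T) = ⊤ := by
  rw [eq_top_iff, ← sup_blocks_eq_top (n := 2) hF (by omega) (fun _ => h3)]
  refine sup_le ?_ ?_ <;> intro x hx <;> refine Subgroup.subset_closure ?_
  · exact Or.inl (Or.inl hx)
  · exact Or.inl (Or.inr hx)

/-- The two bounds: in general and for four or five variables. -/
def Bounds (F : Type*) [Field F] (q n : ℕ) : Prop :=
  HasPresN (Cfsg.SU n F q) 6 39 ∧ (n ≤ 5 → HasPresN (Cfsg.SU n F q) 6 35)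

theorem bounds_big (hF : Nat.card F = q ^ 2) (hn : 4 ≤ n) (hq : 4 ≤ q) : Bounds F q n := by
  have main : ∀ {r2 s : ℕ}, PresUpTo (c3 n (by omega)) r2 → (2 ≤ s ∨ (n = 5 ∧ 1 ≤ s) ∨ n = 4) →
      HasPresN (Cfsg.SU n F q) 6 (23 + r2 + 1 + (2 * s + 5) + 1) := by
    intro r2 s hA hs
    have h := hasPresN_SU_glue (K := Cfsg.SU 3 F q) hF hn
      ((SU3Pres.hasPresN_SU3 hF (by omega)).mono (s := 23) (by split_ifs <;> omega)) hA hs
      (MonoidHom.id _) (emb (f3 hn)) (fun _ => rfl) [] (fun r hr => absurd hr List.not_mem_nil) ∅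
      fun G _ Ψ A hrot hfix hflip hfar _ =>
        ⟨{ rot := hrot
           fix := hfix
           flip := hflip
           far := hfar
           gen := gen_pairs hF (by omega) ∅
           stab := fun δ ρ _ t ht => absurd ht (Set.notMem_empty t)
           swapT := fun t ht => absurd ht (Set.notMem_empty t)
           vu := fun t ht => absurd ht (Set.notMem_empty t)
           vv := fun t ht => absurd ht (Set.notMem_empty t)
           base := Or.inl hq }, fun Φ h1 _ x => h1 x⟩
    simpa using h.pad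
  refine ⟨(main (presUpTo_any hn) (s := 2) (Or.inl le_rfl)).mono (by norm_num), fun h5 => ?_⟩
  rcases (show n = 4 ∨ n = 5 by omega) with rfl | rfl
  · exact (main presUpTo_four (s := 0) (Or.inr (Or.inr rfl))).mono (by norm_num)
  · exact (main presUpTo_five (s := 1) (Or.inr (Or.inl ⟨rfl, le_rfl⟩))).mono (by norm_num)

theorem center_zpowers_SU (hF : Nat.card F = q ^ 2) (hn : 2 ≤ n) :
    ∃ z, Subgroup.center (Cfsg.SU n F q) = Subgroup.zpowers z := by
  let i0 : Fin n := ⟨0, by omega⟩
  have hs : ∀ x : Subgroup.center (Cfsg.SU n F q), ∃ a : F, (x.1.1 : Matrix (Fin n) (Fin n) F) = a • 1 :=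
    fun x => (mem_center_SU_iff hF hn).1 x.2
  let f : Subgroup.center (Cfsg.SU n F q) →* F :=
    { toFun := fun x => (x.1.1 : Matrix (Fin n) (Fin n) F) i0 i0
      map_one' := by simp
      map_mul' := fun x y => by
        obtain ⟨a, ha⟩ := hs x
        simp [Matrix.SpecialLinearGroup.coe_mul, ha] }
  have hf : Function.Injective f := fun x y e => by
    obtain ⟨a, ha⟩ := hs x
    obtain ⟨b, hb⟩ := hs y
    have hab : a = b := by simpa [f, ha, hb] using e
    exact Subtype.ext (Subtype.ext (Subtype.ext (by rw [ha, hb, hab])))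
  haveI := isCyclic_of_subgroup_isDomain f hf
  exact ⟨_, (Subgroup.isCyclic_iff_exists_zpowers_eq_top _).1 ‹_› |>.choose_spec.symm⟩

theorem bounds_quotient (hF : Nat.card F = q ^ 2) (hn : 2 ≤ n) {r : ℕ}
    (h : HasPresN (Cfsg.SU n F q) 6 r) : HasPresN (Cfsg.PSU n F q) 6 (r + 1) := by
  obtain ⟨z, hz⟩ := center_zpowers_SU hF hn
  exact h.quotient _ z hz

end CfsgLib.SUShort
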