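import Cfsg.Agent.SUShort.Perm
import Cfsg.Agent.Coset.Table

/-!
Computations with words in special unitary groups over concrete fields.
-/

set_option autoImplicit false
set_option linter.unusedSectionVars false
set_option linter.style.haveILetI false

namespace CfsgLib.SUShort

open Matrix CfsgLib.Forms CfsgLib.Unitary CfsgLib.BPres CfsgLib.Coset Equiv
open CfsgLib.Phan hiding ev

section lett

variable {G H : Type*} [Group G] [Group H] {k : ℕ}

/-- Letters: the given elements and then their inverses. -/
def lett (g : Fin k → G) : List G := List.ofFn g ++ List.ofFn fun i => (g i)⁻¹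

theorem fl_map (f : G →* H) (L : List G) (l : Nat) : fl (L.map f) l = f (fl L l) := by
  unfold fl
  rw [List.getD_eq_getElem?_getD, List.getD_eq_getElem?_getD, List.getElem?_map]
  cases L[l]? <;> simp

theorem ev_map (f : G →* H) (L : List G) (w : List Nat) : ev (L.map f) w = f (ev L w) := by
  simp only [ev, map_list_prod, List.map_map]
  exact congrArg List.prod (List.map_congr_left fun x _ => fl_map f L x)

theorem lett_map (f : G →* H) (g : Fin k → G) : lett (f ∘ g) = (lett g).map f := by
  simp [lett, List.map_append, List.map_ofFn, Function.comp_def]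

theorem ev_lett_map (f : G →* H) (g : Fin k → G) (w : List Nat) :
    ev (lett (f ∘ g)) w = f (ev (lett g) w) := by
  rw [lett_map, ev_map]

theorem ev_congr {L L' : List G} {w : List Nat} (h : ∀ x ∈ w, fl L x = fl L' x) : ev L w = ev L' w := by
  unfold ev
  exact congrArg List.prod (List.map_congr_left h)

theorem fl_lett_gen (g : Fin k → G) (i : Fin k) : fl (lett g) i = g i := by
  rw [fl, lett, List.getD_append _ _ _ _ (by simp), List.getD_eq_getElem _ _ (by simp), List.getElem_ofFn]

theorem fl_lett_inv (g : Fin k → G) (i : Fin k) : fl (lett g) (k + i) = (g i)⁻¹ := by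
  rw [fl, lett, List.getD_append_right _ _ _ _ (by simp), List.getD_eq_getElem _ _ (by simp),
    List.getElem_ofFn]
  congr 2
  exact Fin.ext (by simp)

theorem length_lett (g : Fin k → G) : (lett g).length = k + k := by simp [lett]

end lett

section mats

variable {K : Type*} [Field K] {m : ℕ}

/-- A matrix from the codes of its entries. -/
def mk (dec : Nat → K) (m : ℕ) (l : List Nat) : Matrix (Fin m) (Fin m) K :=
  Matrix.of fun i j => dec (l.getD (i.1 * m + j.1) 0)

/-- Check a product through its partial products. -/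
def chk [DecidableEq K] (dec : Nat → K) (m : ℕ) (M : Nat → List Nat) :
    List Nat → List (Nat × List Nat) → Bool
  | P, [] => decide (mk dec m P = 1)
  | P, (x, P') :: t => decide (mk dec m P * mk dec m (M x) = mk dec m P') && chk dec m M P' t

theorem chk_sound [DecidableEq K] {G : Type*} [Group G] (ρ : G →* Matrix (Fin m) (Fin m) K)
    (dec : Nat → K) (M : Nat → List Nat) (L : List G) :
    ∀ (t : List (Nat × List Nat)) (P : List Nat) (g : G), ρ g = mk dec m P →
      (∀ x ∈ t.map Prod.fst, ρ (fl L x) = mk dec m (M x)) → chk dec m M P t = true →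
      ρ (g * ev L (t.map Prod.fst)) = 1 := by
  intro t
  induction t with
  | nil =>
    intro P g hg _ h
    rw [List.map_nil, ev_nil, mul_one, hg]
    exact of_decide_eq_true h
  | cons a t ih =>
    obtain ⟨x, P'⟩ := a
    intro P g hg hM h
    rw [chk, Bool.and_eq_true, decide_eq_true_eq] at h
    rw [List.map_cons, ev_cons, ← mul_assoc]
    exact ih P' _ (by rw [map_mul, hg, hM x (by simp), h.1])
      (fun y hy => hM y (by simp [hy])) h.2

/-- Check a product against a final matrix through its partial products. -/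
def chkTo [DecidableEq K] (dec : Nat → K) (m : ℕ) (M : Nat → List Nat) (Q : List Nat) :
    List Nat → List (Nat × List Nat) → Bool
  | P, [] => decide (mk dec m P = mk dec m Q)
  | P, (x, P') :: t => decide (mk dec m P * mk dec m (M x) = mk dec m P') && chkTo dec m M Q P' t

theorem chkTo_sound [DecidableEq K] {G : Type*} [Group G] (ρ : G →* Matrix (Fin m) (Fin m) K)
    (dec : Nat → K) (M : Nat → List Nat) (Q : List Nat) (L : List G) :
    ∀ (t : List (Nat × List Nat)) (P : List Nat) (g : G), ρ g = mk dec m P →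
      (∀ x ∈ t.map Prod.fst, ρ (fl L x) = mk dec m (M x)) → chkTo dec m M Q P t = true →
      ρ (g * ev L (t.map Prod.fst)) = mk dec m Q := by
  intro t
  induction t with
  | nil =>
    intro P g hg _ h
    rw [List.map_nil, ev_nil, mul_one, hg]
    exact of_decide_eq_true h
  | cons a t ih =>
    obtain ⟨x, P'⟩ := a
    intro P g hg hM h
    rw [chkTo, Bool.and_eq_true, decide_eq_true_eq] at h
    rw [List.map_cons, ev_cons, ← mul_assoc]
    exact ih P' _ (by rw [map_mul, hg, hM x (by simp), h.1])
      (fun y hy => hM y (by simp [hy])) h.2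

end mats

variable {F K : Type*} [Field F] [Finite F] [Field K] [Finite K] {q n m : ℕ}

/-- The matrix of an element, as a homomorphism. -/
def matHom : Cfsg.SU n F q →* Matrix (Fin n) (Fin n) F where
  toFun g := suMat g
  map_one' := rfl
  map_mul' _ _ := rfl

theorem matHom_injective : Function.Injective (matHom : Cfsg.SU n F q →* _) :=
  fun _ _ h => Subtype.ext (Subtype.ext h)

theorem matHom_inv {g : Cfsg.SU n F q} {M : Matrix (Fin n) (Fin n) F} (h : matHom g * M = 1) :
    matHom g⁻¹ = M := by
  calc matHom g⁻¹ = matHom g⁻¹ * (matHom g * M) := by rw [h, mul_one]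
    _ = M := by rw [← mul_assoc, ← map_mul, inv_mul_cancel, map_one, one_mul]

theorem map_mem (e : K ≃+* F) (g : Cfsg.SU n K q) :
    Matrix.SpecialLinearGroup.map (e : K →+* F) g.1 ∈ Cfsg.SU n F q := by
  intro u v
  have key : ∀ w : Fin n → F, (Cfsg.slToMat n F)
      (Matrix.SpecialLinearGroup.map (e : K →+* F) g.1) *ᵥ w =
        fun i => e ((Cfsg.slToMat n K g.1 *ᵥ fun j => e.symm (w j)) i) := by
    intro w
    funext i
    simp only [Matrix.mulVec, dotProduct, map_sum, map_mul, RingEquiv.apply_symm_apply]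
    rfl
  have hform : ∀ a b : Fin n → K,
      Cfsg.hermForm n F q (fun i => e (a i)) (fun i => e (b i)) = e (Cfsg.hermForm n K q a b) := by
    intro a b
    simp only [Cfsg.hermForm, map_sum, map_mul, map_pow]
  rw [key u, key v, hform, g.2, ← hform]
  simp only [RingEquiv.apply_symm_apply]

/-- Transport along a field isomorphism. -/
def suHom (e : K ≃+* F) : Cfsg.SU n K q →* Cfsg.SU n F q where
  toFun g := ⟨_, map_mem e g⟩
  map_one' := Subtype.ext (map_one (Matrix.SpecialLinearGroup.map (e : K →+* F)))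
  map_mul' a b := Subtype.ext (map_mul (Matrix.SpecialLinearGroup.map (e : K →+* F)) a.1 b.1)

theorem matHom_suHom (e : K ≃+* F) (g : Cfsg.SU n K q) :
    matHom (suHom e g) = (matHom g).map e := rfl

theorem suHom_emb (e : K ≃+* F) (f : Fin m ↪ Fin n) (X : Cfsg.SU m K q) :
    suHom e (emb f X) = emb f (suHom e X) := by
  refine matHom_injective ?_
  show (blk f (matHom X)).map e = blk f ((matHom X).map e)
  show ((Matrix.fromBlocks (matHom X) 0 0 1).submatrix (split f).symm (split f).symm).map e =
    (Matrix.fromBlocks ((matHom X).map e) 0 0 1).submatrix (split f).symm (split f).symm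
  classical
  rw [← Matrix.submatrix_map, Matrix.fromBlocks_map, Matrix.map_zero _ (map_zero e),
    Matrix.map_zero _ (map_zero e), Matrix.map_one _ (map_zero e) (map_one e)]

theorem suHom_PM (e : K ≃+* F) (σ : alternatingGroup (Fin n)) :
    suHom e (PM σ : Cfsg.SU n K q) = PM σ := by
  refine matHom_injective ?_
  show ((σ : Perm (Fin n))⁻¹.permMatrix K).map e = (σ : Perm (Fin n))⁻¹.permMatrix F
  ext i j
  simp [Equiv.Perm.permMatrix, PEquiv.toMatrix_apply, apply_ite]

theorem matHom_emb_win {h : 0 + m ≤ n} (X : Cfsg.SU m F q) (i j : Fin n) :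
    matHom (emb (win 0 m n h) X) i j =
      if hm : i.1 < m ∧ j.1 < m then matHom X ⟨i, hm.1⟩ ⟨j, hm.2⟩ else if i = j then 1 else 0 := by
  classical
  show (Matrix.fromBlocks (matHom X) 0 0 1).submatrix (split (win 0 m n h)).symm
    (split (win 0 m n h)).symm i j = _
  obtain ⟨a, rfl⟩ := (split (win 0 m n h)).surjective i
  obtain ⟨b, rfl⟩ := (split (win 0 m n h)).surjective j
  have hin : ∀ x : {x // x ∉ Set.range (win 0 m n h)}, ¬ x.1.1 < m := fun x hx =>
    x.2 ⟨⟨x.1.1, hx⟩, Fin.ext (by simp)⟩
  rw [Matrix.submatrix_apply, Equiv.symm_apply_apply, Equiv.symm_apply_apply]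
  rcases a with a | a <;> rcases b with b | b <;> simp only [split_inl, split_inr]
  · rw [Matrix.fromBlocks_apply₁₁, dif_pos ⟨lt_of_eq_of_lt (show (win 0 m n h a).1 = a.1 by simp) a.2,
      lt_of_eq_of_lt (show (win 0 m n h b).1 = b.1 by simp) b.2⟩]
    exact congrArg₂ (matHom X) (Fin.ext (by simp)) (Fin.ext (by simp))
  · rw [Matrix.fromBlocks_apply₁₂, dif_neg (fun hh => hin b hh.2), if_neg (fun hh => b.2 ⟨a, hh⟩)]
    rfl
  · rw [Matrix.fromBlocks_apply₂₁, dif_neg (fun hh => hin a hh.1), if_neg (fun hh => a.2 ⟨b, hh.symm⟩)]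
    rfl
  · rw [Matrix.fromBlocks_apply₂₂, dif_neg (fun hh => hin a hh.1)]
    by_cases hab : a = b
    · subst hab; simp
    · rw [Matrix.one_apply_ne hab, if_neg fun hh => hab (Subtype.ext hh)]

theorem matHom_PM (σ : alternatingGroup (Fin n)) :
    matHom (PM σ : Cfsg.SU n F q) = (σ : Perm (Fin n))⁻¹.permMatrix F := rfl

/-- The matrix of a block, from its entries. -/
theorem matHom_emb_eq (f : Fin m ↪ Fin n) (X : Cfsg.SU m F q) {M : Matrix (Fin n) (Fin n) F}
    (h1 : ∀ a b, M (f a) (f b) = matHom X a b)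
    (h2 : ∀ i j, ((∀ a, f a ≠ i) ∨ ∀ a, f a ≠ j) → M i j = if i = j then 1 else 0) :
    matHom (emb f X) = M := by
  classical
  show (Matrix.fromBlocks (matHom X) 0 0 1).submatrix (split f).symm (split f).symm = M
  refine Matrix.ext fun i j => ?_
  obtain ⟨a, rfl⟩ := (split f).surjective i
  obtain ⟨b, rfl⟩ := (split f).surjective j
  rw [Matrix.submatrix_apply, Equiv.symm_apply_apply, Equiv.symm_apply_apply]
  rcases a with a | a <;> rcases b with b | b <;> simp only [split_inl, split_inr]
  · rw [Matrix.fromBlocks_apply₁₁, h1]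
  · rw [Matrix.fromBlocks_apply₁₂, h2 _ _ (Or.inr fun c hc => b.2 ⟨c, hc⟩),
      if_neg fun hh => b.2 ⟨a, hh⟩]
    rfl
  · rw [Matrix.fromBlocks_apply₂₁, h2 _ _ (Or.inl fun c hc => a.2 ⟨c, hc⟩),
      if_neg fun hh => a.2 ⟨b, hh.symm⟩]
    rfl
  · rw [Matrix.fromBlocks_apply₂₂, h2 _ _ (Or.inl fun c hc => a.2 ⟨c, hc⟩)]
    by_cases hab : a = b
    · subst hab; simp
    · rw [Matrix.one_apply_ne hab, if_neg fun hh => hab (Subtype.ext hh)]

/-- Orthonormal columns preserve the form. -/
theorem preserves_of_cols (hF : Nat.card F = q ^ 2) (M : Matrix (Fin n) (Fin n) F)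
    (hM : ∀ k l, ∑ i, M i k * M i l ^ q = if k = l then 1 else 0) (u v : Fin n → F) :
    Cfsg.hermForm n F q (M *ᵥ u) (M *ᵥ v) = Cfsg.hermForm n F q u v := by
  classical
  obtain ⟨p, k, hc, hp, hq⟩ := exists_charP_pow hF
  haveI : Fact p.Prime := ⟨hp⟩
  haveI : ExpChar F p := ExpChar.prime hp
  simp only [Cfsg.hermForm, Matrix.mulVec, dotProduct]
  calc ∑ i, (∑ a, M i a * u a) * (∑ b, M i b * v b) ^ q
      = ∑ i, ∑ a, ∑ b, u a * v b ^ q * (M i a * M i b ^ q) := by
        refine Finset.sum_congr rfl fun i _ => ?_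
        rw [hq, sum_pow_char_pow, Finset.sum_mul_sum]
        exact Finset.sum_congr rfl fun a _ => Finset.sum_congr rfl fun b _ => by ring
    _ = ∑ a, ∑ b, u a * v b ^ q * ∑ i, M i a * M i b ^ q := by
        rw [Finset.sum_comm]
        refine Finset.sum_congr rfl fun a _ => ?_
        rw [Finset.sum_comm]
        exact Finset.sum_congr rfl fun b _ => (Finset.mul_sum ..).symm
    _ = ∑ a, u a * v a ^ q := by simp [hM]

end CfsgLib.SUShort
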