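import Cfsg.Agent.SUShort.Perm

/-!
A unitary group in three variables and an alternating group glue to a unitary group.
-/

set_option autoImplicit false
set_option linter.unusedSectionVars false
set_option linter.style.haveILetI false

namespace CfsgLib.SUShort

open CfsgLib.Phan CfsgLib.BPres Equiv

/-- An injection of the first points as an embedding of an equivalence. -/
abbrev pe {m : ℕ} (π : Perm (Fin m)) : Fin m ↪ Fin m := π.toEmbedding

section alt

variable {k m n : ℕ}

theorem altEmb_move (σ : alternatingGroup (Fin n)) (f : Fin m ↪ Fin n) (γ : alternatingGroup (Fin m)) :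
    σ * altEmb f γ * σ⁻¹ = altEmb (f.trans (pe (σ : Perm (Fin n)))) γ := by
  rw [mul_inv_eq_iff_eq_mul]
  refine Subtype.ext (Equiv.ext fun x => ?_)
  show (σ : Perm (Fin n)) ((altEmb f γ : Perm (Fin n)) x) =
    (altEmb (f.trans (pe (σ : Perm (Fin n)))) γ : Perm (Fin n)) ((σ : Perm (Fin n)) x)
  by_cases hx : x ∈ Set.range f
  · obtain ⟨a, rfl⟩ := hx
    rw [altEmb_apply, show (σ : Perm (Fin n)) (f a) = f.trans (pe (σ : Perm (Fin n))) a from rfl, altEmb_apply]
    rfl
  · rw [altEmb_apply_outside f γ hx, altEmb_apply_outside _ γ]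
    rintro ⟨b, hb⟩
    exact hx ⟨b, (σ : Perm (Fin n)).injective hb⟩

theorem altEmb_comp (f : Fin m ↪ Fin n) (g : Fin k ↪ Fin m) (γ : alternatingGroup (Fin k)) :
    altEmb f (altEmb g γ) = altEmb (g.trans f) γ := by
  refine Subtype.ext (Equiv.ext fun x => ?_)
  by_cases hx : x ∈ Set.range (g.trans f)
  · obtain ⟨a, rfl⟩ := hx
    rw [altEmb_apply (g.trans f) γ a, show g.trans f a = f (g a) from rfl, altEmb_apply, altEmb_apply]
    rfl
  · rw [altEmb_apply_outside (g.trans f) γ hx]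
    by_cases hx' : x ∈ Set.range f
    · obtain ⟨b, rfl⟩ := hx'
      rw [altEmb_apply, altEmb_apply_outside g γ]
      rintro ⟨a, ha⟩
      exact hx ⟨a, congrArg f ha⟩
    · exact altEmb_apply_outside f _ hx'

theorem alt3_pow : ∀ γ : alternatingGroup (Fin 3), ∃ j : Fin 3, γ = c012 ^ (j : ℕ) := by decide +kernel

theorem pair_three : ∀ p : Fin 2 → Fin 3, p 0 ≠ p 1 → ∃ (j : Fin 3) (e : Bool), ∀ a : Fin 2,
    (c012 ^ (j : ℕ) : Perm (Fin 3))
      (Fin.castLE (show 2 ≤ 3 by decide) ((if e then Equiv.swap 0 1 else 1 : Perm (Fin 2)) a)) = p a := by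
  decide +kernel

end alt

variable {F : Type*} [Field F] [Finite F] {q n : ℕ} {G : Type*} [Group G]

/-- The pair of the first two points. -/
abbrev p0 (hn : 4 ≤ n) : Fin 2 ↪ Fin n := win 0 2 n (by omega)
/-- The triple of the first three points. -/
abbrev f3 (hn : 4 ≤ n) : Fin 3 ↪ Fin n := win 0 3 n (by omega)

/-- The small group in two variables. -/
noncomputable abbrev u0 (ψ : Cfsg.SU 3 F q →* G) : Cfsg.SU 2 F q →* G :=
  ψ.comp (emb (win 0 2 3 (by omega)))

/-- The data to be glued. -/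
structure Glue (hn : 4 ≤ n) (ψ : Cfsg.SU 3 F q →* G) (A : alternatingGroup (Fin n) →* G)
    (T : Set (Cfsg.SU 3 F q)) : Prop where
  rot : A (altEmb (f3 hn) c012) = ψ (PM c012)
  fix : ∀ σ : alternatingGroup (Fin n), (p0 hn).trans (pe (σ : Perm (Fin n))) = p0 hn →
    ∀ X, Commute (A σ) (u0 ψ X)
  flip : ∀ X, A (τ4 hn) * u0 ψ X * (A (τ4 hn))⁻¹ = u0 ψ (emb (pe (Equiv.swap 0 1)) X)
  far : ∀ X Y, Commute (u0 ψ X) (A (π4 hn) * u0 ψ Y * (A (π4 hn))⁻¹)
  gen : Subgroup.closure (Set.range (emb (F := F) (q := q) (win 0 2 3 (by omega))) ∪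
    Set.range (emb (F := F) (q := q) (win 1 2 3 (by omega))) ∪ T) = ⊤
  stab : ∀ (δ : alternatingGroup (Fin n)) (ρ : Perm (Fin 3)),
    (f3 hn).trans (pe (δ : Perm (Fin n))) = (pe ρ).trans (f3 hn) →
      ∀ t ∈ T, A δ * ψ t * (A δ)⁻¹ = ψ (emb (pe ρ) t)
  swapT : ∀ t ∈ T, emb (pe (Equiv.swap 0 1)) t = t
  vu : ∀ t ∈ T, ∀ h5 : 5 ≤ n, ∃ σ : alternatingGroup (Fin n),
    (p0 hn).trans (pe (σ : Perm (Fin n))) = win 3 2 n (by omega) ∧
      ∀ Y, Commute (ψ t) (A σ * u0 ψ Y * (A σ)⁻¹)
  vv : ∀ t ∈ T, ∀ t' ∈ T, ∀ h6 : 6 ≤ n, ∃ (π : Perm (Fin 3)) (σ : alternatingGroup (Fin n)),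
    ((pe π).trans (f3 hn)).trans (pe (σ : Perm (Fin n))) = win 3 3 n (by omega) ∧
      Commute (ψ t) (A σ * ψ (emb (pe π) t') * (A σ)⁻¹)
  base : 4 ≤ q ∨ ∃ Φ : Cfsg.SU 4 F q →* G, (∀ X, Φ (emb (win 0 3 4 (by omega)) X) = ψ X) ∧
    ∀ σ : alternatingGroup (Fin 4), Φ (PM σ) = A (altEmb (win 0 4 n (by omega)) σ)

namespace Glue

variable {hn : 4 ≤ n} {ψ : Cfsg.SU 3 F q →* G} {A : alternatingGroup (Fin n) →* G}
  {T : Set (Cfsg.SU 3 F q)} (D : Glue hn ψ A T)

include D

theorem exists_pair_move (p : Fin 2 ↪ Fin n) :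
    ∃ σ : alternatingGroup (Fin n), (p0 hn).trans (pe (σ : Perm (Fin n))) = p := by
  obtain ⟨σ, h0, h1⟩ := exists_even_pair hn (i := p 0) (j := p 1) (p.injective.ne (by decide))
  exact ⟨σ, Function.Embedding.ext fun a => by fin_cases a <;> [exact h0; exact h1]⟩

theorem pair_eq {σ σ' : alternatingGroup (Fin n)}
    (h : (p0 hn).trans (pe (σ : Perm (Fin n))) = (p0 hn).trans (pe (σ' : Perm (Fin n)))) (X : Cfsg.SU 2 F q) :
    A σ * u0 ψ X * (A σ)⁻¹ = A σ' * u0 ψ X * (A σ')⁻¹ := by
  have hc : Commute (A (σ'⁻¹ * σ)) (u0 ψ X) := D.fix _ (Function.Embedding.ext fun a => by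
    show ((σ' : Perm (Fin n))⁻¹) ((σ : Perm (Fin n)) (p0 hn a)) = p0 hn a
    rw [Perm.inv_def, Equiv.symm_apply_eq]
    exact DFunLike.congr_fun h a) X
  conv_lhs => rw [show σ = σ' * (σ'⁻¹ * σ) by group, map_mul]
  rw [show A σ' * A (σ'⁻¹ * σ) * u0 ψ X * (A σ' * A (σ'⁻¹ * σ))⁻¹ =
    A σ' * (A (σ'⁻¹ * σ) * u0 ψ X * (A (σ'⁻¹ * σ))⁻¹) * (A σ')⁻¹ by group, hc.eq, mul_inv_cancel_right]

/-- The group on a pair of points. -/
noncomputable def V (p : Fin 2 ↪ Fin n) : Cfsg.SU 2 F q →* G :=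
  (MulAut.conj (A (D.exists_pair_move p).choose)).toMonoidHom.comp (u0 ψ)

theorem V_eq {σ : alternatingGroup (Fin n)} {p : Fin 2 ↪ Fin n}
    (h : (p0 hn).trans (pe (σ : Perm (Fin n))) = p) (X : Cfsg.SU 2 F q) :
    D.V p X = A σ * u0 ψ X * (A σ)⁻¹ :=
  D.pair_eq ((D.exists_pair_move p).choose_spec.trans h.symm) X

theorem V_conj (σ : alternatingGroup (Fin n)) (p : Fin 2 ↪ Fin n) (X : Cfsg.SU 2 F q) :
    A σ * D.V p X * (A σ)⁻¹ = D.V (p.trans (pe (σ : Perm (Fin n)))) X := by
  obtain ⟨τ, hτ⟩ := D.exists_pair_move p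
  rw [D.V_eq hτ, D.V_eq (σ := σ * τ) (Function.Embedding.ext fun a => by
    show (σ : Perm (Fin n)) ((τ : Perm (Fin n)) (p0 hn a)) = (σ : Perm (Fin n)) (p a)
    rw [← hτ]; rfl), map_mul]
  group

theorem V_p0 (X : Cfsg.SU 2 F q) : D.V (p0 hn) X = u0 ψ X := by
  rw [D.V_eq (p := p0 hn) (σ := 1) (Function.Embedding.ext fun a => rfl), map_one]; group

theorem swap_p0 : (p0 hn).trans (pe (τ4 hn : Perm (Fin n))) = (pe (Equiv.swap 0 1)).trans (p0 hn) := by
  refine Function.Embedding.ext fun a => ?_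
  have e : ∀ k : Fin 4, (τ4 hn : Perm (Fin n)) (first hn k) = first hn (![1, 0, 3, 2] k) := fun k => by
    rw [τ4, dbl_apply]; fin_cases k <;> rfl
  have h0 : p0 hn (0 : Fin 2) = first hn (0 : Fin 4) := Fin.ext rfl
  have h1 : p0 hn (1 : Fin 2) = first hn (1 : Fin 4) := Fin.ext rfl
  fin_cases a
  · show (τ4 hn : Perm (Fin n)) (p0 hn 0) = p0 hn 1
    rw [h0, h1, e]; rfl
  · show (τ4 hn : Perm (Fin n)) (p0 hn 1) = p0 hn 0
    rw [h0, h1, e]; rfl

theorem V_swap (p : Fin 2 ↪ Fin n) (X : Cfsg.SU 2 F q) :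
    D.V ((pe (Equiv.swap 0 1)).trans p) X = D.V p (emb (pe (Equiv.swap 0 1)) X) := by
  obtain ⟨σ, hσ⟩ := D.exists_pair_move p
  rw [D.V_eq hσ, ← D.flip, D.V_eq (σ := σ * τ4 hn) (Function.Embedding.ext fun a => by
    show (σ : Perm (Fin n)) ((τ4 hn : Perm (Fin n)) (p0 hn a)) = p (Equiv.swap 0 1 a)
    rw [show (τ4 hn : Perm (Fin n)) (p0 hn a) = p0 hn (Equiv.swap 0 1 a) from DFunLike.congr_fun D.swap_p0 a,
      ← hσ]; rfl), map_mul]
  group

theorem rot_all (γ : alternatingGroup (Fin 3)) : A (altEmb (f3 hn) γ) = ψ (PM γ) := by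
  obtain ⟨j, rfl⟩ := alt3_pow γ
  rw [map_pow, map_pow, map_pow, map_pow, D.rot]

/-- The pairs inside the first three points. -/
theorem psi_pair (p : Fin 2 ↪ Fin 3) (X : Cfsg.SU 2 F q) : ψ (emb p X) = D.V (p.trans (f3 hn)) X := by
  obtain ⟨j, e, hje⟩ := pair_three p (p.injective.ne (by decide))
  set E : Perm (Fin 2) := if e then Equiv.swap 0 1 else 1
  have hp : p = ((pe E).trans (win 0 2 3 (by omega))).trans (pe ((c012 ^ (j : ℕ) : alternatingGroup (Fin 3)) : Perm (Fin 3))) := by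
    refine Function.Embedding.ext fun a => ?_
    rw [← hje a, SubmonoidClass.coe_pow]
    exact congrArg _ (Fin.ext (by simp [E]))
  conv_lhs => rw [hp, ← PM_conj_emb, ← emb_comp, map_mul, map_mul, map_inv, ← D.rot_all]
  have h1 : D.V ((pe E).trans (p0 hn)) X = ψ (emb (win 0 2 3 (by omega)) (emb (pe E) X)) := by
    simp only [E]
    cases e
    · rw [if_neg Bool.false_ne_true, show (pe (1 : Perm (Fin 2))) = Function.Embedding.refl _ from rfl, emb_refl,
        Function.Embedding.refl_trans, D.V_p0]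
      rfl
    · rw [if_pos rfl, D.V_swap, D.V_p0]; rfl
  rw [← h1, D.V_conj]
  congr 2
  refine Function.Embedding.ext fun a => ?_
  show (altEmb (f3 hn) (c012 ^ (j : ℕ)) : Perm (Fin n)) (p0 hn (E a)) = f3 hn (p a)
  rw [show p0 hn (E a) = f3 hn (win 0 2 3 (by omega) (E a)) from Fin.ext (by simp), altEmb_apply,
    show p a = _ from DFunLike.congr_fun hp a]
  rfl

theorem stab_all {δ : alternatingGroup (Fin n)} {ρ : Perm (Fin 3)}
    (h : (f3 hn).trans (pe (δ : Perm (Fin n))) = (pe ρ).trans (f3 hn)) (Y : Cfsg.SU 3 F q) :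
    A δ * ψ Y * (A δ)⁻¹ = ψ (emb (pe ρ) Y) := by
  refine DFunLike.congr_fun (f := (MulAut.conj (A δ)).toMonoidHom.comp ψ) (g := ψ.comp (emb (pe ρ)))
    (MonoidHom.eq_of_eqOn_dense D.gen ?_) Y
  have key : ∀ (p : Fin 2 ↪ Fin 3) X, A δ * ψ (emb p X) * (A δ)⁻¹ = ψ (emb (pe ρ) (emb p X)) := fun p X => by
    rw [D.psi_pair, D.V_conj, emb_comp, D.psi_pair]
    congr 2
    exact Function.Embedding.ext fun a => DFunLike.congr_fun h (p a)
  rintro y ((⟨X, rfl⟩ | ⟨X, rfl⟩) | ht)
  exacts [key _ X, key _ X, D.stab δ ρ h y ht]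

theorem triple_eq {π π' : Perm (Fin 3)} {σ σ' : alternatingGroup (Fin n)}
    (h : ((pe π).trans (f3 hn)).trans (pe (σ : Perm (Fin n))) =
      ((pe π').trans (f3 hn)).trans (pe (σ' : Perm (Fin n)))) (Y : Cfsg.SU 3 F q) :
    A σ * ψ (emb (pe π) Y) * (A σ)⁻¹ = A σ' * ψ (emb (pe π') Y) * (A σ')⁻¹ := by
  have h' : (f3 hn).trans (pe ((σ'⁻¹ * σ : alternatingGroup (Fin n)) : Perm (Fin n))) =
      (pe (π.symm.trans π')).trans (f3 hn) := Function.Embedding.ext fun a => by
    show ((σ' : Perm (Fin n))⁻¹) ((σ : Perm (Fin n)) (f3 hn a)) = f3 hn (π' (π.symm a))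
    rw [Perm.inv_def, Equiv.symm_apply_eq]
    have := DFunLike.congr_fun h (π.symm a)
    simpa using this
  have e := D.stab_all h' (emb (pe π) Y)
  rw [emb_comp] at e
  have e' : (pe π).trans (pe (π.symm.trans π')) = pe π' := Function.Embedding.ext fun a => by simp
  rw [e', map_mul, map_inv] at e
  rw [← e]
  group

theorem exists_triple_move (e : Fin 3 ↪ Fin n) : ∃ x : Perm (Fin 3) × alternatingGroup (Fin n),
    ((pe x.1).trans (f3 hn)).trans (pe (x.2 : Perm (Fin n))) = e := by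
  obtain ⟨π, σ, h⟩ := exists_rep hn e
  exact ⟨(π, σ), h⟩

/-- The group on a triple of points. -/
noncomputable def W (e : Fin 3 ↪ Fin n) : Cfsg.SU 3 F q →* G :=
  ((MulAut.conj (A (D.exists_triple_move e).choose.2)).toMonoidHom.comp ψ).comp
    (emb (pe (D.exists_triple_move e).choose.1))

theorem W_eq {π : Perm (Fin 3)} {σ : alternatingGroup (Fin n)} {e : Fin 3 ↪ Fin n}
    (h : ((pe π).trans (f3 hn)).trans (pe (σ : Perm (Fin n))) = e) (Y : Cfsg.SU 3 F q) :
    D.W e Y = A σ * ψ (emb (pe π) Y) * (A σ)⁻¹ :=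
  D.triple_eq ((D.exists_triple_move e).choose_spec.trans h.symm) Y

theorem W_conj (σ : alternatingGroup (Fin n)) (e : Fin 3 ↪ Fin n) (Y : Cfsg.SU 3 F q) :
    A σ * D.W e Y * (A σ)⁻¹ = D.W (e.trans (pe (σ : Perm (Fin n)))) Y := by
  obtain ⟨⟨π, τ⟩, hτ⟩ := D.exists_triple_move e
  rw [D.W_eq hτ, D.W_eq (π := π) (σ := σ * τ) (Function.Embedding.ext fun a => by
    show (σ : Perm (Fin n)) ((τ : Perm (Fin n)) (f3 hn (π a))) = (σ : Perm (Fin n)) (e a)
    rw [← hτ]; rfl), map_mul]
  group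

theorem W_f3 (Y : Cfsg.SU 3 F q) : D.W (f3 hn) Y = ψ Y := by
  rw [D.W_eq (e := f3 hn) (π := 1) (σ := 1) (Function.Embedding.ext fun a => rfl), map_one,
    show (pe (1 : Perm (Fin 3))) = Function.Embedding.refl _ from rfl, emb_refl]
  group

theorem W_relabel (π : Perm (Fin 3)) (e : Fin 3 ↪ Fin n) (Y : Cfsg.SU 3 F q) :
    D.W ((pe π).trans e) Y = D.W e (emb (pe π) Y) := by
  obtain ⟨⟨π', τ⟩, hτ⟩ := D.exists_triple_move e
  rw [D.W_eq hτ, emb_comp, D.W_eq (π := π.trans π') (σ := τ) (Function.Embedding.ext fun a => by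
    show (τ : Perm (Fin n)) (f3 hn (π' (π a))) = e (π a)
    rw [← hτ]; rfl)]
  rfl

theorem W_pair (e : Fin 3 ↪ Fin n) (p : Fin 2 ↪ Fin 3) (X : Cfsg.SU 2 F q) :
    D.W e (emb p X) = D.V (p.trans e) X := by
  obtain ⟨⟨π, τ⟩, hτ⟩ := D.exists_triple_move e
  rw [D.W_eq hτ, emb_comp, D.psi_pair, D.V_conj]
  congr 1
  rw [← hτ]; rfl

/-- Distant pairs commute. -/
theorem commute_pairs (p p' : Fin 2 ↪ Fin n) (h : ∀ a b, p a ≠ p' b) (X Y : Cfsg.SU 2 F q) :
    Commute (D.V p X) (D.V p' Y) := by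
  have hy : Function.Injective ![p 0, p 1, p' 0, p' 1] := by
    intro a b e
    fin_cases a <;> fin_cases b <;> first
      | rfl
      | (exfalso; revert e; simp [h, fun a b => (h a b).symm, p.injective.eq_iff, p'.injective.eq_iff])
  have base : ∀ (σ : alternatingGroup (Fin n)) X Y, Commute (D.V ((p0 hn).trans (pe (σ : Perm (Fin n)))) X)
      (D.V (((p0 hn).trans (pe (π4 hn : Perm (Fin n)))).trans (pe (σ : Perm (Fin n)))) Y) := fun σ X Y => by
    rw [← D.V_conj, ← D.V_conj, D.V_p0, ← D.V_conj, D.V_p0]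
    exact (D.far X Y).map (MulAut.conj (A σ)).toMonoidHom
  have e2 : ∀ a : Fin 2, (π4 hn : Perm (Fin n)) (p0 hn a) = first hn (![2, 3] a : Fin 4) := fun a => by
    rw [show p0 hn a = first hn (Fin.castLE (by omega) a : Fin 4) from Fin.ext (by simp [first]), π4, dbl_apply]
    fin_cases a <;> rfl
  obtain ⟨σ, hσ | hσ⟩ := exists_even (first hn) ![p 0, p 1, p' 0, p' 1] (first_injective hn) hy 2 3 (by decide)
  · have h1 : (p0 hn).trans (pe (σ : Perm (Fin n))) = p := Function.Embedding.ext fun a => by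
      fin_cases a <;> [exact (congrArg _ (Fin.ext rfl)).trans (hσ 0); exact (congrArg _ (Fin.ext rfl)).trans (hσ 1)]
    have h2 : ((p0 hn).trans (pe (π4 hn : Perm (Fin n)))).trans (pe (σ : Perm (Fin n))) = p' :=
      Function.Embedding.ext fun a => by
        show (σ : Perm (Fin n)) _ = _
        rw [show ((p0 hn).trans (pe (π4 hn : Perm (Fin n)))) a = _ from e2 a]
        fin_cases a <;> [exact hσ 2; exact hσ 3]
    rw [← h1, ← h2]; exact base σ X Y
  · have h1 : (p0 hn).trans (pe (σ : Perm (Fin n))) = p := Function.Embedding.ext fun a => by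
      fin_cases a <;> [exact (congrArg _ (Fin.ext rfl)).trans (hσ 0); exact (congrArg _ (Fin.ext rfl)).trans (hσ 1)]
    have h2 : ((p0 hn).trans (pe (π4 hn : Perm (Fin n)))).trans (pe (σ : Perm (Fin n))) =
        (pe (Equiv.swap 0 1)).trans p' :=
      Function.Embedding.ext fun a => by
        show (σ : Perm (Fin n)) _ = _
        rw [show ((p0 hn).trans (pe (π4 hn : Perm (Fin n)))) a = _ from e2 a]
        fin_cases a <;> [exact hσ 3; exact hσ 2]
    have e3 := base σ X (emb (pe (Equiv.swap 0 1)) Y)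
    rw [h1, h2, D.V_swap, emb_comp, show (pe (Equiv.swap (0 : Fin 2) 1)).trans (pe (Equiv.swap 0 1)) =
      Function.Embedding.refl _ from Function.Embedding.ext fun a => by simp, emb_refl] at e3
    exact e3

/-- A triple commutes with a distant pair. -/
theorem commute_triple_pair (e : Fin 3 ↪ Fin n) (p : Fin 2 ↪ Fin n) (h : ∀ a b, e a ≠ p b)
    (X : Cfsg.SU 3 F q) (Y : Cfsg.SU 2 F q) : Commute (D.W e X) (D.V p Y) := by
  have hX : X ∈ Subgroup.closure (Set.range (emb (F := F) (q := q) (win 0 2 3 (by omega))) ∪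
      Set.range (emb (F := F) (q := q) (win 1 2 3 (by omega))) ∪ T) := by rw [D.gen]; trivial
  induction hX using Subgroup.closure_induction with
  | one => rw [map_one]; exact Commute.one_left _
  | mul a b _ _ ha hb => rw [map_mul]; exact ha.mul_left hb
  | inv a _ ha => rw [map_inv]; exact ha.inv_left
  | mem x hx =>
    rcases hx with (⟨Z, rfl⟩ | ⟨Z, rfl⟩) | ht
    · rw [D.W_pair]; exact D.commute_pairs _ _ (fun a b => h _ b) _ _
    · rw [D.W_pair]; exact D.commute_pairs _ _ (fun a b => h _ b) _ _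
    · have hy : Function.Injective ![e 0, e 1, e 2, p 0, p 1] := by
        intro a b he
        fin_cases a <;> fin_cases b <;> first
          | rfl
          | (exfalso; revert he; simp [h, fun a b => (h a b).symm, e.injective.eq_iff, p.injective.eq_iff])
      have h5 : 5 ≤ n := by simpa using Fintype.card_le_of_injective _ hy
      obtain ⟨τ, hτ, hcom⟩ := D.vu x ht h5
      have base : ∀ (σ : alternatingGroup (Fin n)) Y, Commute (D.W ((f3 hn).trans (pe (σ : Perm (Fin n)))) x)
          (D.V ((win 3 2 n (by omega)).trans (pe (σ : Perm (Fin n)))) Y) := fun σ Y => by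
        rw [← D.W_conj, ← D.V_conj, D.W_f3, D.V_eq hτ]
        exact (hcom Y).map (MulAut.conj (A σ)).toMonoidHom
      obtain ⟨σ, hσ | hσ⟩ := exists_even (win 0 5 n (by omega)) ![e 0, e 1, e 2, p 0, p 1]
        (win 0 5 n (by omega)).injective hy 3 4 (by decide)
      · have h1 : (f3 hn).trans (pe (σ : Perm (Fin n))) = e := Function.Embedding.ext fun a => by
          fin_cases a <;> [exact (congrArg _ (Fin.ext rfl)).trans (hσ 0);
            exact (congrArg _ (Fin.ext rfl)).trans (hσ 1); exact (congrArg _ (Fin.ext rfl)).trans (hσ 2)]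
        have h2 : (win 3 2 n (by omega)).trans (pe (σ : Perm (Fin n))) = p := Function.Embedding.ext fun a => by
          fin_cases a <;> [exact (congrArg _ (Fin.ext rfl)).trans (hσ 3); exact (congrArg _ (Fin.ext rfl)).trans (hσ 4)]
        rw [← h1, ← h2]; exact base σ Y
      · have h1 : (f3 hn).trans (pe (σ : Perm (Fin n))) = e := Function.Embedding.ext fun a => by
          fin_cases a <;> [exact (congrArg _ (Fin.ext rfl)).trans (hσ 0);
            exact (congrArg _ (Fin.ext rfl)).trans (hσ 1); exact (congrArg _ (Fin.ext rfl)).trans (hσ 2)]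
        have h2 : (win 3 2 n (by omega)).trans (pe (σ : Perm (Fin n))) = (pe (Equiv.swap 0 1)).trans p :=
          Function.Embedding.ext fun a => by
            fin_cases a <;> [exact (congrArg _ (Fin.ext rfl)).trans (hσ 4); exact (congrArg _ (Fin.ext rfl)).trans (hσ 3)]
        have e3 := base σ (emb (pe (Equiv.swap 0 1)) Y)
        rw [h1, h2, D.V_swap, emb_comp, show (pe (Equiv.swap (0 : Fin 2) 1)).trans (pe (Equiv.swap 0 1)) =
          Function.Embedding.refl _ from Function.Embedding.ext fun a => by simp, emb_refl] at e3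
        exact e3

/-- Distant triples commute. -/
theorem commute_triples (e e' : Fin 3 ↪ Fin n) (h : ∀ a b, e a ≠ e' b) (X Y : Cfsg.SU 3 F q) :
    Commute (D.W e X) (D.W e' Y) := by
  have hY : Y ∈ Subgroup.closure (Set.range (emb (F := F) (q := q) (win 0 2 3 (by omega))) ∪
      Set.range (emb (F := F) (q := q) (win 1 2 3 (by omega))) ∪ T) := by rw [D.gen]; trivial
  induction hY using Subgroup.closure_induction with
  | one => rw [map_one]; exact Commute.one_right _
  | mul a b _ _ ha hb => rw [map_mul]; exact ha.mul_right hb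
  | inv a _ ha => rw [map_inv]; exact ha.inv_right
  | mem y hy0 =>
    rcases hy0 with (⟨Z, rfl⟩ | ⟨Z, rfl⟩) | hty
    · rw [D.W_pair]; exact D.commute_triple_pair _ _ (fun a b => h a _) _ _
    · rw [D.W_pair]; exact D.commute_triple_pair _ _ (fun a b => h a _) _ _
    · have hX : X ∈ Subgroup.closure (Set.range (emb (F := F) (q := q) (win 0 2 3 (by omega))) ∪
          Set.range (emb (F := F) (q := q) (win 1 2 3 (by omega))) ∪ T) := by rw [D.gen]; trivial
      induction hX using Subgroup.closure_induction with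
      | one => rw [map_one]; exact Commute.one_left _
      | mul a b _ _ ha hb => rw [map_mul]; exact ha.mul_left hb
      | inv a _ ha => rw [map_inv]; exact ha.inv_left
      | mem x hx =>
        rcases hx with (⟨Z, rfl⟩ | ⟨Z, rfl⟩) | htx
        · rw [D.W_pair]; exact (D.commute_triple_pair _ _ (fun a b => (h _ a).symm) _ _).symm
        · rw [D.W_pair]; exact (D.commute_triple_pair _ _ (fun a b => (h _ a).symm) _ _).symm
        · have hy : Function.Injective ![e 0, e 1, e 2, e' 0, e' 1, e' 2] := by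
            intro a b he
            fin_cases a <;> fin_cases b <;> first
              | rfl
              | (exfalso; revert he; simp [h, fun a b => (h a b).symm, e.injective.eq_iff, e'.injective.eq_iff])
          have h6 : 6 ≤ n := by simpa using Fintype.card_le_of_injective _ hy
          obtain ⟨π, τ, hτ, hcom⟩ := D.vv x htx y hty h6
          have base : ∀ σ : alternatingGroup (Fin n), Commute (D.W ((f3 hn).trans (pe (σ : Perm (Fin n)))) x)
              (D.W ((win 3 3 n (by omega)).trans (pe (σ : Perm (Fin n)))) y) := fun σ => by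
            rw [← D.W_conj, ← D.W_conj, D.W_f3, D.W_eq hτ]
            exact hcom.map (MulAut.conj (A σ)).toMonoidHom
          obtain ⟨σ, hσ | hσ⟩ := exists_even (win 0 6 n (by omega)) ![e 0, e 1, e 2, e' 0, e' 1, e' 2]
            (win 0 6 n (by omega)).injective hy 3 4 (by decide)
          · have h1 : (f3 hn).trans (pe (σ : Perm (Fin n))) = e := Function.Embedding.ext fun a => by
              fin_cases a <;> [exact (congrArg _ (Fin.ext rfl)).trans (hσ 0);
                exact (congrArg _ (Fin.ext rfl)).trans (hσ 1); exact (congrArg _ (Fin.ext rfl)).trans (hσ 2)]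
            have h2 : (win 3 3 n (by omega)).trans (pe (σ : Perm (Fin n))) = e' := Function.Embedding.ext fun a => by
              fin_cases a <;> [exact (congrArg _ (Fin.ext rfl)).trans (hσ 3);
                exact (congrArg _ (Fin.ext rfl)).trans (hσ 4); exact (congrArg _ (Fin.ext rfl)).trans (hσ 5)]
            rw [← h1, ← h2]; exact base σ
          · have h1 : (f3 hn).trans (pe (σ : Perm (Fin n))) = e := Function.Embedding.ext fun a => by
              fin_cases a <;> [exact (congrArg _ (Fin.ext rfl)).trans (hσ 0);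
                exact (congrArg _ (Fin.ext rfl)).trans (hσ 1); exact (congrArg _ (Fin.ext rfl)).trans (hσ 2)]
            have h2 : (win 3 3 n (by omega)).trans (pe (σ : Perm (Fin n))) = (pe (Equiv.swap 0 1)).trans e' :=
              Function.Embedding.ext fun a => by
                fin_cases a <;> [exact (congrArg _ (Fin.ext rfl)).trans (hσ 4);
                  exact (congrArg _ (Fin.ext rfl)).trans (hσ 3); exact (congrArg _ (Fin.ext rfl)).trans (hσ 5)]
            have e3 := base σ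
            rw [h1, h2, D.W_relabel, D.swapT y hty] at e3
            exact e3

variable (hF : Nat.card F = q ^ 2)

include hF in
/-- **The data glue.** -/
theorem exists_map : ∃ Φ : Cfsg.SU n F q →* G,
    (∀ X, Φ (emb (f3 hn) X) = ψ X) ∧ ∀ σ, Φ (PM σ) = A σ := by
  classical
  obtain ⟨N, rfl⟩ : ∃ N, n = N + 1 := ⟨n - 1, by omega⟩
  let C : Chain F q N G :=
    { u := fun i => if h : i + 2 ≤ N + 1 then D.V (win i 2 (N + 1) h) else 1
      ψ := fun i => if h : i + 3 ≤ N + 1 then D.W (win i 3 (N + 1) h) else 1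
      h01 := fun i hi X => by
        rw [dif_pos (show i + 3 ≤ N + 1 by omega), dif_pos (show i + 2 ≤ N + 1 by omega), D.W_pair]
        congr 2
        exact Function.Embedding.ext fun a => Fin.ext (by simp)
      h12 := fun i hi X => by
        rw [dif_pos (show i + 3 ≤ N + 1 by omega), dif_pos (show i + 1 + 2 ≤ N + 1 by omega), D.W_pair]
        congr 2
        exact Function.Embedding.ext fun a => Fin.ext (by simp; omega)
      uu := fun i j hij hj X Y => by
        rw [dif_pos (show i + 2 ≤ N + 1 by omega), dif_pos (show j + 2 ≤ N + 1 by omega)]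
        exact D.commute_pairs _ _ (fun a b e => by have := congrArg Fin.val e; simp at this; omega) _ _
      uv := fun i j hij hj X Y => by
        rw [dif_pos (show i + 2 ≤ N + 1 by omega), dif_pos (show j + 3 ≤ N + 1 by omega)]
        exact (D.commute_triple_pair _ _ (fun a b e => by have := congrArg Fin.val e; simp at this; omega) _ _).symm
      vu := fun i j hij hj X Y => by
        rw [dif_pos (show i + 3 ≤ N + 1 by omega), dif_pos (show j + 2 ≤ N + 1 by omega)]
        exact D.commute_triple_pair _ _ (fun a b e => by have := congrArg Fin.val e; simp at this; omega) _ _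
      vv := fun i j hij hj X Y => by
        rw [dif_pos (show i + 3 ≤ N + 1 by omega), dif_pos (show j + 3 ≤ N + 1 by omega)]
        exact D.commute_triples _ _ (fun a b e => by have := congrArg Fin.val e; simp at this; omega) _ _ }
  have hbase : 4 ≤ q ∨ ∀ a, a + 4 ≤ N + 1 → ∃ Φ, C.Fit a 4 Φ := by
    rcases D.base with h | ⟨Φ, hΦ, hP⟩
    · exact Or.inl h
    refine Or.inr fun a ha => ?_
    obtain ⟨π, σ, hσ⟩ : ∃ (π : Perm (Fin 4)) (σ : alternatingGroup (Fin (N + 1))),
        ((pe π).trans (win 0 4 (N + 1) (by omega))).trans (pe (σ : Perm (Fin (N + 1)))) = win a 4 (N + 1) ha := by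
      obtain ⟨σ, h | h⟩ := exists_even (win 0 4 (N + 1) (by omega)) (win a 4 (N + 1) ha)
        (win 0 4 (N + 1) (by omega)).injective (win a 4 (N + 1) ha).injective 0 1 (by decide)
      · exact ⟨1, σ, Function.Embedding.ext h⟩
      · exact ⟨Equiv.swap 0 1, σ, Function.Embedding.ext h⟩
    refine ⟨((MulAut.conj (A σ)).toMonoidHom.comp Φ).comp (emb (pe π)), fun i hi X => ?_⟩
    show A σ * Φ (emb (pe π) (emb (win i 3 4 hi) X)) * (A σ)⁻¹ = _
    rw [emb_comp]
    obtain ⟨π', σ', he⟩ := exists_rep (n := 4) le_rfl ((win i 3 4 hi).trans (pe π))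
    rw [← he, ← PM_conj_emb, ← emb_comp, map_mul, map_mul, map_inv, hΦ, hP, ← D.W_f3 (emb (pe π') X),
      D.W_conj, D.W_conj, ← D.W_relabel]
    show _ = (if h : a + i + 3 ≤ N + 1 then D.W (win (a + i) 3 (N + 1) h) else 1) X
    rw [dif_pos (show a + i + 3 ≤ N + 1 by omega)]
    congr 2
    refine Function.Embedding.ext fun b => ?_
    show (σ : Perm (Fin (N + 1))) ((altEmb (win 0 4 (N + 1) (by omega)) σ' : Perm (Fin (N + 1)))
      (f3 hn (π' b))) = _
    rw [show f3 hn (π' b) = win 0 4 (N + 1) (by omega) (win 0 3 4 (by omega) (π' b)) from Fin.ext (by simp),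
      altEmb_apply]
    have e1 : (σ' : Perm (Fin 4)) (win 0 3 4 (by omega) (π' b)) = π (win i 3 4 hi b) := DFunLike.congr_fun he b
    rw [e1, show (σ : Perm (Fin (N + 1))) (win 0 4 (N + 1) (by omega) (π (win i 3 4 hi b))) = _ from
      DFunLike.congr_fun hσ (win i 3 4 hi b)]
    exact Fin.ext (by simp; omega)
  obtain ⟨Φ, hΦ⟩ := C.exists_hom hF (by omega) hbase
  have hW : ∀ i (h : i + 3 ≤ N + 1) X, Φ (emb (win i 3 (N + 1) h) X) = D.W (win i 3 (N + 1) h) X := fun i h X => by
    rw [hΦ i h]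
    show (if h : i + 3 ≤ N + 1 then D.W (win i 3 (N + 1) h) else 1) X = _
    rw [dif_pos h]
  refine ⟨Φ, fun X => (hW 0 (by omega) X).trans (D.W_f3 X), ?_⟩
  have key : ((Φ.comp PM).eqLocus A) = ⊤ := by
    refine alt_adjacent _ fun i j σ hij hσ => ?_
    have hi : i.1 + 3 ≤ N + 1 := by omega
    have e0 : σ = altEmb (win i.1 3 (N + 1) hi) c012 := by
      have hc : cyc (win i.1 3 (N + 1) hi 0) (win i.1 3 (N + 1) hi 1) (win i.1 3 (N + 1) hi 2) =
          altEmb (win i.1 3 (N + 1) hi) c012 := (altEmb_cyc _ (by decide) (by decide)).symm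
      rw [← hc]
      refine Subtype.ext (hσ.trans ?_)
      rw [cyc_val (by simp [Fin.ext_iff]) (by simp [Fin.ext_iff]),
        show i.castSucc = win i.1 3 (N + 1) hi 0 from Fin.ext (by simp),
        show i.succ = win i.1 3 (N + 1) hi 1 from Fin.ext (by simp),
        show j.castSucc = win i.1 3 (N + 1) hi 1 from Fin.ext (by simp; omega),
        show j.succ = win i.1 3 (N + 1) hi 2 from Fin.ext (by simp; omega)]
      set x := win i.1 3 (N + 1) hi with hx
      have hne : ∀ a b : Fin 3, a ≠ b → x a ≠ x b := fun a b h => x.injective.ne h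
      refine Equiv.ext fun y => ?_
      by_cases h0 : y = x 0
      · subst h0; simp [swap_apply_of_ne_of_ne, hne]
      by_cases h1 : y = x 1
      · subst h1; simp [swap_apply_of_ne_of_ne, hne]
      by_cases h2 : y = x 2
      · subst h2; simp [swap_apply_of_ne_of_ne, hne]
      simp [swap_apply_of_ne_of_ne, h0, h1, h2]
    show Φ (PM σ) = A σ
    obtain ⟨π, τ, he⟩ := exists_rep (n := N + 1) hn (win i.1 3 (N + 1) hi)
    rw [e0, ← emb_PM, hW, D.W_eq he, emb_PM, ← D.rot_all, ← map_inv, ← map_mul, ← map_mul, altEmb_comp,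
      altEmb_move]
    congr 3
  exact fun σ => (show σ ∈ (Φ.comp PM).eqLocus A by rw [key]; trivial)

end Glue

end CfsgLib.SUShort
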