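import Cfsg.Agent.Phan.Chain
import Cfsg.Agent.BPres.SLn

/-!
Permutation matrices inside the special unitary group.
-/

set_option autoImplicit false
set_option linter.unusedSectionVars false
set_option linter.style.haveILetI false

namespace CfsgLib.SUShort

open Matrix CfsgLib.Forms CfsgLib.Unitary CfsgLib.Phan CfsgLib.BPres Equiv

/-- Every embedding of three points is an even move of a relabelling of the first three. -/
theorem exists_rep {n : ℕ} (hn : 4 ≤ n) (e : Fin 3 ↪ Fin n) :
    ∃ (π : Perm (Fin 3)) (σ : alternatingGroup (Fin n)),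
      (π.toEmbedding.trans (win 0 3 n (by omega))).trans (σ : Perm (Fin n)).toEmbedding = e := by
  obtain ⟨σ, h | h⟩ := exists_even (win 0 3 n (by omega)) e (win 0 3 n (by omega)).injective e.injective 0 1
    (by decide)
  · exact ⟨1, σ, Function.Embedding.ext h⟩
  · exact ⟨Equiv.swap 0 1, σ, Function.Embedding.ext h⟩

variable {F : Type*} [Field F] [Finite F] {q n m : ℕ} (hF : Nat.card F = q ^ 2)

theorem perm_mulVec (σ : Perm (Fin n)) (x : Fin n → F) : (σ⁻¹).permMatrix F *ᵥ x = x ∘ σ.symm := by
  rw [Matrix.permMatrix_mulVec]; rfl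

/-- The permutation matrices. -/
noncomputable def PM : alternatingGroup (Fin n) →* Cfsg.SU n F q where
  toFun σ := ⟨⟨(σ : Perm (Fin n))⁻¹.permMatrix F, by
      rw [det_permutation, Perm.sign_inv, show Perm.sign (σ : Perm (Fin n)) = 1 from σ.2]; simp⟩,
    fun x y => by
      show Cfsg.hermForm n F q ((σ : Perm (Fin n))⁻¹.permMatrix F *ᵥ x)
        ((σ : Perm (Fin n))⁻¹.permMatrix F *ᵥ y) = _
      rw [perm_mulVec, perm_mulVec]
      unfold Cfsg.hermForm
      exact Equiv.sum_comp (σ : Perm (Fin n)).symm fun i => x i * y i ^ q⟩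
  map_one' := Subtype.ext (Subtype.ext permMatrix_one)
  map_mul' σ τ := Subtype.ext (Subtype.ext (by
    show ((σ : Perm (Fin n)) * τ)⁻¹.permMatrix F = _ * _
    rw [_root_.mul_inv_rev, permMatrix_mul]))

theorem act_PM (σ : alternatingGroup (Fin n)) (x : Fin n → F) :
    act (PM σ : Cfsg.SU n F q) x = x ∘ (σ : Perm (Fin n)).symm := perm_mulVec _ _

theorem act_PM_ev (σ : alternatingGroup (Fin n)) (j : Fin n) :
    act (PM σ : Cfsg.SU n F q) (ev j) = ev ((σ : Perm (Fin n)) j) := by
  classical
  rw [act_PM]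
  funext i
  simp [ev, Pi.single_apply, Equiv.symm_apply_eq]

theorem extend_comp_perm (f : Fin m ↪ Fin n) (σ : Perm (Fin n)) (v : Fin m → F) :
    Function.extend f v 0 ∘ σ.symm = Function.extend (f.trans σ.toEmbedding) v 0 := by
  funext i
  obtain ⟨i, rfl⟩ := σ.surjective i
  rw [Function.comp_apply, σ.symm_apply_apply]
  by_cases hi : i ∈ Set.range f
  · obtain ⟨b, rfl⟩ := hi
    rw [f.injective.extend_apply, show σ (f b) = f.trans σ.toEmbedding b from rfl,
      (f.trans σ.toEmbedding).injective.extend_apply]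
  · rw [Function.extend_apply' _ _ _ (by rintro ⟨b, hb⟩; exact hi ⟨b, hb⟩),
      Function.extend_apply' _ _ _ (by rintro ⟨b, hb⟩; exact hi ⟨b, σ.injective hb⟩)]
    rfl

/-- Conjugating a block by a permutation moves it. -/
theorem PM_conj_emb (σ : alternatingGroup (Fin n)) (f : Fin m ↪ Fin n) (X : Cfsg.SU m F q) :
    PM σ * emb f X * (PM σ)⁻¹ = emb (f.trans (σ : Perm (Fin n)).toEmbedding) X := by
  rw [mul_inv_eq_iff_eq_mul]
  refine act_eq_of_basis fun j => ?_
  rw [act_mul, act_mul, act_PM_ev]
  by_cases hj : j ∈ Set.range f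
  · obtain ⟨a, rfl⟩ := hj
    rw [act_emb_ev, show (σ : Perm (Fin n)) (f a) = f.trans (σ : Perm (Fin n)).toEmbedding a from rfl,
      act_emb_ev, act_PM, extend_comp_perm]
  · rw [act_emb_outside f X hj, act_PM_ev, act_emb_outside _ X]
    rintro ⟨b, hb⟩
    exact hj ⟨b, (σ : Perm (Fin n)).injective hb⟩

/-- A permutation matrix inside a block. -/
theorem emb_PM (f : Fin m ↪ Fin n) (π : alternatingGroup (Fin m)) :
    emb f (PM π : Cfsg.SU m F q) = PM (altEmb f π) := by
  refine act_eq_of_basis fun j => ?_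
  rw [act_PM_ev]
  by_cases hj : j ∈ Set.range f
  · obtain ⟨a, rfl⟩ := hj
    rw [act_emb_ev, act_PM_ev, extend_ev, altEmb_apply]
  · rw [act_emb_outside f _ hj, altEmb_apply_outside f π hj]

theorem emb_refl (X : Cfsg.SU n F q) : emb (Function.Embedding.refl (Fin n)) X = X := by
  refine act_eq_of_basis fun j => ?_
  conv_lhs => rw [show j = Function.Embedding.refl (Fin n) j from rfl, act_emb_ev]
  funext a
  exact (Function.Embedding.refl (Fin n)).injective.extend_apply _ _ a

theorem PM_conj (σ : alternatingGroup (Fin n)) (X : Cfsg.SU n F q) :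
    PM σ * X * (PM σ)⁻¹ = emb (σ : Perm (Fin n)).toEmbedding X := by
  conv_lhs => rw [← emb_refl X, PM_conj_emb]
  rfl

include hF in
/-- A block on three points and the permutations generate. -/
theorem closure_block_PM (hn : 4 ≤ n) (K : Subgroup (Cfsg.SU n F q))
    (h3 : ∀ X : Cfsg.SU 3 F q, emb (win 0 3 n (by omega)) X ∈ K) (hP : ∀ σ, PM σ ∈ K) : K = ⊤ := by
  classical
  have hwin : ∀ k, 3 ≤ k → ∀ i (h : i + k ≤ n), ∀ X, emb (win i k n h) X ∈ K := by
    intro k hk
    induction k, hk using Nat.le_induction with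
    | base =>
      intro i h X
      obtain ⟨π, σ, e⟩ := exists_rep (n := n) hn (win i 3 n h)
      rw [← e, ← PM_conj_emb, ← emb_comp]
      exact K.mul_mem (K.mul_mem (hP σ) (h3 _)) (K.inv_mem (hP σ))
    | succ k hk ih =>
      intro i h X
      have hX : X ∈ (emb (F := F) (q := q) (win 0 k (k + 1) (by omega))).range ⊔
          (emb (F := F) (q := q) (win 1 k (k + 1) (by omega))).range := by
        rw [sup_blocks_eq_top hF (by omega) (fun e => absurd e (by omega))]; trivial
      have hle : (emb (F := F) (q := q) (win 0 k (k + 1) (by omega))).range ⊔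
          (emb (F := F) (q := q) (win 1 k (k + 1) (by omega))).range ≤
          K.comap (emb (win i (k + 1) n h)) := by
        refine sup_le ?_ ?_ <;> rintro _ ⟨Y, rfl⟩ <;>
          · show emb _ (emb _ Y) ∈ K
            rw [emb_win]
            exact ih _ (by omega) Y
      exact hle hX
  refine (Subgroup.eq_top_iff' K).2 fun X => ?_
  have := hwin n (by omega) 0 (by omega) X
  rwa [emb_win_self] at this

/-- A subgroup with all products of two adjacent transpositions is everything. -/
theorem alt_adjacent {N : ℕ} (S : Subgroup (alternatingGroup (Fin (N + 1))))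
    (h : ∀ (i j : Fin N) (σ : alternatingGroup (Fin (N + 1))), i.1 + 1 = j.1 →
      (σ : Perm (Fin (N + 1))) = Equiv.swap i.castSucc i.succ * Equiv.swap j.castSucc j.succ → σ ∈ S) :
    S = ⊤ := by
  classical
  let s : Fin N → Perm (Fin (N + 1)) := fun i => Equiv.swap i.castSucc i.succ
  let S' := S.map (alternatingGroup (Fin (N + 1))).subtype
  have hsq : ∀ i, s i * s i = 1 := fun i => Equiv.swap_mul_self _ _
  have hsign : ∀ i, Perm.sign (s i) = -1 := fun i => Perm.sign_swap i.castSucc_lt_succ.ne
  have hadj : ∀ i j : Fin N, i.1 + 1 = j.1 → s i * s j ∈ S' := fun i j e =>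
    ⟨⟨s i * s j, Perm.mem_alternatingGroup.2 (by rw [map_mul, hsign, hsign]; decide)⟩, h i j _ e rfl, rfl⟩
  have hle : ∀ d (i j : Fin N), i.1 + d = j.1 → s i * s j ∈ S' := by
    intro d
    induction d with
    | zero =>
      intro i j e
      obtain rfl : i = j := Fin.ext (by omega)
      rw [hsq]; exact one_mem _
    | succ d ih =>
      intro i j e
      have := S'.mul_mem (ih i ⟨i.1 + d, by omega⟩ rfl) (hadj ⟨i.1 + d, by omega⟩ j e)
      rwa [mul_assoc, ← mul_assoc (s ⟨i.1 + d, by omega⟩), hsq, one_mul] at this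
  have hall : ∀ i j : Fin N, s i * s j ∈ S' := by
    intro i j
    rcases le_total i.1 j.1 with e | e
    · exact hle (j.1 - i.1) i j (by omega)
    · have := S'.inv_mem (hle (i.1 - j.1) j i (by omega))
      rwa [_root_.mul_inv_rev, Equiv.swap_inv, Equiv.swap_inv] at this
  rcases Nat.eq_zero_or_pos N with rfl | hN
  · exact (Subgroup.eq_top_iff' S).2 fun σ => by
      rw [show σ = 1 from Subtype.ext (Equiv.ext fun x => Fin.ext (by omega))]; exact one_mem _
  set i0 : Fin N := ⟨0, hN⟩
  have key : ∀ x : Perm (Fin (N + 1)), (Perm.sign x = 1 → x ∈ S') ∧ (Perm.sign x = -1 → s i0 * x ∈ S') := by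
    intro x
    have hx : x ∈ Submonoid.closure (Set.range s) := by
      rw [show Set.range s = Set.range fun i : Fin N => Equiv.swap i.castSucc i.succ from rfl,
        Equiv.Perm.mclosure_swap_castSucc_succ]
      trivial
    induction hx using Submonoid.closure_induction_left with
    | one => exact ⟨fun _ => one_mem _, fun e => absurd (Perm.sign_one.symm.trans e) (by decide)⟩
    | mul_left y hy x _ ih =>
      obtain ⟨i, rfl⟩ := hy
      rw [map_mul, hsign]
      rcases Int.units_eq_one_or (Perm.sign x) with hs | hs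
      · refine ⟨fun e => absurd (e.symm.trans (by rw [hs])) (by decide), fun _ => ?_⟩
        rw [← mul_assoc]
        exact S'.mul_mem (hall i0 i) (ih.1 hs)
      · refine ⟨fun _ => ?_, fun e => absurd (e.symm.trans (by rw [hs])) (by decide)⟩
        have := S'.mul_mem (hall i i0) (ih.2 hs)
        rwa [mul_assoc, ← mul_assoc (s i0), hsq, one_mul] at this
  refine (Subgroup.eq_top_iff' S).2 fun σ => ?_
  obtain ⟨τ, hτ, e⟩ := (key σ).1 σ.2
  rwa [Subtype.ext e] at hτ

end CfsgLib.SUShort
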