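import Cfsg.Agent.SUShort.Core
import Cfsg.Agent.SUShort.Amalg
import Cfsg.Agent.SLShort.Glue
import Cfsg.Agent.Unitary.Two
import Cfsg.Agent.Unitary.Special

/-!
Short presentations of the special unitary groups from a block and an alternating group.
-/

set_option autoImplicit false
set_option linter.unusedSectionVars false
set_option linter.style.haveILetI false

namespace CfsgLib.SUShort

open CfsgLib.Phan CfsgLib.BPres CfsgLib.SLShort CfsgLib.Forms CfsgLib.Unitary Equiv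

variable {F : Type*} [Field F] [Finite F] {q n : ℕ}

theorem exists_gens_su2 (hF : Nat.card F = q ^ 2) :
    ∃ y : Fin 2 → Cfsg.SU 2 F q, Subgroup.closure (Set.range y) = ⊤ := by
  classical
  obtain ⟨p, k, -, hp, hq⟩ := exists_charP_pow hF
  haveI : Fact p.Prime := ⟨hp⟩
  have hk : k ≠ 0 := by
    rintro rfl
    have := two_le_q hF
    rw [hq, pow_zero] at this
    omega
  haveI : Fintype (GaloisField p k) := Fintype.ofFinite _
  obtain ⟨e⟩ := su_two_iso hF (K := GaloisField p k) (by rw [GaloisField.card p k hk, hq])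
  obtain ⟨y, hy⟩ := exists_flip_gen (F := GaloisField p k)
  refine ⟨![e.symm y, e.symm (flip2 y)], ?_⟩
  rw [show Set.range ![e.symm y, e.symm (flip2 y)] = e.symm.toMonoidHom '' {y, flip2 y} by
      simp [Matrix.range_cons, Matrix.range_empty, Set.image_insert_eq, Set.pair_comm],
    ← MonoidHom.map_closure, hy, ← MonoidHom.range_eq_map, MonoidHom.range_eq_top]
  exact e.symm.surjective

/-- The relation saying that `a` conjugates `x` to `y`. -/
def conjRel {K A : Type*} [Group K] [Group A] (a : A) (x y : K) : List (K ⊕ A) :=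
  [Sum.inr a, Sum.inl x, Sum.inr a⁻¹, Sum.inl y⁻¹]

/-- The relation saying that `x` commutes with the conjugate of `y` by `a`. -/
def farRel {K A : Type*} [Group K] [Group A] (a : A) (x y : K) : List (K ⊕ A) :=
  [Sum.inl x, Sum.inr a, Sum.inl y, Sum.inr a⁻¹, Sum.inl x⁻¹, Sum.inr a, Sum.inl y⁻¹, Sum.inr a⁻¹]

theorem eval_conjRel {K A G : Type*} [Group K] [Group A] [Group G] (ψ : K →* G) (φ : A →* G) (a : A) (x y : K) :
    evalRel ψ φ (conjRel a x y) = 1 ↔ φ a * ψ x * (φ a)⁻¹ = ψ y := by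
  conv_rhs => rw [← mul_inv_eq_one]
  simp [evalRel, conjRel, mul_assoc]

theorem eval_farRel {K A G : Type*} [Group K] [Group A] [Group G] (ψ : K →* G) (φ : A →* G) (a : A) (x y : K) :
    evalRel ψ φ (farRel a x y) = 1 ↔ Commute (ψ x) (φ a * ψ y * (φ a)⁻¹) := by
  rw [commute_iff_eq, ← mul_inv_eq_one (a := ψ x * _)]
  simp [evalRel, farRel, mul_assoc, mul_inv_rev]

theorem c3_eq' (hn : 4 ≤ n) : altEmb (f3 hn) c012 = c3 n (by omega) :=
  (altEmb_cyc (f3 hn) (show (0 : Fin 3) ≠ 1 by decide) (by decide)).trans rfl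

/-- A block containing `SU₃` and an alternating group present `SU`. -/
theorem hasPresN_SU_glue (hF : Nat.card F = q ^ 2) (hn : 4 ≤ n) {K : Type*} [Group K] {k r1 r2 s : ℕ}
    (hK : HasPresN K k r1) (hA : PresUpTo (c3 n (by omega)) r2)
    (hs : 2 ≤ s ∨ (n = 5 ∧ 1 ≤ s) ∨ n = 4)
    (ι : Cfsg.SU 3 F q →* K) (ε : K →* Cfsg.SU n F q) (hε : ∀ X, ε (ι X) = emb (f3 hn) X)
    (X : List (List (K ⊕ alternatingGroup (Fin n)))) (hX : ∀ r ∈ X, evalRel ε PM r = 1)
    (T : Set (Cfsg.SU 3 F q))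
    (huniv : ∀ (G : Type) [Group G] (Ψ : K →* G) (A : alternatingGroup (Fin n) →* G),
      A (altEmb (f3 hn) c012) = Ψ (ι (PM c012)) →
      (∀ σ : alternatingGroup (Fin n), (p0 hn).trans (pe (σ : Perm (Fin n))) = p0 hn →
        ∀ Y, Commute (A σ) (u0 (Ψ.comp ι) Y)) →
      (∀ Y, A (τ4 hn) * u0 (Ψ.comp ι) Y * (A (τ4 hn))⁻¹ = u0 (Ψ.comp ι) (emb (pe (Equiv.swap 0 1)) Y)) →
      (∀ Y Z, Commute (u0 (Ψ.comp ι) Y) (A (π4 hn) * u0 (Ψ.comp ι) Z * (A (π4 hn))⁻¹)) →
      (∀ r ∈ X, evalRel Ψ A r = 1) →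
      Glue hn (Ψ.comp ι) A T ∧
        ∀ Φ : Cfsg.SU n F q →* G, (∀ Y, Φ (emb (f3 hn) Y) = Ψ (ι Y)) → (∀ σ, Φ (PM σ) = A σ) →
          ∀ x, Φ (ε x) = Ψ x) :
    HasPresN (Cfsg.SU n F q) (k + 2) (r1 + r2 + 1 + (2 * s + 5 + X.length)) := by
  classical
  obtain ⟨y, hy⟩ := exists_gens_su2 hF
  obtain ⟨SS, hSS2, hSS4, hSS5, hSSfix, hSSgen⟩ := stab_gens hn
  set a : Fin 2 → K := fun i => ι (emb (win 0 2 3 (by omega)) (y i)) with ha
  set a' : Fin 2 → K := fun i => ι (emb (win 0 2 3 (by omega)) (emb (pe (Equiv.swap 0 1)) (y i))) with ha'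
  set R : List (List (K ⊕ alternatingGroup (Fin n))) :=
    (SS.map fun σ => conjRel σ (a 0) (a 0)) ++ (SS.map fun σ => conjRel σ (a 1) (a 1)) ++
      [conjRel (τ4 hn) (a 0) (a' 0), conjRel (τ4 hn) (a 1) (a' 1),
        farRel (π4 hn) (a 0) (a 0), farRel (π4 hn) (a 0) (a 1), farRel (π4 hn) (a 1) (a 1)] with hR
  have hfirst : ∀ b : Fin 2, first hn (Fin.castLE (by omega) b : Fin 4) = p0 hn b := fun b =>
    Fin.ext (by simp [first])
  have hfix0 : ∀ σ : alternatingGroup (Fin n), (σ : Perm (Fin n)) (first hn 0) = first hn 0 →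
      (σ : Perm (Fin n)) (first hn 1) = first hn 1 → (p0 hn).trans (pe (σ : Perm (Fin n))) = p0 hn :=
    fun σ h0 h1 => Function.Embedding.ext fun b => by
      show (σ : Perm (Fin n)) (p0 hn b) = p0 hn b
      rw [← hfirst b]
      fin_cases b <;> assumption
  -- the block inside the whole group
  have hp : (win 0 2 3 (by omega)).trans (f3 hn) = p0 hn :=
    Function.Embedding.ext fun b => Fin.ext (by simp)
  have hεa : ∀ Y, ε (ι (emb (win 0 2 3 (by omega)) Y)) = emb (p0 hn) Y := fun Y => by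
    rw [hε, emb_comp, hp]
  have hRok : ∀ r ∈ R, evalRel ε PM r = 1 := by
    intro r hr
    have hfl : ∀ i, evalRel ε PM (conjRel (τ4 hn) (a i) (a' i)) = 1 := fun i => by
      rw [eval_conjRel, ha, ha', hεa, hεa, PM_conj_emb, emb_comp]
      congr 2
      refine Function.Embedding.ext fun b => ?_
      show (τ4 hn : Perm (Fin n)) (p0 hn b) = p0 hn (Equiv.swap 0 1 b)
      rw [← hfirst, ← hfirst, τ4, dbl_apply]
      fin_cases b <;> rfl
    have hfa : ∀ i j, evalRel ε PM (farRel (π4 hn) (a i) (a j)) = 1 := fun i j => by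
      rw [eval_farRel, ha, hεa, hεa, PM_conj_emb]
      refine commute_emb _ _ (fun b b' e => ?_) _ _
      change p0 hn b = (π4 hn : Perm (Fin n)) (p0 hn b') at e
      rw [← hfirst b, ← hfirst b', π4, dbl_apply] at e
      have key : ∀ b b' : Fin 2, (Fin.castLE (show 2 ≤ 4 by decide) b : Fin 4) ≠
          Equiv.swap 0 2 (Equiv.swap 1 3 (Fin.castLE (show 2 ≤ 4 by decide) b')) := by decide
      exact key b b' (first_injective hn e)
    have hfx : ∀ σ ∈ SS, ∀ i, evalRel ε PM (conjRel σ (a i) (a i)) = 1 := fun σ hσ i => by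
      rw [eval_conjRel, ha, hεa, PM_conj_emb, hfix0 σ (hSSfix σ hσ).1 (hSSfix σ hσ).2]
    simp only [hR, List.mem_append, List.mem_map, List.mem_cons, List.not_mem_nil, or_false] at hr
    rcases hr with (⟨σ, hσ, rfl⟩ | ⟨σ, hσ, rfl⟩) | rfl | rfl | rfl | rfl | rfl
    exacts [hfx σ hσ 0, hfx σ hσ 1, hfl 0, hfl 1, hfa 0 0, hfa 0 1, hfa 1 1]
  have hSS : SS.length ≤ s := by
    rcases hs with h | ⟨h, h'⟩ | h
    · omega
    · have := hSS5 h; omega
    · have := hSS4 h; omega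
  refine HasPresN.mono (hasPresN_amalg hK (c := c3 n (by omega)) hA ε PM (ι (PM c012)) ?_ ?_ (R ++ X)
    (fun r hr => (List.mem_append.1 hr).elim (hRok r) (hX r)) ?_ ?_) ?_
  · rw [hε, emb_PM, c3_eq']
  · rw [← map_pow, ← map_pow, show c012 ^ 3 = 1 by decide +kernel, map_one, map_one]
  · refine closure_block_PM hF hn _ (fun Y => ?_) fun σ => Subgroup.mem_sup_right ⟨σ, rfl⟩
    exact Subgroup.mem_sup_left ⟨ι Y, hε Y⟩
  swap
  · simp only [hR, List.length_append, List.length_map, List.length_cons, List.length_nil]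
    omega
  intro G _ Ψ A hrot hrel
  rw [← c3_eq' hn] at hrot
  have h0 : ∀ r ∈ R, evalRel Ψ A r = 1 := fun r hr => hrel r (List.mem_append.2 (Or.inl hr))
  set u := u0 (Ψ.comp ι)
  have hu : ∀ i, u (y i) = Ψ (a i) := fun i => rfl
  have hgen2 : ∀ {f g : Cfsg.SU 2 F q →* G}, (∀ i, f (y i) = g (y i)) → f = g := fun h =>
    MonoidHom.eq_of_eqOn_dense hy (by rintro _ ⟨i, rfl⟩; exact h i)
  have hfixy : ∀ σ ∈ SS, ∀ i, Commute (A σ) (u (y i)) := by
    intro σ hσ i
    rw [hu]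
    refine mul_inv_eq_iff_eq_mul.1 ((eval_conjRel Ψ A σ (a i) (a i)).1 (h0 _ ?_))
    simp only [hR, List.mem_append, List.mem_map]
    fin_cases i
    · exact Or.inl (Or.inl ⟨σ, hσ, rfl⟩)
    · exact Or.inl (Or.inr ⟨σ, hσ, rfl⟩)
  have hflipy : ∀ i, A (τ4 hn) * u (y i) * (A (τ4 hn))⁻¹ = u (emb (pe (Equiv.swap 0 1)) (y i)) := by
    intro i
    refine (eval_conjRel Ψ A (τ4 hn) (a i) (a' i)).1 (h0 _ ?_)
    fin_cases i <;> simp [hR]
  have hfary : ∀ i j, Commute (u (y i)) (A (π4 hn) * u (y j) * (A (π4 hn))⁻¹) := by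
    intro i j
    have h01 : ∀ i j : Fin 2, i ≤ j → Commute (u (y i)) (A (π4 hn) * u (y j) * (A (π4 hn))⁻¹) := by
      intro i j hij
      refine (eval_farRel Ψ A (π4 hn) (a i) (a j)).1 (h0 _ ?_)
      fin_cases i <;> fin_cases j <;> first | (simp [hR]; done) | exact absurd hij (by decide)
    rcases le_total i j with hij | hij
    · exact h01 i j hij
    -- conjugate by the involution
    have hP : (A (π4 hn))⁻¹ = A (π4 hn) := by
      refine inv_eq_of_mul_eq_one_right ?_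
      rw [← map_mul, ← map_one A]
      congr 1
      exact perm_ext hn (fun k => by
          show (π4 hn : Perm (Fin n)) ((π4 hn : Perm (Fin n)) _) = _
          simp only [π4, dbl_apply]
          fin_cases k <;> rfl)
        fun x hx => by
          show (π4 hn : Perm (Fin n)) ((π4 hn : Perm (Fin n)) x) = _
          simp only [π4, dbl_outside hn _ _ _ _ _ _ hx]
          rfl
    have h := ((h01 j i hij).map (MulAut.conj (A (π4 hn))).toMonoidHom).symm
    simp only [MulEquiv.coe_toMonoidHom, MulAut.conj_apply, hP] at h ⊢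
    have hPP : ∀ x : G, A (π4 hn) * (A (π4 hn) * x) = x := fun x => by
      nth_rewrite 1 [← hP]; rw [inv_mul_cancel_left]
    have hPP1 : A (π4 hn) * A (π4 hn) = 1 := by simpa using hPP 1
    simpa only [mul_assoc, hPP, hPP1, mul_one] using h
  have hfix : ∀ σ : alternatingGroup (Fin n), (p0 hn).trans (pe (σ : Perm (Fin n))) = p0 hn →
      ∀ Y, Commute (A σ) (u Y) := by
    intro σ hσ
    have hm := hSSgen σ ((congrArg _ (hfirst 0)).trans ((DFunLike.congr_fun hσ 0).trans (hfirst 0).symm))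
      ((congrArg _ (hfirst 1)).trans ((DFunLike.congr_fun hσ 1).trans (hfirst 1).symm))
    clear hσ
    induction hm using Subgroup.closure_induction with
    | mem t ht =>
      intro Y
      exact mul_inv_eq_iff_eq_mul.1 (DFunLike.congr_fun
        (hgen2 (f := (MulAut.conj (A t)).toMonoidHom.comp u) (g := u) fun i =>
          mul_inv_eq_iff_eq_mul.2 (hfixy t ht i)) Y)
    | one => intro Y; rw [map_one]; exact Commute.one_left _
    | mul x z _ _ hx hz => intro Y; rw [map_mul]; exact (hx Y).mul_left (hz Y)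
    | inv x _ hx => intro Y; rw [map_inv]; exact (hx Y).inv_left
  have hflip : ∀ Y, A (τ4 hn) * u Y * (A (τ4 hn))⁻¹ = u (emb (pe (Equiv.swap 0 1)) Y) :=
    DFunLike.congr_fun (hgen2 (f := (MulAut.conj (A (τ4 hn))).toMonoidHom.comp u)
      (g := u.comp (emb (pe (Equiv.swap 0 1)))) hflipy)
  have hfar : ∀ Y Z, Commute (u Y) (A (π4 hn) * u Z * (A (π4 hn))⁻¹) :=
    commute_gen u ((MulAut.conj (A (π4 hn))).toMonoidHom.comp u) hy
      (by rintro _ ⟨i, rfl⟩ _ ⟨j, rfl⟩; exact hfary i j)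
  obtain ⟨D, hext⟩ := huniv G Ψ A hrot hfix hflip hfar fun r hr => hrel r (List.mem_append.2 (Or.inr hr))
  obtain ⟨Φ, h1, h2⟩ := D.exists_map hF
  exact ⟨Φ, hext Φ h1 h2, h2⟩

end CfsgLib.SUShort
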