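import Cfsg.Agent.Coset.Table
import Cfsg.Agent.SUShort.Q2Data

/-! The enumeration checks. -/

set_option autoImplicit false
set_option maxRecDepth 100000

namespace CfsgLib.SUShort.Q2

open CfsgLib.Coset

/-- The inverse of a letter. -/
noncomputable def iv (x : Nat) : Nat :=
  cond (Nat.ble 4 x) x (cond (Nat.ble 2 x) (Nat.sub x 2) (Nat.add x 2))

theorem hR : checkRules rels subs R = true := by decide +kernel
theorem hdefs : checkDefs E 4 13 5337 = true := by decide +kernel
theorem hsteps : checkChunks E iv R 4 7 5337 85 C = true := by decide +kernel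
theorem htable : checkTable E iv (5337 + chunk * 85) 5184 4 13 2 Rep Ref Tb = true := by decide +kernel

end CfsgLib.SUShort.Q2
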