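import Cfsg.Agent.SUShort.Q2Mats
import Cfsg.Agent.SUShort.Q2Table
import Cfsg.Agent.SUShort.Big

/-!
The presentation of the unitary group in four variables over four elements on two generators.
-/

set_option autoImplicit false
set_option linter.unusedSectionVars false
set_option linter.style.haveILetI false
set_option maxRecDepth 100000

namespace CfsgLib.SUShort.Q2

open Matrix CfsgLib.Forms CfsgLib.Unitary CfsgLib.BPres CfsgLib.SLShort CfsgLib.Coset Equiv
open CfsgLib.Phan hiding ev

theorem rels_trace : ∀ w ∈ rels, w ∈ traceRels.map fun t => t.map Prod.fst := by decide +kernel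

theorem rels_split : rels = [[0, 2], [1, 3], [2, 0], [3, 1]] ++ rels.drop 4 := by decide +kernel

theorem alt_four : ∀ σ : alternatingGroup (Fin 4), ∃ (j : Fin 3),
    σ = altEmb (f3 (n := 4) le_rfl) c012 ^ (j : ℕ) ∨
    σ = τ4 (n := 4) le_rfl * altEmb (f3 (n := 4) le_rfl) c012 ^ (j : ℕ) ∨
    σ = altEmb (f3 (n := 4) le_rfl) c012 * τ4 (n := 4) le_rfl * (altEmb (f3 (n := 4) le_rfl) c012)⁻¹ *
      altEmb (f3 (n := 4) le_rfl) c012 ^ (j : ℕ) ∨
    σ = (altEmb (f3 (n := 4) le_rfl) c012)⁻¹ * τ4 (n := 4) le_rfl * altEmb (f3 (n := 4) le_rfl) c012 *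
      altEmb (f3 (n := 4) le_rfl) c012 ^ (j : ℕ) := by decide +kernel

theorem card_SU4 : Nat.card (Cfsg.SU 4 K4 2) = 25920 := by
  have h := card_SU_mul card_K4 (n := 4) (by norm_num)
  rw [card_GU card_K4] at h
  simp only [Finset.prod_range_succ, Finset.prod_range_zero, one_mul] at h
  norm_num [-Nat.card_eq_fintype_card, parity_simps] at h
  omega

theorem closure_abK : Subgroup.closure (Set.range abK) = ⊤ := by
  set S := Subgroup.closure (Set.range abK)
  have hg : ∀ i : Fin 5, emb (win 0 3 4 (by omega)) (g3K i) ∈ S := fun i => by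
    obtain ⟨g, hg, hm⟩ := target_mem (Fin.castLE (by omega) i)
    rwa [matHom_injective ((target_emb i).trans hm.symm)]
  have ht : (PM (τ4 (n := 4) le_rfl) : Cfsg.SU 4 K4 2) ∈ S := by
    obtain ⟨g, hg, hm⟩ := target_mem 5
    rwa [matHom_injective (target_t.trans hm.symm)]
  have h3 : ∀ X : Cfsg.SU 3 K4 2, emb (win 0 3 4 (by omega)) X ∈ S := fun X => by
    have hX : X ∈ Subgroup.closure (Set.range g3K) := by rw [closure_g3K]; trivial
    induction hX using Subgroup.closure_induction with
    | mem x hx => obtain ⟨i, rfl⟩ := hx; exact hg i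
    | one => rw [map_one]; exact one_mem _
    | mul a b _ _ ha hb => rw [map_mul]; exact mul_mem ha hb
    | inv a _ ha => rw [map_inv]; exact inv_mem ha
  have hc : (PM (altEmb (f3 (n := 4) le_rfl) c012) : Cfsg.SU 4 K4 2) ∈ S := by
    rw [← emb_PM]; exact h3 _
  refine closure_block_PM card_K4 le_rfl S h3 fun σ => ?_
  obtain ⟨j, rfl | rfl | rfl | rfl⟩ := alt_four σ
  all_goals simp only [map_mul, map_pow, map_inv]
  · exact pow_mem hc _
  · exact mul_mem ht (pow_mem hc _)
  · exact mul_mem (mul_mem (mul_mem hc ht) (inv_mem hc)) (pow_mem hc _)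
  · exact mul_mem (mul_mem (mul_mem (inv_mem hc) ht) hc) (pow_mem hc _)

/-- The relators as words. -/
noncomputable def relWords : List (FreeGroup (Fin 2)) :=
  (rels.drop 4).map fun w => ev (lett fun i => FreeGroup.of i) w

theorem lift_word {G : Type*} [Group G] (f : Fin 2 → G) (w : List Nat) :
    FreeGroup.lift f (ev (lett fun i => FreeGroup.of i) w) = ev (lett f) w := by
  rw [← ev_lett_map]
  congr 2
  funext i
  simp

theorem hasPresN_SU4 : HasPresN (Cfsg.SU 4 K4 2) 2 5 := by
  classical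
  refine ⟨relWords, abK, by simp [relWords, rels], fun r hr => ?_, closure_abK, fun G _ f' hf' => ?_⟩
  · obtain ⟨w, hw, rfl⟩ := List.mem_map.1 hr
    rw [lift_word]
    exact ev_rels (rels_trace w (List.mem_of_mem_drop hw))
  set gP : Fin 2 → G × Cfsg.SU 4 K4 2 := fun i => (f' i, abK i) with hgP
  set L := lett gP with hL
  have hfst : (MonoidHom.fst G (Cfsg.SU 4 K4 2)) ∘ gP = f' := rfl
  have hsnd : (MonoidHom.snd G (Cfsg.SU 4 K4 2)) ∘ gP = abK := rfl
  have hG : ∀ w ∈ rels, ev (lett f') w = 1 := fun w hw => by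
    rw [rels_split, List.mem_append] at hw
    rcases hw with hw | hw
    · simp only [List.mem_cons, List.not_mem_nil, or_false] at hw
      rcases hw with rfl | rfl | rfl | rfl <;> simp [ev, fl, lett]
    · rw [← lift_word]
      exact hf' _ (List.mem_map.2 ⟨w, hw, rfl⟩)
  have hrel : ∀ w ∈ rels, ev L w = 1 := fun w hw => by
    refine Prod.ext ?_ ?_
    · rw [show (ev L w).1 = ev (lett f') w by rw [← hfst, ev_lett_map]; rfl, hG w hw]; rfl
    · rw [show (ev L w).2 = ev (lett abK) w by rw [← hsnd, ev_lett_map]; rfl, ev_rels (rels_trace w hw)]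
      rfl
  set H := Subgroup.zpowers (gP 1) with hH
  have hsub : ∀ w ∈ subs, ev L w ∈ H := fun w hw => by
    simp only [subs, List.mem_cons, List.not_mem_nil, or_false] at hw
    subst hw
    rw [show ev L [1] = gP 1 from mul_one _]
    exact Subgroup.mem_zpowers _
  have h5 : gP 1 ^ 5 = 1 := by
    have := hrel [1, 1, 1, 1, 1] (by simp [rels])
    simpa [ev, fl, L, lett, pow_succ, mul_assoc] using this
  have hiv : ∀ x, fl L (iv x) = (fl L x)⁻¹ := by
    intro x
    rcases Nat.lt_or_ge x 4 with h | h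
    · interval_cases x <;> first | rfl | exact (inv_inv _).symm
    · have h4 : Nat.ble 4 x = true := Nat.ble_eq_true_of_le h
      rw [show iv x = x by rw [iv, h4]; rfl, fl_of_le L (by simp [L, length_lett]; omega), inv_one]
  have hlen : L.length = 4 := by simp [L, length_lett]
  have hT : TableOK L H E iv 5184 Rep Tb :=
    tableOK_of_check hiv hR (by rw [hlen]; exact hdefs) (by rw [hlen]; exact hsteps)
      (by rw [hlen]; exact htable) hrel hsub
  set Γ := Subgroup.closure {x | x ∈ L} with hΓ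
  have hgΓ : ∀ i : Fin 2, gP i ∈ Γ := fun i => by
    rw [← fl_lett_gen gP i]; exact mem_closure_fl _
  have hHΓ : H ≤ Γ := Subgroup.zpowers_le.2 (hgΓ 1)
  have hfo : IsOfFinOrder (gP 1) := isOfFinOrder_iff_pow_eq_one.2 ⟨5, by norm_num, h5⟩
  haveI : Finite H := hfo.finite_zpowers
  have hHc : Nat.card H ≤ 5 := by
    rw [Nat.card_zpowers]; exact orderOf_le_of_pow_eq_one (by norm_num) h5
  obtain ⟨hfin, hcard⟩ := hT.finite_card_le (by norm_num) hHΓ inferInstance hHc
  haveI := hfin
  let π : Γ →* Cfsg.SU 4 K4 2 := (MonoidHom.snd _ _).comp Γ.subtype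
  have hsur : Function.Surjective π := by
    rw [← MonoidHom.range_eq_top, eq_top_iff, ← closure_abK, Subgroup.closure_le]
    rintro _ ⟨i, rfl⟩
    exact ⟨⟨_, hgΓ i⟩, rfl⟩
  have hbij : Function.Bijective π := (Nat.bijective_iff_surjective_and_card _).2
    ⟨hsur, le_antisymm (hcard.trans (by rw [card_SU4])) (Nat.card_le_card_of_surjective π hsur)⟩
  let P := MulEquiv.ofBijective π hbij
  have hval : ∀ p : Γ, ((MonoidHom.fst _ _).comp Γ.subtype) (P.symm (π p)) = p.1.1 := fun p => by
    rw [show P.symm (π p) = p from P.symm_apply_apply p]; rfl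
  exact ⟨((MonoidHom.fst _ _).comp Γ.subtype).comp P.symm.toMonoidHom, fun i => hval ⟨_, hgΓ i⟩⟩

end CfsgLib.SUShort.Q2
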