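import Cfsg.Agent.Coset.Prim

/-! Matrices and traces over four elements. -/

set_option autoImplicit false
set_option maxRecDepth 100000

namespace CfsgLib.SUShort.Q2

def codeY : List (List Nat) := [[0, 1, 3, 0], [0, 2, 2, 0]]
def codeW : List (List Nat) := [[1, 2, 2, 2, 1, 2, 1, 1, 3], [1, 2, 1, 2, 1, 1, 2, 2, 3]]
def code3 : List (List Nat) := [[0, 1, 0, 3, 0, 0, 0, 0, 2], [0, 2, 0, 2, 0, 0, 0, 0, 2], [2, 0, 0, 0, 0, 2, 0, 2, 0], [1, 2, 2, 2, 1, 2, 1, 1, 3], [1, 2, 1, 2, 1, 1, 2, 2, 3]]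
def code4 : List (List Nat) := [[0, 1, 3, 2, 3, 0, 1, 3, 1, 3, 0, 1, 2, 1, 3, 0], [1, 3, 0, 1, 0, 3, 3, 1, 3, 2, 2, 0, 2, 0, 1, 2], [0, 1, 3, 2, 3, 0, 1, 3, 1, 3, 0, 1, 2, 1, 3, 0], [3, 0, 1, 2, 1, 1, 2, 0, 0, 1, 2, 3, 3, 3, 0, 2]]
def target4 : List (List Nat) := [[0, 1, 0, 0, 3, 0, 0, 0, 0, 0, 2, 0, 0, 0, 0, 2], [0, 2, 0, 0, 2, 0, 0, 0, 0, 0, 2, 0, 0, 0, 0, 2], [2, 0, 0, 0, 0, 0, 2, 0, 0, 2, 0, 0, 0, 0, 0, 2], [1, 2, 2, 0, 2, 1, 2, 0, 1, 1, 3, 0, 0, 0, 0, 2], [1, 2, 1, 0, 2, 1, 1, 0, 2, 2, 3, 0, 0, 0, 0, 2], [0, 2, 0, 0, 2, 0, 0, 0, 0, 0, 0, 2, 0, 0, 2, 0]]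
def one3 : List Nat := [2, 0, 0, 0, 2, 0, 0, 0, 2]
def one4 : List Nat := [2, 0, 0, 0, 0, 2, 0, 0, 0, 0, 2, 0, 0, 0, 0, 2]
def traceRels : List (List (Nat × List Nat)) := [[(0, [0, 1, 3, 2, 3, 0, 1, 3, 1, 3, 0, 1, 2, 1, 3, 0]), (2, [2, 0, 0, 0, 0, 2, 0, 0, 0, 0, 2, 0, 0, 0, 0, 2])], [(1, [1, 3, 0, 1, 0, 3, 3, 1, 3, 2, 2, 0, 2, 0, 1, 2]), (3, [2, 0, 0, 0, 0, 2, 0, 0, 0, 0, 2, 0, 0, 0, 0, 2])], [(2, [0, 1, 3, 2, 3, 0, 1, 3, 1, 3, 0, 1, 2, 1, 3, 0]), (0, [2, 0, 0, 0, 0, 2, 0, 0, 0, 0, 2, 0, 0, 0, 0, 2])], [(3, [3, 0, 1, 2, 1, 1, 2, 0, 0, 1, 2, 3, 3, 3, 0, 2]), (1, [2, 0, 0, 0, 0, 2, 0, 0, 0, 0, 2, 0, 0, 0, 0, 2])], [(0, [0, 1, 3, 2, 3, 0, 1, 3, 1, 3, 0,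 1, 2, 1, 3, 0]), (0, [2, 0, 0, 0, 0, 2, 0, 0, 0, 0, 2, 0, 0, 0, 0, 2])], [(1, [1, 3, 0, 1, 0, 3, 3, 1, 3, 2, 2, 0, 2, 0, 1, 2]), (1, [2, 3, 2, 0, 0, 2, 1, 3, 1, 0, 1, 3, 1, 2, 0, 3]), (1, [2, 0, 3, 3, 1, 2, 0, 2, 2, 3, 3, 0, 0, 1, 1, 1]), (1, [3, 0, 1, 2, 1, 1, 2, 0, 0, 1, 2, 3, 3, 3, 0, 2]), (1, [2, 0, 0, 0, 0, 2, 0, 0, 0, 0, 2, 0, 0, 0, 0, 2])], [(0, [0, 1, 3, 2, 3, 0, 1, 3, 1, 3, 0, 1, 2, 1, 3, 0]), (1, [3, 1, 0, 1, 3, 0, 3, 1, 2, 3, 2, 0, 0, 2, 1, 2]), (0, [3, 1, 0, 1, 3, 0, 3, 1, 0, 2, 1, 2, 2, 3, 2, 0]), (1, [3, 3, 1, 0, 2, 2, 0, 3, 0, 2, 3, 3, 2, 0, 3, 3]), (0, [2, 0, 3, 1, 0, 3, 3, 1, 2, 3, 0, 1, 1, 2, 2, 0]), (1, [1, 0, 0, 0, 0, 2, 1, 3, 0,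 2, 2, 2, 0, 3, 1, 2]), (0, [0, 3, 2, 1, 3, 0, 0, 0, 0, 2, 2, 2, 0, 3, 1, 2]), (1, [2, 3, 0, 3, 2, 1, 0, 2, 1, 1, 0, 3, 0, 0, 1, 0]), (0, [2, 3, 0, 3, 0, 0, 3, 0, 1, 1, 0, 3, 3, 2, 0, 3]), (1, [2, 2, 3, 0, 1, 3, 3, 0, 0, 0, 0, 3, 1, 2, 1, 0]), (0, [1, 0, 2, 3, 3, 2, 0, 2, 3, 2, 1, 0, 0, 1, 3, 1]), (1, [3, 0, 0, 0, 0, 2, 2, 1, 0, 3, 2, 3, 0, 1, 2, 2]), (0, [0, 2, 1, 3, 3, 0, 3, 2, 3, 1, 3, 0, 1, 2, 0, 3]), (1, [1, 2, 0, 2, 1, 2, 2, 0, 3, 0, 1, 1, 0, 1, 1, 1]), (0, [1, 2, 0, 2, 2, 0, 3, 3, 2, 3, 3, 0, 0, 1, 1, 1]), (1, [1, 1, 2, 0, 3, 0, 1, 2, 0, 1, 2, 3, 3, 3, 0, 2]), (0, [3, 0, 1, 2, 1, 1, 2, 0, 0, 1, 2, 3, 3, 3, 0, 2]), (1, [2, 0, 0, 0, 0, 2, 0, 0, 0,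 0, 2, 0, 0, 0, 0, 2])], [(2, [0, 1, 3, 2, 3, 0, 1, 3, 1, 3, 0, 1, 2, 1, 3, 0]), (3, [0, 2, 2, 3, 0, 2, 3, 2, 2, 0, 0, 0, 0, 1, 3, 3]), (0, [1, 1, 0, 2, 3, 0, 2, 1, 0, 1, 3, 2, 3, 3, 2, 0]), (1, [1, 0, 3, 2, 0, 3, 1, 3, 3, 1, 0, 1, 1, 2, 3, 0]), (2, [0, 3, 1, 3, 1, 0, 3, 2, 3, 1, 0, 1, 1, 2, 3, 0]), (3, [3, 0, 2, 1, 1, 1, 0, 2, 0, 1, 3, 2, 3, 3, 2, 0]), (0, [0, 2, 3, 2, 0, 2, 2, 3, 2, 0, 0, 0, 0, 1, 3, 3]), (1, [3, 0, 1, 3, 0, 1, 3, 2, 1, 3, 0, 1, 2, 1, 3, 0]), (2, [0, 2, 0, 0, 2, 0, 0, 0, 0, 0, 2, 0, 0, 0, 0, 2]), (3, [1, 1, 2, 0, 3, 0, 1, 2, 0, 1, 2, 3, 3, 3, 0, 2]), (0, [3, 0, 1, 2, 1, 1, 2, 0, 0, 1, 2, 3, 3, 3, 0, 2]), (1, [2, 0, 0, 0, 0, 2, 0, 0,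 0, 0, 2, 0, 0, 0, 0, 2])], [(2, [0, 1, 3, 2, 3, 0, 1, 3, 1, 3, 0, 1, 2, 1, 3, 0]), (3, [0, 2, 2, 3, 0, 2, 3, 2, 2, 0, 0, 0, 0, 1, 3, 3]), (2, [1, 1, 0, 2, 3, 0, 2, 1, 0, 1, 3, 2, 3, 3, 2, 0]), (3, [2, 0, 2, 3, 3, 3, 0, 1, 0, 2, 2, 3, 3, 3, 3, 0]), (0, [2, 0, 2, 3, 0, 1, 1, 2, 1, 1, 0, 2, 3, 3, 3, 0]), (1, [1, 1, 0, 2, 0, 3, 2, 1, 1, 0, 3, 2, 3, 3, 2, 0]), (0, [0, 2, 2, 3, 1, 0, 0, 0, 0, 3, 1, 3, 0, 1, 3, 3]), (1, [0, 1, 3, 2, 3, 2, 0, 3, 1, 0, 2, 1, 2, 1, 3, 0]), (2, [2, 0, 0, 0, 0, 0, 1, 0, 0, 3, 0, 0, 0, 0, 0, 2]), (3, [3, 0, 1, 2, 0, 3, 1, 2, 2, 2, 3, 0, 3, 3, 0, 2]), (2, [1, 1, 2, 0, 0, 3, 1, 2, 1, 0, 2, 3, 3, 3, 0, 2]), (3, [1, 2, 0, 2, 1, 2, 2,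 0, 3, 0, 1, 1, 0, 1, 1, 1]), (0, [1, 2, 0, 2, 2, 0, 3, 3, 2, 3, 3, 0, 0, 1, 1, 1]), (1, [1, 1, 2, 0, 3, 0, 1, 2, 0, 1, 2, 3, 3, 3, 0, 2]), (0, [3, 0, 1, 2, 1, 1, 2, 0, 0, 1, 2, 3, 3, 3, 0, 2]), (1, [2, 0, 0, 0, 0, 2, 0, 0, 0, 0, 2, 0, 0, 0, 0, 2])]]
def traceTo : List (List (Nat × List Nat)) := [[(1, [1, 3, 0, 1, 0, 3, 3, 1, 3, 2, 2, 0, 2, 0, 1, 2]), (1, [2, 3, 2, 0, 0, 2, 1, 3, 1, 0, 1, 3, 1, 2, 0, 3]), (1, [2, 0, 3, 3, 1, 2, 0, 2, 2, 3, 3, 0, 0, 1, 1, 1]), (1, [3, 0, 1, 2, 1, 1, 2, 0, 0, 1, 2, 3, 3, 3, 0, 2]), (0, [1, 1, 2, 0, 3, 0, 1, 2, 0, 1, 2, 3, 3, 3, 0, 2]), (1, [0, 2, 0, 0, 2, 0, 0, 0, 0, 0, 2, 0, 0, 0, 0, 2]), (1, [0, 3, 3, 1, 1, 3, 0, 1, 3,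 2, 2, 0, 2, 0, 1, 2]), (0, [2, 2, 0, 3, 0, 0, 2, 0, 2, 1, 0, 1, 1, 2, 0, 1]), (1, [2, 0, 1, 3, 3, 2, 2, 0, 0, 1, 1, 3, 2, 1, 0, 3]), (0, [0, 1, 2, 1, 2, 1, 0, 1, 2, 0, 2, 1, 1, 3, 1, 0]), (1, [2, 0, 3, 2, 0, 1, 1, 3, 3, 1, 1, 0, 1, 2, 0, 1]), (1, [2, 0, 2, 3, 1, 3, 1, 0, 0, 2, 3, 1, 2, 1, 0, 3]), (0, [2, 0, 2, 3, 2, 1, 0, 3, 0, 2, 3, 1, 1, 3, 1, 0]), (1, [1, 1, 0, 2, 2, 1, 0, 1, 0, 0, 3, 0, 1, 2, 0, 1]), (0, [0, 2, 2, 3, 3, 2, 2, 0, 2, 1, 0, 2, 2, 0, 1, 2]), (1, [0, 1, 3, 2, 1, 0, 1, 3, 3, 1, 3, 0, 1, 2, 0, 3]), (1, [3, 1, 0, 1, 2, 3, 3, 0, 3, 0, 1, 1, 0, 1, 1, 1]), (0, [3, 1, 0, 1, 3, 0, 1, 1, 2, 3, 3, 0, 0, 1, 1, 1]), (1, [3, 3, 1, 0, 1, 0, 2, 3, 0,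 1, 2, 3, 3, 3, 0, 2]), (1, [0, 1, 0, 0, 3, 0, 0, 0, 0, 0, 2, 0, 0, 0, 0, 2])], [(1, [1, 3, 0, 1, 0, 3, 3, 1, 3, 2, 2, 0, 2, 0, 1, 2]), (1, [2, 3, 2, 0, 0, 2, 1, 3, 1, 0, 1, 3, 1, 2, 0, 3]), (1, [2, 0, 3, 3, 1, 2, 0, 2, 2, 3, 3, 0, 0, 1, 1, 1]), (1, [3, 0, 1, 2, 1, 1, 2, 0, 0, 1, 2, 3, 3, 3, 0, 2]), (0, [1, 1, 2, 0, 3, 0, 1, 2, 0, 1, 2, 3, 3, 3, 0, 2]), (1, [0, 2, 0, 0, 2, 0, 0, 0, 0, 0, 2, 0, 0, 0, 0, 2])], [(1, [1, 3, 0, 1, 0, 3, 3, 1, 3, 2, 2, 0, 2, 0, 1, 2]), (1, [2, 3, 2, 0, 0, 2, 1, 3, 1, 0, 1, 3, 1, 2, 0, 3]), (0, [0, 2, 1, 2, 3, 0, 0, 0, 0, 3, 3, 2, 0, 1, 2, 2]), (1, [0, 2, 3, 3, 2, 1, 0, 2, 3, 2, 3, 0, 1, 0, 1, 1]), (1, [2, 0, 2, 2, 3, 1, 3,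 0, 3, 1, 0, 3, 0, 3, 2, 2]), (0, [3, 3, 0, 3, 0, 3, 2, 3, 1, 0, 3, 1, 2, 2, 1, 0]), (1, [1, 0, 3, 3, 0, 3, 1, 1, 3, 1, 0, 2, 3, 1, 2, 0]), (0, [1, 0, 3, 3, 3, 1, 0, 2, 0, 3, 1, 1, 3, 1, 2, 0]), (1, [1, 1, 1, 0, 0, 3, 3, 3, 3, 0, 3, 3, 1, 1, 0, 1]), (1, [1, 1, 3, 0, 2, 2, 0, 1, 0, 2, 1, 1, 2, 0, 1, 1]), (1, [2, 3, 1, 0, 0, 0, 0, 1, 3, 2, 1, 0, 2, 2, 2, 0]), (1, [3, 3, 0, 3, 1, 0, 3, 1, 0, 3, 2, 3, 2, 2, 1, 0]), (0, [2, 0, 2, 2, 3, 1, 0, 3, 3, 1, 3, 0, 0, 3, 2, 2]), (1, [0, 1, 3, 3, 1, 3, 0, 2, 3, 0, 1, 1, 1, 3, 2, 0]), (1, [2, 1, 3, 0, 1, 3, 0, 3, 1, 0, 2, 3, 0, 1, 3, 1]), (1, [0, 2, 1, 2, 0, 3, 3, 2, 3, 0, 0, 0, 0, 1, 2, 2]), (0, [2, 3, 2, 0, 1, 0, 1,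 3, 0, 2, 1, 3, 1, 2, 0, 3]), (1, [2, 0, 3, 3, 2, 3, 3, 0, 1, 2, 0, 2, 0, 1, 1, 1]), (1, [3, 0, 1, 2, 0, 1, 2, 3, 1, 1, 2, 0, 3, 3, 0, 2]), (1, [2, 0, 0, 0, 0, 0, 2, 0, 0, 2, 0, 0, 0, 0, 0, 2])], [(0, [0, 1, 3, 2, 3, 0, 1, 3, 1, 3, 0, 1, 2, 1, 3, 0]), (1, [3, 1, 0, 1, 3, 0, 3, 1, 2, 3, 2, 0, 0, 2, 1, 2]), (1, [3, 3, 1, 0, 2, 2, 0, 3, 2, 0, 3, 3, 0, 2, 3, 3]), (0, [2, 0, 3, 1, 0, 3, 3, 1, 1, 2, 2, 0, 2, 3, 0, 1]), (1, [1, 0, 0, 0, 0, 2, 1, 3, 0, 3, 1, 2, 0, 2, 2, 2]), (0, [0, 3, 2, 1, 3, 0, 0, 0, 0, 3, 1, 2, 0, 2, 2, 2]), (1, [2, 3, 0, 3, 2, 1, 0, 2, 0, 0, 1, 0, 1, 1, 0, 3]), (0, [2, 3, 0, 3, 0, 0, 3, 0, 3, 2, 0, 3, 1, 1, 0, 3]), (1, [2, 2, 3, 0, 1, 3,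 3, 0, 1, 2, 1, 0, 0, 0, 0, 3]), (0, [1, 0, 2, 3, 3, 2, 0, 2, 0, 1, 3, 1, 3, 2, 1, 0]), (1, [3, 0, 0, 0, 0, 2, 2, 1, 0, 1, 2, 2, 0, 3, 2, 3]), (1, [2, 1, 0, 2, 2, 1, 2, 0, 1, 0, 1, 1, 0, 3, 1, 1]), (1, [3, 1, 3, 0, 2, 3, 0, 2, 0, 3, 2, 2, 3, 0, 3, 3]), (1, [3, 0, 1, 1, 3, 2, 0, 1, 1, 3, 2, 0, 0, 2, 1, 1]), (0, [2, 3, 3, 0, 2, 1, 2, 0, 0, 0, 0, 1, 1, 1, 3, 0]), (1, [0, 1, 2, 3, 2, 3, 0, 2, 1, 0, 3, 1, 2, 3, 1, 0]), (1, [0, 0, 2, 0, 3, 2, 0, 1, 3, 1, 0, 2, 3, 3, 0, 3]), (0, [1, 3, 0, 1, 2, 1, 2, 0, 0, 3, 1, 1, 2, 0, 2, 2]), (1, [2, 3, 2, 0, 2, 3, 0, 2, 3, 0, 3, 3, 0, 1, 3, 3]), (1, [2, 0, 3, 3, 3, 2, 0, 1, 0, 2, 1, 1, 2, 1, 3, 0]), (0, [1, 2, 2, 0, 2, 1,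 2, 0, 1, 1, 3, 0, 0, 0, 0, 2])], [(1, [1, 3, 0, 1, 0, 3, 3, 1, 3, 2, 2, 0, 2, 0, 1, 2]), (0, [0, 0, 2, 0, 2, 2, 0, 3, 2, 1, 0, 1, 1, 2, 0, 1]), (1, [3, 2, 2, 0, 2, 0, 1, 3, 0, 1, 1, 3, 2, 1, 0, 3]), (0, [2, 1, 0, 1, 0, 1, 2, 1, 2, 0, 2, 1, 1, 3, 1, 0]), (1, [0, 1, 1, 3, 2, 0, 3, 2, 3, 1, 1, 0, 1, 2, 0, 1]), (1, [1, 3, 1, 0, 2, 0, 2, 3, 0, 2, 3, 1, 2, 1, 0, 3]), (0, [2, 1, 0, 3, 2, 0, 2, 3, 0, 2, 3, 1, 1, 3, 1, 0]), (1, [2, 1, 0, 1, 1, 1, 0, 2, 0, 0, 3, 0, 1, 2, 0, 1]), (1, [0, 1, 1, 3, 1, 0, 3, 2, 1, 3, 3, 0, 2, 1, 0, 3]), (0, [2, 0, 2, 1, 0, 3, 1, 3, 3, 2, 0, 2, 1, 3, 1, 0]), (1, [3, 1, 1, 0, 1, 0, 2, 1, 0, 2, 2, 1, 1, 2, 0, 1]), (0, [1, 0, 2, 2, 0,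 3, 0, 0, 3, 0, 3, 2, 2, 0, 1, 2]), (1, [2, 0, 3, 1, 0, 1, 1, 2, 1, 2, 2, 0, 1, 2, 0, 3]), (1, [1, 0, 0, 0, 0, 3, 2, 1, 0, 3, 1, 2, 0, 1, 1, 1]), (0, [0, 3, 2, 1, 1, 0, 0, 0, 0, 3, 1, 2, 0, 1, 1, 1]), (1, [2, 3, 0, 3, 3, 2, 0, 3, 0, 0, 1, 0, 3, 3, 0, 2]), (0, [2, 3, 0, 3, 0, 0, 1, 0, 3, 2, 0, 3, 3, 3, 0, 2]), (1, [2, 2, 3, 0, 2, 1, 1, 0, 1, 2, 1, 0, 0, 0, 0, 2]), (1, [0, 3, 0, 0, 3, 0, 3, 2, 1, 0, 2, 2, 2, 0, 1, 2]), (1, [0, 1, 1, 2, 1, 2, 2, 0, 2, 0, 3, 1, 1, 2, 0, 3]), (1, [0, 3, 2, 1, 0, 3, 1, 2, 1, 0, 0, 0, 0, 1, 1, 1]), (0, [1, 0, 0, 0, 0, 3, 1, 2, 0, 3, 2, 1, 0, 1, 1, 1]), (1, [3, 2, 0, 3, 0, 0, 1, 0, 2, 3, 0, 3, 3, 3, 0, 2]), (1, [1, 2, 1, 0, 2,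 1, 1, 0, 2, 2, 3, 0, 0, 0, 0, 2])], [(0, [0, 1, 3, 2, 3, 0, 1, 3, 1, 3, 0, 1, 2, 1, 3, 0]), (1, [3, 1, 0, 1, 3, 0, 3, 1, 2, 3, 2, 0, 0, 2, 1, 2]), (0, [3, 1, 0, 1, 3, 0, 3, 1, 0, 2, 1, 2, 2, 3, 2, 0]), (1, [3, 3, 1, 0, 2, 2, 0, 3, 0, 2, 3, 3, 2, 0, 3, 3]), (1, [0, 1, 0, 0, 2, 0, 1, 3, 2, 0, 2, 2, 3, 0, 1, 2]), (1, [0, 2, 2, 3, 0, 2, 3, 2, 0, 1, 3, 3, 2, 0, 0, 0]), (1, [0, 1, 3, 2, 3, 0, 1, 3, 2, 1, 3, 0, 1, 3, 0, 1]), (0, [2, 0, 0, 0, 0, 2, 0, 0, 0, 0, 0, 2, 0, 0, 2, 0]), (1, [1, 3, 0, 1, 0, 3, 3, 1, 2, 0, 1, 2, 3, 2, 2, 0]), (1, [2, 3, 2, 0, 0, 2, 1, 3, 1, 2, 0, 3, 1, 0, 1, 3]), (1, [2, 0, 3, 3, 1, 2, 0, 2, 0, 1, 1, 1, 2, 3, 3, 0]), (1, [3, 0, 1, 2,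 1, 1, 2, 0, 3, 3, 0, 2, 0, 1, 2, 3]), (0, [1, 1, 2, 0, 3, 0, 1, 2, 3, 3, 0, 2, 0, 1, 2, 3]), (1, [0, 2, 0, 0, 2, 0, 0, 0, 0, 0, 0, 2, 0, 0, 2, 0])]]
def trace3 : List (List (Nat × List Nat)) := [[], [(0, [0, 1, 0, 3, 0, 0, 0, 0, 2])], [(1, [0, 2, 0, 2, 0, 0, 0, 0, 2])], [(2, [2, 0, 0, 0, 0, 2, 0, 2, 0])], [(3, [1, 2, 2, 2, 1, 2, 1, 1, 3])], [(4, [1, 2, 1, 2, 1, 1, 2, 2, 3])], [(0, [0, 1, 0, 3, 0, 0, 0, 0, 2]), (1, [1, 0, 0, 0, 3, 0, 0, 0, 2])], [(0, [0, 1, 0, 3, 0, 0, 0, 0, 2]), (2, [0, 0, 1, 3, 0, 0, 0, 2, 0])], [(0, [0, 1, 0, 3, 0, 0, 0, 0, 2]), (3, [1, 3, 1, 2, 3, 3, 1, 1, 3])], [(0, [0, 1, 0, 3, 0, 0, 0, 0, 2]), (4, [1, 3, 3, 2, 3, 2, 2, 2, 3])],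 [(1, [0, 2, 0, 2, 0, 0, 0, 0, 2]), (0, [3, 0, 0, 0, 1, 0, 0, 0, 2])], [(1, [0, 2, 0, 2, 0, 0, 0, 0, 2]), (2, [0, 0, 2, 2, 0, 0, 0, 2, 0])], [(1, [0, 2, 0, 2, 0, 0, 0, 0, 2]), (3, [2, 1, 2, 1, 2, 2, 1, 1, 3])], [(1, [0, 2, 0, 2, 0, 0, 0, 0, 2]), (4, [2, 1, 1, 1, 2, 1, 2, 2, 3])], [(2, [2, 0, 0, 0, 0, 2, 0, 2, 0]), (0, [0, 1, 0, 0, 0, 2, 3, 0, 0])], [(2, [2, 0, 0, 0, 0, 2, 0, 2, 0]), (1, [0, 2, 0, 0, 0, 2, 2, 0, 0])], [(2, [2, 0, 0, 0, 0, 2, 0, 2, 0]), (3, [1, 2, 2, 1, 1, 3, 2, 1, 2])], [(2, [2, 0, 0, 0, 0, 2, 0, 2, 0]), (4, [1, 2, 1, 2, 2, 3, 2, 1, 1])], [(3, [1, 2, 2, 2, 1, 2, 1, 1, 3]), (0, [3, 3, 2, 2, 1, 2, 2, 3, 3])], [(3, [1, 2, 2, 2, 1, 2, 1, 1,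 3]), (2, [1, 2, 2, 2, 2, 1, 1, 3, 1])], [(3, [1, 2, 2, 2, 1, 2, 1, 1, 3]), (3, [0, 1, 0, 1, 0, 0, 0, 0, 1])], [(3, [1, 2, 2, 2, 1, 2, 1, 1, 3]), (4, [3, 2, 1, 2, 3, 1, 1, 1, 1])], [(4, [1, 2, 1, 2, 1, 1, 2, 2, 3]), (0, [3, 3, 1, 2, 1, 1, 3, 1, 3])], [(4, [1, 2, 1, 2, 1, 1, 2, 2, 3]), (2, [1, 1, 2, 2, 1, 1, 2, 3, 2])], [(4, [1, 2, 1, 2, 1, 1, 2, 2, 3]), (3, [2, 3, 1, 3, 2, 1, 1, 1, 1])], [(0, [0, 1, 0, 3, 0, 0, 0, 0, 2]), (1, [1, 0, 0, 0, 3, 0, 0, 0, 2]), (0, [0, 3, 0, 1, 0, 0, 0, 0, 2])], [(0, [0, 1, 0, 3, 0, 0, 0, 0, 2]), (1, [1, 0, 0, 0, 3, 0, 0, 0, 2]), (2, [1, 0, 0, 0, 0, 3, 0, 2, 0])], [(0, [0, 1, 0, 3, 0, 0, 0, 0, 2]), (1, [1, 0, 0, 0, 3, 0, 0,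 0, 2]), (3, [3, 1, 1, 3, 2, 3, 1, 1, 3])], [(0, [0, 1, 0, 3, 0, 0, 0, 0, 2]), (1, [1, 0, 0, 0, 3, 0, 0, 0, 2]), (4, [3, 1, 3, 3, 2, 2, 2, 2, 3])], [(0, [0, 1, 0, 3, 0, 0, 0, 0, 2]), (2, [0, 0, 1, 3, 0, 0, 0, 2, 0]), (0, [0, 0, 1, 0, 2, 0, 3, 0, 0])], [(0, [0, 1, 0, 3, 0, 0, 0, 0, 2]), (2, [0, 0, 1, 3, 0, 0, 0, 2, 0]), (1, [0, 0, 1, 0, 3, 0, 2, 0, 0])], [(0, [0, 1, 0, 3, 0, 0, 0, 0, 2]), (2, [0, 0, 1, 3, 0, 0, 0, 2, 0]), (3, [3, 3, 2, 2, 3, 3, 2, 1, 2])], [(0, [0, 1, 0, 3, 0, 0, 0, 0, 2]), (2, [0, 0, 1, 3, 0, 0, 0, 2, 0]), (4, [1, 1, 2, 2, 3, 2, 2, 1, 1])], [(0, [0, 1, 0, 3, 0, 0, 0, 0, 2]), (3, [1, 3, 1, 2, 3, 3, 1, 1, 3]), (0, [1, 3, 1, 1, 1, 3, 2,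 3, 3])], [(0, [0, 1, 0, 3, 0, 0, 0, 0, 2]), (3, [1, 3, 1, 2, 3, 3, 1, 1, 3]), (2, [1, 1, 3, 2, 3, 3, 1, 3, 1])], [(0, [0, 1, 0, 3, 0, 0, 0, 0, 2]), (3, [1, 3, 1, 2, 3, 3, 1, 1, 3]), (3, [3, 0, 0, 0, 2, 0, 0, 0, 1])], [(0, [0, 1, 0, 3, 0, 0, 0, 0, 2]), (3, [1, 3, 1, 2, 3, 3, 1, 1, 3]), (4, [1, 2, 3, 1, 3, 2, 1, 1, 1])], [(0, [0, 1, 0, 3, 0, 0, 0, 0, 2]), (4, [1, 3, 3, 2, 3, 2, 2, 2, 3]), (0, [1, 3, 3, 1, 1, 2, 3, 1, 3])], [(0, [0, 1, 0, 3, 0, 0, 0, 0, 2]), (4, [1, 3, 3, 2, 3, 2, 2, 2, 3]), (2, [1, 3, 3, 2, 2, 3, 2, 3, 2])], [(0, [0, 1, 0, 3, 0, 0, 0, 0, 2]), (4, [1, 3, 3, 2, 3, 2, 2, 2, 3]), (3, [2, 1, 3, 3, 1, 2, 1, 1, 1])], [(1, [0, 2, 0, 2, 0, 0, 0,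 0, 2]), (0, [3, 0, 0, 0, 1, 0, 0, 0, 2]), (2, [3, 0, 0, 0, 0, 1, 0, 2, 0])], [(1, [0, 2, 0, 2, 0, 0, 0, 0, 2]), (0, [3, 0, 0, 0, 1, 0, 0, 0, 2]), (3, [2, 3, 3, 1, 3, 1, 1, 1, 3])], [(1, [0, 2, 0, 2, 0, 0, 0, 0, 2]), (0, [3, 0, 0, 0, 1, 0, 0, 0, 2]), (4, [2, 3, 2, 1, 3, 3, 2, 2, 3])], [(1, [0, 2, 0, 2, 0, 0, 0, 0, 2]), (2, [0, 0, 2, 2, 0, 0, 0, 2, 0]), (0, [0, 0, 2, 0, 1, 0, 3, 0, 0])], [(1, [0, 2, 0, 2, 0, 0, 0, 0, 2]), (2, [0, 0, 2, 2, 0, 0, 0, 2, 0]), (1, [0, 0, 2, 0, 2, 0, 2, 0, 0])], [(1, [0, 2, 0, 2, 0, 0, 0, 0, 2]), (2, [0, 0, 2, 2, 0, 0, 0, 2, 0]), (3, [1, 1, 3, 1, 2, 2, 2, 1, 2])], [(1, [0, 2, 0, 2, 0, 0, 0, 0, 2]), (2, [0, 0, 2, 2, 0, 0, 0,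 2, 0]), (4, [2, 2, 3, 1, 2, 1, 2, 1, 1])], [(1, [0, 2, 0, 2, 0, 0, 0, 0, 2]), (3, [2, 1, 2, 1, 2, 2, 1, 1, 3]), (0, [2, 1, 2, 3, 3, 2, 2, 3, 3])], [(1, [0, 2, 0, 2, 0, 0, 0, 0, 2]), (3, [2, 1, 2, 1, 2, 2, 1, 1, 3]), (2, [2, 2, 1, 1, 2, 2, 1, 3, 1])], [(1, [0, 2, 0, 2, 0, 0, 0, 0, 2]), (3, [2, 1, 2, 1, 2, 2, 1, 1, 3]), (3, [1, 0, 0, 0, 1, 0, 0, 0, 1])], [(1, [0, 2, 0, 2, 0, 0, 0, 0, 2]), (4, [2, 1, 1, 1, 2, 1, 2, 2, 3]), (0, [2, 1, 1, 3, 3, 1, 3, 1, 3])], [(1, [0, 2, 0, 2, 0, 0, 0, 0, 2]), (4, [2, 1, 1, 1, 2, 1, 2, 2, 3]), (2, [2, 1, 1, 1, 1, 2, 2, 3, 2])], [(2, [2, 0, 0, 0, 0, 2, 0, 2, 0]), (0, [0, 1, 0, 0, 0, 2, 3, 0, 0]), (1, [1, 0, 0, 0, 0, 2, 0,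 3, 0])], [(2, [2, 0, 0, 0, 0, 2, 0, 2, 0]), (1, [0, 2, 0, 0, 0, 2, 2, 0, 0]), (0, [3, 0, 0, 0, 0, 2, 0, 1, 0])], [(2, [2, 0, 0, 0, 0, 2, 0, 2, 0]), (1, [0, 2, 0, 0, 0, 2, 2, 0, 0]), (3, [2, 1, 2, 1, 1, 3, 1, 2, 2])], [(2, [2, 0, 0, 0, 0, 2, 0, 2, 0]), (1, [0, 2, 0, 0, 0, 2, 2, 0, 0]), (4, [2, 1, 1, 2, 2, 3, 1, 2, 1])], [(2, [2, 0, 0, 0, 0, 2, 0, 2, 0]), (3, [1, 2, 2, 1, 1, 3, 2, 1, 2]), (2, [1, 2, 2, 1, 3, 1, 2, 2, 1])], [(2, [2, 0, 0, 0, 0, 2, 0, 2, 0]), (3, [1, 2, 2, 1, 1, 3, 2, 1, 2]), (3, [0, 1, 0, 0, 0, 1, 1, 0, 0])], [(2, [2, 0, 0, 0, 0, 2, 0, 2, 0]), (3, [1, 2, 2, 1, 1, 3, 2, 1, 2]), (4, [3, 2, 1, 1, 1, 1, 2, 3, 1])], [(2, [2, 0, 0, 0, 0, 2, 0,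 2, 0]), (4, [1, 2, 1, 2, 2, 3, 2, 1, 1]), (0, [3, 3, 1, 3, 1, 3, 2, 1, 1])], [(2, [2, 0, 0, 0, 0, 2, 0, 2, 0]), (4, [1, 2, 1, 2, 2, 3, 2, 1, 1]), (3, [2, 3, 1, 1, 1, 1, 3, 2, 1])], [(3, [1, 2, 2, 2, 1, 2, 1, 1, 3]), (0, [3, 3, 2, 2, 1, 2, 2, 3, 3]), (1, [3, 3, 2, 1, 2, 2, 3, 2, 3])], [(3, [1, 2, 2, 2, 1, 2, 1, 1, 3]), (0, [3, 3, 2, 2, 1, 2, 2, 3, 3]), (2, [3, 2, 3, 2, 2, 1, 2, 3, 3])], [(3, [1, 2, 2, 2, 1, 2, 1, 1, 3]), (0, [3, 3, 2, 2, 1, 2, 2, 3, 3]), (3, [0, 0, 3, 1, 0, 0, 0, 2, 0])], [(3, [1, 2, 2, 2, 1, 2, 1, 1, 3]), (0, [3, 3, 2, 2, 1, 2, 2, 3, 3]), (4, [3, 3, 3, 2, 3, 1, 1, 3, 2])], [(3, [1, 2, 2, 2, 1, 2, 1, 1, 3]), (2, [1, 2, 2, 2, 2, 1, 1,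 3, 1]), (0, [3, 3, 2, 3, 1, 1, 1, 3, 1])], [(3, [1, 2, 2, 2, 1, 2, 1, 1, 3]), (2, [1, 2, 2, 2, 2, 1, 1, 3, 1]), (1, [2, 1, 2, 2, 2, 1, 3, 1, 1])], [(3, [1, 2, 2, 2, 1, 2, 1, 1, 3]), (2, [1, 2, 2, 2, 2, 1, 1, 3, 1]), (4, [3, 2, 1, 2, 2, 2, 1, 2, 3])], [(3, [1, 2, 2, 2, 1, 2, 1, 1, 3]), (3, [0, 1, 0, 1, 0, 0, 0, 0, 1]), (0, [2, 0, 0, 0, 3, 0, 0, 0, 1])], [(3, [1, 2, 2, 2, 1, 2, 1, 1, 3]), (3, [0, 1, 0, 1, 0, 0, 0, 0, 1]), (2, [0, 0, 1, 1, 0, 0, 0, 1, 0])], [(3, [1, 2, 2, 2, 1, 2, 1, 1, 3]), (3, [0, 1, 0, 1, 0, 0, 0, 0, 1]), (3, [1, 3, 1, 3, 1, 1, 3, 3, 2])], [(3, [1, 2, 2, 2, 1, 2, 1, 1, 3]), (3, [0, 1, 0, 1, 0, 0, 0, 0, 1]), (4, [1, 3, 3, 3, 1, 3, 1,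 1, 2])], [(3, [1, 2, 2, 2, 1, 2, 1, 1, 3]), (4, [3, 2, 1, 2, 3, 1, 1, 1, 1]), (2, [3, 1, 2, 2, 1, 3, 1, 1, 1])], [(3, [1, 2, 2, 2, 1, 2, 1, 1, 3]), (4, [3, 2, 1, 2, 3, 1, 1, 1, 1]), (3, [3, 1, 3, 1, 3, 3, 1, 1, 2])], [(4, [1, 2, 1, 2, 1, 1, 2, 2, 3]), (0, [3, 3, 1, 2, 1, 1, 3, 1, 3]), (1, [3, 3, 1, 1, 2, 1, 1, 3, 3])], [(4, [1, 2, 1, 2, 1, 1, 2, 2, 3]), (0, [3, 3, 1, 2, 1, 1, 3, 1, 3]), (2, [3, 1, 3, 2, 1, 1, 3, 3, 1])], [(4, [1, 2, 1, 2, 1, 1, 2, 2, 3]), (0, [3, 3, 1, 2, 1, 1, 3, 1, 3]), (3, [2, 2, 2, 3, 2, 1, 1, 2, 3])], [(4, [1, 2, 1, 2, 1, 1, 2, 2, 3]), (0, [3, 3, 1, 2, 1, 1, 3, 1, 3]), (4, [0, 0, 2, 1, 0, 0, 0, 3, 0])], [(4, [1, 2, 1, 2, 1, 1, 2,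 2, 3]), (2, [1, 1, 2, 2, 1, 1, 2, 3, 2]), (0, [2, 3, 2, 2, 1, 1, 1, 1, 2])], [(4, [1, 2, 1, 2, 1, 1, 2, 2, 3]), (2, [1, 1, 2, 2, 1, 1, 2, 3, 2]), (1, [1, 1, 2, 1, 2, 1, 3, 2, 2])], [(4, [1, 2, 1, 2, 1, 1, 2, 2, 3]), (2, [1, 1, 2, 2, 1, 1, 2, 3, 2]), (3, [3, 3, 3, 3, 2, 1, 3, 1, 2])], [(4, [1, 2, 1, 2, 1, 1, 2, 2, 3]), (3, [2, 3, 1, 3, 2, 1, 1, 1, 1]), (0, [1, 1, 1, 3, 2, 1, 2, 3, 1])], [(4, [1, 2, 1, 2, 1, 1, 2, 2, 3]), (3, [2, 3, 1, 3, 2, 1, 1, 1, 1]), (4, [3, 1, 1, 1, 3, 1, 3, 3, 2])], [(0, [0, 1, 0, 3, 0, 0, 0, 0, 2]), (1, [1, 0, 0, 0, 3, 0, 0, 0, 2]), (0, [0, 3, 0, 1, 0, 0, 0, 0, 2]), (3, [3, 2, 3, 3, 1, 1, 1, 1, 3])], [(0, [0, 1, 0, 3, 0, 0, 0,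 0, 2]), (1, [1, 0, 0, 0, 3, 0, 0, 0, 2]), (0, [0, 3, 0, 1, 0, 0, 0, 0, 2]), (4, [3, 2, 2, 3, 1, 3, 2, 2, 3])], [(0, [0, 1, 0, 3, 0, 0, 0, 0, 2]), (1, [1, 0, 0, 0, 3, 0, 0, 0, 2]), (2, [1, 0, 0, 0, 0, 3, 0, 2, 0]), (0, [0, 3, 0, 0, 0, 3, 3, 0, 0])], [(0, [0, 1, 0, 3, 0, 0, 0, 0, 2]), (1, [1, 0, 0, 0, 3, 0, 0, 0, 2]), (2, [1, 0, 0, 0, 0, 3, 0, 2, 0]), (1, [0, 1, 0, 0, 0, 3, 2, 0, 0])], [(0, [0, 1, 0, 3, 0, 0, 0, 0, 2]), (1, [1, 0, 0, 0, 3, 0, 0, 0, 2]), (2, [1, 0, 0, 0, 0, 3, 0, 2, 0]), (3, [3, 1, 1, 2, 2, 1, 2, 1, 2])], [(0, [0, 1, 0, 3, 0, 0, 0, 0, 2]), (1, [1, 0, 0, 0, 3, 0, 0, 0, 2]), (2, [1, 0, 0, 0, 0, 3, 0, 2, 0]), (4, [3, 1, 3, 3, 3, 1, 2, 1, 1])],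 [(0, [0, 1, 0, 3, 0, 0, 0, 0, 2]), (1, [1, 0, 0, 0, 3, 0, 0, 0, 2]), (3, [3, 1, 1, 3, 2, 3, 1, 1, 3]), (0, [2, 2, 1, 3, 2, 3, 2, 3, 3])], [(0, [0, 1, 0, 3, 0, 0, 0, 0, 2]), (1, [1, 0, 0, 0, 3, 0, 0, 0, 2]), (3, [3, 1, 1, 3, 2, 3, 1, 1, 3]), (2, [3, 1, 1, 3, 3, 2, 1, 3, 1])], [(0, [0, 1, 0, 3, 0, 0, 0, 0, 2]), (1, [1, 0, 0, 0, 3, 0, 0, 0, 2]), (3, [3, 1, 1, 3, 2, 3, 1, 1, 3]), (3, [0, 3, 0, 2, 0, 0, 0, 0, 1])], [(0, [0, 1, 0, 3, 0, 0, 0, 0, 2]), (1, [1, 0, 0, 0, 3, 0, 0, 0, 2]), (4, [3, 1, 3, 3, 2, 2, 2, 2, 3]), (0, [2, 2, 3, 3, 2, 2, 3, 1, 3])], [(0, [0, 1, 0, 3, 0, 0, 0, 0, 2]), (1, [1, 0, 0, 0, 3, 0, 0, 0, 2]), (4, [3, 1, 3, 3, 2, 2, 2, 2, 3]), (2,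 [3, 3, 1, 3, 2, 2, 2, 3, 2])], [(0, [0, 1, 0, 3, 0, 0, 0, 0, 2]), (2, [0, 0, 1, 3, 0, 0, 0, 2, 0]), (0, [0, 0, 1, 0, 2, 0, 3, 0, 0]), (1, [0, 0, 1, 2, 0, 0, 0, 3, 0])], [(0, [0, 1, 0, 3, 0, 0, 0, 0, 2]), (2, [0, 0, 1, 3, 0, 0, 0, 2, 0]), (1, [0, 0, 1, 0, 3, 0, 2, 0, 0]), (3, [3, 3, 2, 3, 2, 3, 1, 2, 2])], [(0, [0, 1, 0, 3, 0, 0, 0, 0, 2]), (2, [0, 0, 1, 3, 0, 0, 0, 2, 0]), (1, [0, 0, 1, 0, 3, 0, 2, 0, 0]), (4, [1, 1, 2, 3, 2, 2, 1, 2, 1])], [(0, [0, 1, 0, 3, 0, 0, 0, 0, 2]), (2, [0, 0, 1, 3, 0, 0, 0, 2, 0]), (3, [3, 3, 2, 2, 3, 3, 2, 1, 2]), (2, [3, 2, 3, 2, 3, 3, 2, 2, 1])], [(0, [0, 1, 0, 3, 0, 0, 0, 0, 2]), (2, [0, 0, 1, 3, 0, 0, 0, 2, 0]), (3, [3,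 3, 2, 2, 3, 3, 2, 1, 2]), (3, [0, 0, 3, 0, 2, 0, 1, 0, 0])], [(0, [0, 1, 0, 3, 0, 0, 0, 0, 2]), (2, [0, 0, 1, 3, 0, 0, 0, 2, 0]), (3, [3, 3, 2, 2, 3, 3, 2, 1, 2]), (4, [3, 3, 3, 1, 3, 2, 2, 3, 1])], [(0, [0, 1, 0, 3, 0, 0, 0, 0, 2]), (2, [0, 0, 1, 3, 0, 0, 0, 2, 0]), (4, [1, 1, 2, 2, 3, 2, 2, 1, 1]), (0, [2, 3, 2, 1, 1, 2, 2, 1, 1])], [(0, [0, 1, 0, 3, 0, 0, 0, 0, 2]), (2, [0, 0, 1, 3, 0, 0, 0, 2, 0]), (4, [1, 1, 2, 2, 3, 2, 2, 1, 1]), (3, [3, 3, 3, 3, 1, 2, 3, 2, 1])], [(0, [0, 1, 0, 3, 0, 0, 0, 0, 2]), (3, [1, 3, 1, 2, 3, 3, 1, 1, 3]), (0, [1, 3, 1, 1, 1, 3, 2, 3, 3]), (1, [3, 1, 1, 1, 1, 3, 3, 2, 3])], [(0, [0, 1, 0, 3, 0, 0, 0, 0, 2]), (3, [1, 3,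 1, 2, 3, 3, 1, 1, 3]), (0, [1, 3, 1, 1, 1, 3, 2, 3, 3]), (2, [1, 1, 3, 1, 3, 1, 2, 3, 3])], [(0, [0, 1, 0, 3, 0, 0, 0, 0, 2]), (3, [1, 3, 1, 2, 3, 3, 1, 1, 3]), (0, [1, 3, 1, 1, 1, 3, 2, 3, 3]), (4, [1, 2, 3, 1, 1, 1, 1, 3, 2])], [(0, [0, 1, 0, 3, 0, 0, 0, 0, 2]), (3, [1, 3, 1, 2, 3, 3, 1, 1, 3]), (2, [1, 1, 3, 2, 3, 3, 1, 3, 1]), (0, [2, 3, 3, 1, 1, 3, 1, 3, 1])], [(0, [0, 1, 0, 3, 0, 0, 0, 0, 2]), (3, [1, 3, 1, 2, 3, 3, 1, 1, 3]), (2, [1, 1, 3, 2, 3, 3, 1, 3, 1]), (1, [1, 1, 3, 3, 2, 3, 3, 1, 1])], [(0, [0, 1, 0, 3, 0, 0, 0, 0, 2]), (3, [1, 3, 1, 2, 3, 3, 1, 1, 3]), (2, [1, 1, 3, 2, 3, 3, 1, 3, 1]), (4, [1, 1, 1, 1, 3, 2, 1, 2, 3])], [(0, [0, 1, 0,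 3, 0, 0, 0, 0, 2]), (3, [1, 3, 1, 2, 3, 3, 1, 1, 3]), (3, [3, 0, 0, 0, 2, 0, 0, 0, 1]), (0, [0, 2, 0, 3, 0, 0, 0, 0, 1])]]

end CfsgLib.SUShort.Q2
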