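import Cfsg.Agent.SUShort.Calc
import Cfsg.Agent.SUShort.Q2Words
import Cfsg.Agent.SUShort.Core
import Cfsg.Agent.SLShort.Glue
import Mathlib.Algebra.QuadraticAlgebra.Basic

/-!
Generators over the field with four elements.
-/

set_option autoImplicit false
set_option linter.unusedSectionVars false
set_option linter.style.haveILetI false
set_option maxRecDepth 100000

namespace CfsgLib.SUShort.Q2

open Matrix CfsgLib.Forms CfsgLib.Unitary CfsgLib.BPres CfsgLib.SLShort CfsgLib.Coset Equiv
open CfsgLib.Phan hiding ev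

/-- The field with four elements. -/
abbrev K4 : Type := QuadraticAlgebra (ZMod 2) 1 1

instance k4Fact : Fact (∀ r : ZMod 2, r ^ 2 ≠ 1 + 1 * r) := ⟨by decide⟩
instance k4Prime : Fact (Nat.Prime 2) := ⟨by norm_num⟩
instance k4Fintype : Fintype K4 := Fintype.ofEquiv _ (QuadraticAlgebra.equivProd (1 : ZMod 2) 1).symm

theorem card_K4 : Nat.card K4 = 2 ^ 2 := by rw [Nat.card_eq_fintype_card]; rfl

/-- An element from its code. -/
def dec (c : Nat) : K4 := ⟨((c / 2 : Nat) : ZMod 2), ((c % 2 : Nat) : ZMod 2)⟩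

/-- The code of an element. -/
def enc (x : K4) : Nat := 2 * x.re.val + x.im.val

theorem y_ok : ∀ i : Fin 2, (mk dec 2 (codeY.getD i.1 [])).det = 1 ∧
    ∀ k l, ∑ a, mk dec 2 (codeY.getD i.1 []) a k * mk dec 2 (codeY.getD i.1 []) a l ^ 2 =
      if k = l then 1 else 0 := by decide +kernel

theorem w_ok : ∀ i : Fin 2, (mk dec 3 (codeW.getD i.1 [])).det = 1 ∧
    ∀ k l, ∑ a, mk dec 3 (codeW.getD i.1 []) a k * mk dec 3 (codeW.getD i.1 []) a l ^ 2 =
      if k = l then 1 else 0 := by decide +kernel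

theorem ab_ok : ∀ i : Fin 2, (mk dec 4 (code4.getD i.1 [])).det = 1 ∧
    ∀ k l, ∑ a, mk dec 4 (code4.getD i.1 []) a k * mk dec 4 (code4.getD i.1 []) a l ^ 2 =
      if k = l then 1 else 0 := by decide +kernel

/-- Generators of the small group. -/
def yK (i : Fin 2) : Cfsg.SU 2 K4 2 :=
  ⟨⟨_, (y_ok i).1⟩, fun u v => preserves_of_cols card_K4 _ (y_ok i).2 u v⟩

/-- The two extra elements in three variables. -/
def wK (i : Fin 2) : Cfsg.SU 3 K4 2 :=
  ⟨⟨_, (w_ok i).1⟩, fun u v => preserves_of_cols card_K4 _ (w_ok i).2 u v⟩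

/-- The standard generators in four variables. -/
def abK (i : Fin 2) : Cfsg.SU 4 K4 2 :=
  ⟨⟨_, (ab_ok i).1⟩, fun u v => preserves_of_cols card_K4 _ (ab_ok i).2 u v⟩

/-- An entry of a coded matrix. -/
def ent (m : ℕ) (l : List Nat) (a b : Fin m) : K4 := mk dec m l a b

/-- Letters in three variables. -/
noncomputable def g3K : Fin 5 → Cfsg.SU 3 K4 2 :=
  ![emb (win 0 2 3 (by omega)) (yK 0), emb (win 0 2 3 (by omega)) (yK 1),
    emb (win 1 2 3 (by omega)) (yK 1), wK 0, wK 1]

/-- A block of a generator, as a matrix. -/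
theorem emb_y_eq {m i : ℕ} {h : i + 2 ≤ m} (j : Fin 2) (l : List Nat)
    (h1 : ∀ a b, ent m l (win i 2 m h a) (win i 2 m h b) = ent 2 (codeY.getD j.1 []) a b)
    (h2 : ∀ a b, ((∀ c, win i 2 m h c ≠ a) ∨ ∀ c, win i 2 m h c ≠ b) →
      ent m l a b = if a = b then 1 else 0) :
    matHom (emb (win i 2 m h) (yK j)) = mk dec m l :=
  matHom_emb_eq _ _ h1 h2

theorem mat3 : ∀ i : Fin 5, matHom (g3K i) = mk dec 3 (code3.getD i.1 []) := by
  intro i
  fin_cases i
  · exact emb_y_eq 0 _ (by decide +kernel) (by decide +kernel)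
  · exact emb_y_eq 1 _ (by decide +kernel) (by decide +kernel)
  · exact emb_y_eq 1 _ (by decide +kernel) (by decide +kernel)
  · exact (show matHom (wK 0) = mk dec 3 (codeW.getD 0 []) from rfl).trans (by decide +kernel)
  · exact (show matHom (wK 1) = mk dec 3 (codeW.getD 1 []) from rfl).trans (by decide +kernel)

theorem target_t : matHom (PM (τ4 (n := 4) le_rfl) : Cfsg.SU 4 K4 2) = mk dec 4 (target4.getD 5 []) := by
  rw [matHom_PM]
  decide +kernel

theorem target_emb : ∀ i : Fin 5,
    matHom (emb (win 0 3 4 (by omega)) (g3K i)) = mk dec 4 (target4.getD i.1 []) := by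
  have h1 : ∀ i : Fin 5, ∀ a b : Fin 3,
      ent 4 (target4.getD i.1 []) (Fin.castLE (by omega) a) (Fin.castLE (by omega) b) =
        ent 3 (code3.getD i.1 []) a b := by decide +kernel
  have h2 : ∀ i : Fin 5, ∀ a b : Fin 4, (3 ≤ a.1 ∨ 3 ≤ b.1) →
      ent 4 (target4.getD i.1 []) a b = if a = b then 1 else 0 := by decide +kernel
  intro i
  refine matHom_emb_eq _ _ (fun a b => ?_) fun a b hab => h2 i a b ?_
  · rw [mat3]
    refine Eq.trans ?_ (h1 i a b)
    show ent 4 _ _ _ = _
    congr 1 <;> exact Fin.ext (by simp)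
  · rcases hab with hh | hh
    · refine Or.inl (Nat.le_of_not_lt fun hlt => hh ⟨a.1, hlt⟩ (Fin.ext (by simp)))
    · refine Or.inr (Nat.le_of_not_lt fun hlt => hh ⟨b.1, hlt⟩ (Fin.ext (by simp)))

theorem letters4 : ∀ x : Nat, x < 4 → matHom (fl (lett abK) x) = mk dec 4 (code4.getD x []) := by
  have hinv : ∀ i : Fin 2, mk dec 4 (code4.getD i.1 []) * mk dec 4 (code4.getD (2 + i.1) []) = 1 := by
    decide +kernel
  intro x hx
  rcases Nat.lt_or_ge x 2 with h | h
  · rw [show x = (⟨x, h⟩ : Fin 2).1 from rfl, fl_lett_gen]; rfl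
  · obtain ⟨i, rfl⟩ : ∃ i : Fin 2, x = 2 + i.1 := ⟨⟨x - 2, by omega⟩, by simp; omega⟩
    rw [fl_lett_inv]
    exact matHom_inv (hinv i)

theorem letters3 : ∀ x : Nat, x < 5 → matHom (fl (List.ofFn g3K) x) = mk dec 3 (code3.getD x []) := by
  intro x hx
  rw [fl, List.getD_eq_getElem _ _ (by simpa using hx), List.getElem_ofFn]
  exact mat3 _

theorem traceRels_ok : ∀ t ∈ traceRels,
    chk dec 4 (fun x => code4.getD x []) one4 t = true ∧ ∀ x ∈ t.map Prod.fst, x < 4 := by decide +kernel

theorem traceTo_ok : ∀ i : Fin 6,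
    chkTo dec 4 (fun x => code4.getD x []) (target4.getD i.1 []) one4 (traceTo.getD i.1 []) = true ∧
      ∀ x ∈ (traceTo.getD i.1 []).map Prod.fst, x < 4 := by decide +kernel

/-- The value at the end of a trace. -/
def endCode (t : List (Nat × List Nat)) : List Nat := (t.getLast?.map Prod.snd).getD one3

theorem trace3_ok : ∀ i : Fin 109,
    chkTo dec 3 (fun x => code3.getD x []) (endCode (trace3.getD i.1 [])) one3 (trace3.getD i.1 []) = true ∧
      ∀ x ∈ (trace3.getD i.1 []).map Prod.fst, x < 5 := by decide +kernel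

theorem endCode_enc : ∀ i : Fin 109,
    (List.range 9).map (fun j => enc (dec ((endCode (trace3.getD i.1 [])).getD j 0))) =
      endCode (trace3.getD i.1 []) := by decide +kernel

theorem endCode_nodup : ((List.range 109).map fun i => endCode (trace3.getD i [])).Nodup := by
  decide +kernel

theorem one4_eq : (1 : Matrix (Fin 4) (Fin 4) K4) = mk dec 4 one4 := by decide +kernel

theorem one3_eq : (1 : Matrix (Fin 3) (Fin 3) K4) = mk dec 3 one3 := by decide +kernel

theorem ev_rels {w : List Nat} (hw : w ∈ traceRels.map fun t => t.map Prod.fst) :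
    ev (lett abK) w = 1 := by
  obtain ⟨t, ht, rfl⟩ := List.mem_map.1 hw
  refine matHom_injective ?_
  rw [map_one, ← one_mul (ev _ _)]
  exact chk_sound matHom dec _ _ t one4 1 (by rw [map_one]; exact one4_eq)
    (fun x hx => letters4 x ((traceRels_ok t ht).2 x hx)) (traceRels_ok t ht).1

theorem target_mem (i : Fin 6) : ∃ g ∈ Subgroup.closure (Set.range abK),
    matHom g = mk dec 4 (target4.getD i.1 []) := by
  refine ⟨ev (lett abK) ((traceTo.getD i.1 []).map Prod.fst), ?_, ?_⟩
  · refine list_prod_mem fun y hy => ?_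
    obtain ⟨x, hx, rfl⟩ := List.mem_map.1 hy
    rcases Nat.lt_or_ge x 2 with h | h
    · rw [show x = (⟨x, h⟩ : Fin 2).1 from rfl, fl_lett_gen]
      exact Subgroup.subset_closure ⟨_, rfl⟩
    · obtain ⟨j, rfl⟩ : ∃ j : Fin 2, x = 2 + j.1 :=
        ⟨⟨x - 2, by have := (traceTo_ok i).2 x hx; omega⟩, by simp; omega⟩
      rw [fl_lett_inv]
      exact inv_mem (Subgroup.subset_closure ⟨_, rfl⟩)
  · rw [← one_mul (ev _ _)]
    exact chkTo_sound matHom dec _ _ _ _ one4 1 (by rw [map_one]; exact one4_eq)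
      (fun x hx => letters4 x ((traceTo_ok i).2 x hx)) (traceTo_ok i).1

theorem swap_w (i : Fin 2) : emb (pe (Equiv.swap 0 1)) (wK i) = wK i := by
  have h : ∀ i : Fin 2, ∀ a b : Fin 3,
      ent 3 (codeW.getD i.1 []) (Equiv.swap 0 1 a) (Equiv.swap 0 1 b) =
        ent 3 (codeW.getD i.1 []) a b := by decide +kernel
  refine matHom_injective (matHom_emb_eq (M := mk dec 3 (codeW.getD i.1 [])) _ _ (fun a b => h i a b)
    fun a b hab => ?_)
  rcases hab with hh | hh
  · exact absurd (by simp) (hh (Equiv.swap 0 1 a))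
  · exact absurd (by simp) (hh (Equiv.swap 0 1 b))

theorem closure_g3K : Subgroup.closure (Set.range g3K) = ⊤ := by
  classical
  set S := Subgroup.closure (Set.range g3K)
  let f : Fin 109 → S := fun a => ⟨ev (List.ofFn g3K) ((trace3.getD a.1 []).map Prod.fst),
    list_prod_mem fun y hy => by
      obtain ⟨x, hx, rfl⟩ := List.mem_map.1 hy
      have h5 := (trace3_ok a).2 x hx
      rw [fl, List.getD_eq_getElem _ _ (by simpa using h5), List.getElem_ofFn]
      exact Subgroup.subset_closure ⟨_, rfl⟩⟩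
  have hval : ∀ a : Fin 109, matHom (f a : Cfsg.SU 3 K4 2) = mk dec 3 (endCode (trace3.getD a.1 [])) :=
    fun a => by
      rw [← one_mul (f a : Cfsg.SU 3 K4 2)]
      exact chkTo_sound matHom dec _ _ _ _ one3 1 (by rw [map_one]; exact one3_eq)
        (fun x hx => letters3 x ((trace3_ok a).2 x hx)) (trace3_ok a).1
  have hf : Function.Injective f := fun a b e => by
    have hm : mk dec 3 (endCode (trace3.getD a.1 [])) = mk dec 3 (endCode (trace3.getD b.1 [])) := by
      rw [← hval, ← hval, e]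
    have hc : endCode (trace3.getD a.1 []) = endCode (trace3.getD b.1 []) := by
      rw [← endCode_enc a, ← endCode_enc b]
      refine List.map_congr_left fun j hj => congrArg enc ?_
      have hj9 : j < 9 := List.mem_range.1 hj
      have := congrFun (congrFun hm ⟨j / 3, by omega⟩) ⟨j % 3, by omega⟩
      simp only [mk, Matrix.of_apply] at this
      rwa [show j / 3 * 3 + j % 3 = j by omega] at this
    exact Fin.ext ((List.Nodup.getElem_inj_iff endCode_nodup (hi := by simp) (hj := by simp)).1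
      (by simpa using hc))
  have h216 : Nat.card (Cfsg.SU 3 K4 2) = 216 := by
    have h := card_SU_mul card_K4 (n := 3) (by norm_num)
    rw [card_GU card_K4] at h
    simp only [Finset.prod_range_succ, Finset.prod_range_zero, one_mul] at h
    norm_num [-Nat.card_eq_fintype_card, parity_simps] at h
    omega
  have h109 : 109 ≤ Nat.card S := (Nat.card_fin 109).symm.le.trans (Nat.card_le_card_of_injective f hf)
  have hd : Nat.card S ∣ 216 := h216 ▸ Subgroup.card_subgroup_dvd_card S
  refine Subgroup.eq_top_of_card_eq S ?_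
  rw [h216]
  have h216' := Nat.le_of_dvd (by norm_num) hd
  obtain ⟨k, hk⟩ := hd
  rcases k with - | - | k
  · omega
  · omega
  · exfalso; nlinarith

end CfsgLib.SUShort.Q2
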