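import Cfsg.Agent.SUShort.Q3Mats
import Cfsg.Agent.SUShort.Q3Table
import Cfsg.Agent.SUShort.Big

/-!
The base of the glue over the field with nine elements.
-/

set_option autoImplicit false
set_option linter.unusedSectionVars false
set_option linter.style.haveILetI false
set_option maxRecDepth 100000

namespace CfsgLib.SUShort.Q3

open Matrix CfsgLib.Forms CfsgLib.Unitary CfsgLib.BPres CfsgLib.SLShort CfsgLib.Coset Equiv
open CfsgLib.Phan hiding ev

theorem rels_perm : ∀ w ∈ rels, w ∈ allRels := by decide +kernel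

theorem c4_c3 : altEmb (win 0 3 4 (by omega)) c012 = c4 := rfl

theorem pi_word : c4⁻¹ * t4 * c4 = π4 (n := 4) le_rfl ∧ c4⁻¹ * t4⁻¹ * c4 = π4 (n := 4) le_rfl ∧
    (π4 (n := 4) le_rfl)⁻¹ = π4 (n := 4) le_rfl := by decide +kernel

theorem alt_rels4 : c4 * c4 * c4 = 1 ∧ t4 * t4 = 1 ∧ c4 * t4 * c4 * t4 * c4 * t4 = 1 := by decide +kernel

theorem alt_four : ∀ σ : alternatingGroup (Fin 4), ∃ (j : Fin 3),
    σ = c4 ^ (j : ℕ) ∨ σ = t4 * c4 ^ (j : ℕ) ∨ σ = c4 * t4 * c4⁻¹ * c4 ^ (j : ℕ) ∨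
      σ = c4⁻¹ * t4 * c4 * c4 ^ (j : ℕ) := by decide +kernel

theorem win_trans : (win 0 2 3 (by omega)).trans (win 0 3 4 (by omega)) = win 0 2 4 (by omega) :=
  Function.Embedding.ext fun a => Fin.ext (by simp)

theorem win_shift : win 1 2 3 (by omega) = (win 0 2 3 (by omega)).trans (c012 : Perm (Fin 3)).toEmbedding :=
  Function.Embedding.ext (by decide)

variable {F : Type*} [Field F] [Finite F] (e : K9 ≃+* F)

/-- The generators of the small group. -/
noncomputable def yF (i : Fin 2) : Cfsg.SU 2 F 3 := suHom e (yK i)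

theorem suHom_surjective {n q : ℕ} : Function.Surjective (suHom (n := n) (q := q) e) := fun g =>
  ⟨suHom e.symm g, matHom_injective (by
    rw [matHom_suHom, matHom_suHom]
    ext i j
    exact e.apply_symm_apply _)⟩

theorem closure_yF : Subgroup.closure (Set.range (yF e)) = ⊤ := by
  rw [show Set.range (yF e) = suHom e '' Set.range yK by rw [← Set.range_comp]; rfl,
    ← MonoidHom.map_closure, closure_yK, ← MonoidHom.range_eq_map, MonoidHom.range_eq_top]
  exact suHom_surjective e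

/-- Letters in three variables. -/
noncomputable def g3F : Fin 4 → Cfsg.SU 3 F 3 := suHom e ∘ g3K

theorem g3F_eq : g3F e = ![emb (win 0 2 3 (by omega)) (yF e 0), emb (win 0 2 3 (by omega)) (yF e 1),
    PM c012, 1] := by
  funext i
  fin_cases i
  · exact suHom_emb e _ _
  · exact suHom_emb e _ _
  · exact suHom_PM e _
  · exact map_one (suHom e)

/-- Letters in four variables. -/
noncomputable def g4F : Fin 4 → Cfsg.SU 4 F 3 := suHom e ∘ g4K

theorem g4F_eq : g4F e = ![emb (win 0 2 4 (by omega)) (yF e 0), emb (win 0 2 4 (by omega)) (yF e 1),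
    PM c4, PM t4] := by
  funext i
  fin_cases i
  · exact suHom_emb e _ _
  · exact suHom_emb e _ _
  · exact suHom_PM e _
  · exact suHom_PM e _

theorem card_le (hF : Nat.card F = 3 ^ 2) : Nat.card (Cfsg.SU 4 F 3) = 13063680 ∧
    Nat.card (Cfsg.SU 3 F 3) = 6048 := by
  constructor
  · have h := card_SU_mul hF (n := 4) (by norm_num)
    rw [card_GU hF] at h
    simp only [Finset.prod_range_succ, Finset.prod_range_zero, one_mul] at h
    norm_num [-Nat.card_eq_fintype_card, parity_simps] at h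
    omega
  · have h := card_SU_mul hF (n := 3) (by norm_num)
    rw [card_GU hF] at h
    simp only [Finset.prod_range_succ, Finset.prod_range_zero, one_mul] at h
    norm_num [-Nat.card_eq_fintype_card, parity_simps] at h
    omega

variable {G : Type*} [Group G]

/-- The extra relations as a hypothesis. -/
def ERels (ψ : Cfsg.SU 3 F 3 →* G) (t : G) : Prop :=
  ∀ w ∈ eRels, ev (lett ![ψ (g3F e 0), ψ (g3F e 1), ψ (g3F e 2), t]) w = 1

theorem eRels_true : ERels e (emb (win 0 3 4 (by omega))) (PM t4 : Cfsg.SU 4 F 3) := by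
  intro w hw
  rw [show (![emb (win 0 3 4 (by omega)) (g3F e 0), emb (win 0 3 4 (by omega)) (g3F e 1),
      emb (win 0 3 4 (by omega)) (g3F e 2), PM t4] : Fin 4 → Cfsg.SU 4 F 3) = g4F e by
    rw [g4F_eq, g3F_eq]
    funext i
    fin_cases i
    · show emb _ (emb _ (yF e 0)) = emb _ (yF e 0)
      rw [emb_comp, win_trans]
    · show emb _ (emb _ (yF e 1)) = emb _ (yF e 1)
      rw [emb_comp, win_trans]
    · show emb _ (PM c012) = PM c4
      rw [emb_PM, c4_c3]
    · rfl, g4F, ev_lett_map, ev4 (by simp [allRels, hw]), map_one]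

variable (ψ : Cfsg.SU 3 F 3 →* G) (A : alternatingGroup (Fin 4) →* G)

/-- The base over nine elements. -/
theorem exists_four (hF : Nat.card F = 3 ^ 2) (hrot : A c4 = ψ (PM c012))
    (hflip : ∀ Y, A t4 * u0 ψ Y * (A t4)⁻¹ = u0 ψ (emb (pe (Equiv.swap 0 1)) Y))
    (hfar : ∀ Y Z, Commute (u0 ψ Y) (A (π4 (n := 4) le_rfl) * u0 ψ Z * (A (π4 (n := 4) le_rfl))⁻¹))
    (hE : ERels e ψ (A t4)) :
    ∃ Φ : Cfsg.SU 4 F 3 →* G, (∀ X, Φ (emb (win 0 3 4 (by omega)) X) = ψ X) ∧ ∀ σ, Φ (PM σ) = A σ := by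
  classical
  set gG : Fin 4 → G := ![ψ (g3F e 0), ψ (g3F e 1), ψ (g3F e 2), A t4] with hgG
  set gP : Fin 4 → G × Cfsg.SU 4 F 3 := fun i => (gG i, g4F e i) with hgP
  set L := lett gP with hL
  set i3 : Cfsg.SU 3 F 3 →* Cfsg.SU 4 F 3 := emb (win 0 3 4 (by omega)) with hi3
  set H : Subgroup (G × Cfsg.SU 4 F 3) := (ψ.prod i3).range with hH
  have e2 : ψ (g3F e 2) = A c4 := by rw [g3F_eq, hrot]; rfl
  -- the relations in the first factor
  have hG : ∀ w ∈ allRels, ev (lett gG) w = 1 := by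
    intro w hw
    simp only [allRels, List.mem_append] at hw
    have hy0 : ψ (g3F e 0) = u0 ψ (yF e 0) := by rw [g3F_eq]; rfl
    have hy1 : ψ (g3F e 1) = u0 ψ (yF e 1) := by rw [g3F_eq]; rfl
    rcases hw with ((((hw | hw) | hw) | hw) | hw) | hw
    · simp only [invRels, List.mem_cons, List.not_mem_nil, or_false] at hw
      rcases hw with rfl | rfl | rfl | rfl | rfl | rfl | rfl | rfl <;> simp [ev, fl, lett]
    · simp only [altRels, List.mem_cons, List.not_mem_nil, or_false] at hw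
      rcases hw with rfl | rfl | rfl
      · show ψ (g3F e 2) * (ψ (g3F e 2) * (ψ (g3F e 2) * 1)) = 1
        rw [e2, mul_one, ← mul_assoc, ← map_mul A, ← map_mul A, alt_rels4.1, map_one]
      · show A t4 * (A t4 * 1) = 1
        rw [mul_one, ← map_mul A, alt_rels4.2.1, map_one]
      · show ψ (g3F e 2) * (A t4 * (ψ (g3F e 2) * (A t4 * (ψ (g3F e 2) * (A t4 * 1))))) = 1
        rw [e2, mul_one]
        simp only [← mul_assoc]
        rw [← map_mul A, ← map_mul A, ← map_mul A, ← map_mul A, ← map_mul A, alt_rels4.2.2, map_one]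
    · have hfy : ∀ i, A t4 * u0 ψ (yF e i) * (A t4)⁻¹ =
          u0 ψ (suHom e (emb (pe (Equiv.swap 0 1)) (yK i))) := fun i => by
        rw [hflip, suHom_emb]; rfl
      simp only [flipRels, List.mem_cons, List.not_mem_nil, or_false] at hw
      rcases hw with rfl | rfl
      · have := hfy 0
        rw [flip_y.1] at this
        show A t4 * (ψ (g3F e 0) * ((A t4)⁻¹ * ((ψ (g3F e 0))⁻¹ * 1))) = 1
        rw [hy0, mul_one, ← mul_assoc, ← mul_assoc, this]
        exact mul_inv_cancel _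
      · have := hfy 1
        rw [flip_y.2] at this
        show A t4 * (ψ (g3F e 1) * ((A t4)⁻¹ * ((ψ (g3F e 0))⁻¹ * ((ψ (g3F e 1))⁻¹ *
          ((ψ (g3F e 0))⁻¹ * ((ψ (g3F e 0))⁻¹ * ((ψ (g3F e 0))⁻¹ * 1))))))) = 1
        rw [hy0, hy1, mul_one, ← mul_assoc, ← mul_assoc, this]
        simp only [yF, map_mul]
        group
    · have hP : (A c4)⁻¹ * A t4 * A c4 = A (π4 (n := 4) le_rfl) := by
        rw [← map_inv A, ← map_mul A, ← map_mul A, pi_word.1]
      have hP' : (A c4)⁻¹ * (A t4)⁻¹ * A c4 = (A (π4 (n := 4) le_rfl))⁻¹ := by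
        rw [← map_inv A, ← map_inv A, ← map_inv A, ← map_mul A, ← map_mul A, pi_word.2.1, pi_word.2.2]
      have key : ∀ a b : Cfsg.SU 2 F 3, u0 ψ a * ((A c4)⁻¹ * A t4 * A c4) * u0 ψ b *
          ((A c4)⁻¹ * (A t4)⁻¹ * A c4) * (u0 ψ a)⁻¹ * ((A c4)⁻¹ * A t4 * A c4) * (u0 ψ b)⁻¹ *
          ((A c4)⁻¹ * (A t4)⁻¹ * A c4) = 1 := fun a b => by
        rw [hP, hP']
        have hc := (hfar a b).eq
        set P := A (π4 (n := 4) le_rfl)
        calc _ = (u0 ψ a * (P * u0 ψ b * P⁻¹)) * ((u0 ψ a)⁻¹ * (P * u0 ψ b * P⁻¹)⁻¹) := by group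
          _ = 1 := by rw [hc]; group
      simp only [farRels, List.mem_cons, List.not_mem_nil, or_false] at hw
      rcases hw with rfl | rfl | rfl | rfl
      · simpa [ev, fl, lett, hgG, e2, hy0, mul_assoc] using key (yF e 0) (yF e 0)
      · simpa [ev, fl, lett, hgG, e2, hy0, hy1, mul_assoc] using key (yF e 0) (yF e 1)
      · simpa [ev, fl, lett, hgG, e2, hy0, hy1, mul_assoc] using key (yF e 1) (yF e 0)
      · simpa [ev, fl, lett, hgG, e2, hy1, mul_assoc] using key (yF e 1) (yF e 1)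
    · have key : ∀ v ∈ hRels, ∀ x ∈ v, x < 8 ∧ x % 4 ≠ 3 := by decide +kernel
      rw [ev_congr (L' := lett (ψ ∘ g3F e)) fun x hx => ?_, ev_lett_map, g3F, ev_lett_map, ev3 hw,
        map_one, map_one]
      obtain ⟨h8, h3⟩ := key w hw x hx
      interval_cases x <;> first | rfl | omega
    · exact hE w hw
  have h4 : ∀ w ∈ allRels, ev (lett (g4F e)) w = 1 := fun w hw => by
    rw [g4F, ev_lett_map, ev4 hw, map_one]
  have hfst : (MonoidHom.fst G (Cfsg.SU 4 F 3)) ∘ gP = gG := rfl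
  have hsnd : (MonoidHom.snd G (Cfsg.SU 4 F 3)) ∘ gP = g4F e := rfl
  have hrel : ∀ w ∈ rels, ev L w = 1 := fun w hw => by
    refine Prod.ext ?_ ?_
    · rw [show (ev L w).1 = ev (lett gG) w by rw [← hfst, ev_lett_map]; rfl, hG w (rels_perm w hw)]; rfl
    · rw [show (ev L w).2 = ev (lett (g4F e)) w by rw [← hsnd, ev_lett_map]; rfl, h4 w (rels_perm w hw)]
      rfl
  have hH' : ∀ i : Fin 3, gP (Fin.castLE (by omega) i) = ψ.prod i3 (g3F e (Fin.castLE (by omega) i)) := by
    intro i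
    rw [hgP, hgG, hi3]
    refine Prod.ext ?_ ?_
    · fin_cases i <;> rfl
    · show g4F e _ = emb (win 0 3 4 (by omega)) (g3F e _)
      rw [g4F_eq, g3F_eq]
      fin_cases i
      · show emb _ (yF e 0) = emb _ (emb _ (yF e 0))
        rw [emb_comp, win_trans]
      · show emb _ (yF e 1) = emb _ (emb _ (yF e 1))
        rw [emb_comp, win_trans]
      · show PM c4 = emb _ (PM c012)
        rw [emb_PM, c4_c3]
  have hsub : ∀ w ∈ subs, ev L w ∈ H := by
    intro w hw
    simp only [subs, List.mem_cons, List.not_mem_nil, or_false] at hw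
    rcases hw with rfl | rfl | rfl
    exacts [⟨_, ((hH' 0).symm.trans (by simp [L, ev, fl, lett]))⟩,
      ⟨_, ((hH' 1).symm.trans (by simp [L, ev, fl, lett]))⟩,
      ⟨_, ((hH' 2).symm.trans (by simp [L, ev, fl, lett]))⟩]
  have hiv : ∀ x, fl L (iv x) = (fl L x)⁻¹ := by
    intro x
    rcases Nat.lt_or_ge x 8 with h | h
    · interval_cases x <;> first | rfl | exact (inv_inv _).symm
    · have h8 : Nat.ble 8 x = true := Nat.ble_eq_true_of_le h
      rw [show iv x = x by rw [iv, h8]; rfl, fl_of_le L (by simp [L, length_lett]; omega), inv_one]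
  have hlen : L.length = 8 := by simp [L, length_lett]
  have hT : TableOK L H E iv 2160 Rep Tb :=
    tableOK_of_check hiv hR (by rw [hlen]; exact hdefs) (by rw [hlen]; exact hsteps)
      (by rw [hlen]; exact htable) hrel hsub
  set Γ := Subgroup.closure {x | x ∈ L} with hΓ
  have hgΓ : ∀ i : Fin 4, gP i ∈ Γ := fun i => by
    rw [← fl_lett_gen gP i]; exact mem_closure_fl _
  have hHΓ : H ≤ Γ := by
    have hblk : Subgroup.closure (Set.range (emb (F := F) (q := 3) (win 0 2 3 (by omega))) ∪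
        Set.range (emb (F := F) (q := 3) (win 1 2 3 (by omega))) ∪ ∅) ≤ Γ.comap (ψ.prod i3) := by
      have hu : ∀ Y, ψ.prod i3 (emb (win 0 2 3 (by omega)) Y) ∈ Γ := by
        intro Y
        have hY : Y ∈ Subgroup.closure (Set.range (yF e)) := by rw [closure_yF]; trivial
        induction hY using Subgroup.closure_induction with
        | mem x hx =>
          obtain ⟨i, rfl⟩ := hx
          have := hgΓ (Fin.castLE (by omega) i)
          fin_cases i
          · rwa [show Fin.castLE _ (_ : Fin 2) = Fin.castLE (show 3 ≤ 4 by omega) (0 : Fin 3) from rfl, hH' 0,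
              g3F_eq] at this
          · rwa [show Fin.castLE _ (_ : Fin 2) = Fin.castLE (show 3 ≤ 4 by omega) (1 : Fin 3) from rfl, hH' 1,
              g3F_eq] at this
        | one => rw [map_one, map_one]; exact one_mem _
        | mul a b _ _ ha hb => rw [map_mul, map_mul]; exact mul_mem ha hb
        | inv a _ ha => rw [map_inv, map_inv]; exact inv_mem ha
      have hc : ψ.prod i3 (PM c012) ∈ Γ := by
        have := hgΓ (Fin.castLE (by omega) (2 : Fin 3))
        rwa [hH' 2, g3F_eq] at this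
      refine (Subgroup.closure_le _).2 ?_
      rintro x ((⟨Y, rfl⟩ | ⟨Y, rfl⟩) | h)
      · exact hu Y
      · show ψ.prod i3 (emb (win 1 2 3 (by omega)) Y) ∈ Γ
        rw [win_shift, ← PM_conj_emb, map_mul, map_mul, map_inv]
        exact mul_mem (mul_mem hc (hu Y)) (inv_mem hc)
      · exact absurd h (Set.notMem_empty x)
    rintro _ ⟨X, rfl⟩
    exact hblk (by rw [gen_pairs hF le_rfl ∅]; trivial)
  obtain ⟨h4c, h3c⟩ := card_le hF
  have hi3inj : Function.Injective (ψ.prod i3) := fun a b h =>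
    emb_injective _ (congrArg Prod.snd h)
  have hHc : Nat.card H = 6048 := by
    rw [← h3c]; exact (Nat.card_congr (MonoidHom.ofInjective hi3inj).toEquiv).symm
  haveI : Finite H := Nat.finite_of_card_ne_zero (by rw [hHc]; norm_num)
  obtain ⟨hfin, hcard⟩ := hT.finite_card_le (by norm_num) hHΓ inferInstance hHc.le
  haveI := hfin
  let π : Γ →* Cfsg.SU 4 F 3 := (MonoidHom.snd _ _).comp Γ.subtype
  have hA : ∀ σ, (A σ, (PM σ : Cfsg.SU 4 F 3)) ∈ Γ := by
    have hc : (A c4, (PM c4 : Cfsg.SU 4 F 3)) ∈ Γ := by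
      rw [show (A c4, (PM c4 : Cfsg.SU 4 F 3)) = gP 2 from Prod.ext e2.symm (by
        show _ = g4F e 2
        rw [g4F_eq]; rfl)]
      exact hgΓ 2
    have ht : (A t4, (PM t4 : Cfsg.SU 4 F 3)) ∈ Γ := by
      rw [show (A t4, (PM t4 : Cfsg.SU 4 F 3)) = gP 3 from Prod.ext rfl (by
        show _ = g4F e 3
        rw [g4F_eq]; rfl)]
      exact hgΓ 3
    intro σ
    obtain ⟨j, rfl | rfl | rfl | rfl⟩ := alt_four σ
    all_goals simp only [map_mul, map_pow, map_inv, ← Prod.mk_mul_mk, ← Prod.pow_mk, ← Prod.inv_mk]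
    · exact pow_mem hc _
    · exact mul_mem ht (pow_mem hc _)
    · exact mul_mem (mul_mem (mul_mem hc ht) (inv_mem hc)) (pow_mem hc _)
    · exact mul_mem (mul_mem (mul_mem (inv_mem hc) ht) hc) (pow_mem hc _)
  have hsur : Function.Surjective π := by
    rw [← MonoidHom.range_eq_top]
    refine closure_block_PM hF le_rfl _ (fun X => ?_) fun σ => ⟨⟨_, hA σ⟩, rfl⟩
    exact ⟨⟨_, hHΓ ⟨X, rfl⟩⟩, rfl⟩
  have hbij : Function.Bijective π := (Nat.bijective_iff_surjective_and_card _).2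
    ⟨hsur, le_antisymm (hcard.trans (by rw [h4c])) (Nat.card_le_card_of_surjective π hsur)⟩
  let P := MulEquiv.ofBijective π hbij
  have hval : ∀ p : Γ, ((MonoidHom.fst _ _).comp Γ.subtype) (P.symm (π p)) = p.1.1 := fun p => by
    rw [show P.symm (π p) = p from P.symm_apply_apply p]; rfl
  exact ⟨((MonoidHom.fst _ _).comp Γ.subtype).comp P.symm.toMonoidHom,
    fun X => hval ⟨_, hHΓ ⟨X, rfl⟩⟩, fun σ => hval ⟨_, hA σ⟩⟩

end CfsgLib.SUShort.Q3
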