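import Cfsg.Agent.Coset.Prim

/-! Matrices and traces for the relations over nine elements. -/

set_option autoImplicit false
set_option maxRecDepth 100000

namespace CfsgLib.SUShort.Q3

def code2 : List (List Nat) := [[0, 1, 1, 0], [4, 4, 7, 5], [0, 2, 2, 0], [5, 8, 5, 4]]
def code3 : List (List Nat) := [[0, 1, 0, 1, 0, 0, 0, 0, 3], [4, 4, 0, 7, 5, 0, 0, 0, 3], [0, 0, 3, 3, 0, 0, 0, 3, 0], [3, 0, 0, 0, 3, 0, 0, 0, 3], [0, 2, 0, 2, 0, 0, 0, 0, 3], [5, 8, 0, 5, 4, 0, 0, 0, 3], [0, 3, 0, 0, 0, 3, 3, 0, 0], [3, 0, 0, 0, 3, 0, 0, 0, 3]]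
def code4 : List (List Nat) := [[0, 1, 0, 0, 1, 0, 0, 0, 0, 0, 3, 0, 0, 0, 0, 3], [4, 4, 0, 0, 7, 5, 0, 0, 0, 0, 3, 0, 0, 0, 0, 3], [0, 0, 3, 0, 3, 0, 0, 0, 0, 3, 0, 0, 0, 0, 0, 3], [0, 3, 0, 0, 3, 0, 0, 0, 0, 0, 0, 3, 0, 0, 3, 0], [0, 2, 0, 0, 2, 0, 0, 0, 0, 0, 3, 0, 0, 0, 0, 3], [5, 8, 0, 0, 5, 4, 0, 0, 0, 0, 3, 0, 0, 0, 0, 3], [0, 3, 0, 0, 0, 0, 3, 0, 3, 0, 0, 0, 0, 0, 0, 3], [0, 3, 0, 0, 3, 0, 0, 0, 0, 0, 0, 3, 0, 0, 3, 0]]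
def one3 : List Nat := [3, 0, 0, 0, 3, 0, 0, 0, 3]
def one4 : List Nat := [3, 0, 0, 0, 0, 3, 0, 0, 0, 0, 3, 0, 0, 0, 0, 3]
def invRels : List (List Nat) := [[0, 4], [1, 5], [2, 6], [3, 7], [4, 0], [5, 1], [6, 2], [7, 3]]
def altRels : List (List Nat) := [[2, 2, 2], [3, 3], [2, 3, 2, 3, 2, 3]]
def flipRels : List (List Nat) := [[3, 0, 7, 4], [3, 1, 7, 4, 5, 4, 4, 4]]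
def farRels : List (List Nat) := [[0, 6, 3, 2, 0, 6, 7, 2, 4, 6, 3, 2, 4, 6, 7, 2], [0, 6, 3, 2, 1, 6, 7, 2, 4, 6, 3, 2, 5, 6, 7, 2], [1, 6, 3, 2, 0, 6, 7, 2, 5, 6, 3, 2, 4, 6, 7, 2], [1, 6, 3, 2, 1, 6, 7, 2, 5, 6, 3, 2, 5, 6, 7, 2]]
def hRels : List (List Nat) := [[5, 6, 0, 0, 2, 4, 1, 6, 4, 4, 2], [1, 0, 2, 0, 0, 5, 0, 1, 2, 0, 5, 4], [2, 1, 2, 0, 5, 0, 1, 6, 0, 1, 2, 4], [2, 1, 2, 1, 4, 1, 1, 6, 0, 1, 2, 4], [2, 1, 2, 4, 6, 4, 2, 4, 5, 6, 4, 4], [2, 1, 2, 5, 0, 1, 4, 6, 0, 1, 2, 4], [2, 1, 6, 1, 0, 0, 5, 4, 6, 1, 2, 4], [2, 1, 6, 1, 0, 1, 0, 1, 6, 1, 2, 4], [2, 1, 6, 1, 2, 5, 6, 1, 2, 1, 6, 5], [2, 1, 6, 1, 4, 1, 4, 1, 6, 1, 2, 4]]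
def eRels : List (List Nat) := [[3, 2, 1, 2, 1, 2, 3, 2, 1, 2, 3, 1, 2, 5, 3, 2, 1, 2, 3, 2, 5, 2, 5, 6, 0], [3, 2, 1, 2, 1, 2, 3, 2, 5, 2, 3, 1, 6, 3, 5, 6, 5, 6, 3, 6, 1, 2, 5, 0, 2]]
def trace3 : List (List (Nat × List Nat)) := [[(5, [5, 8, 0, 5, 4, 0, 0, 0, 3]), (6, [0, 5, 8, 0, 5, 4, 3, 0, 0]), (0, [4, 0, 8, 4, 0, 4, 0, 1, 0]), (0, [0, 7, 8, 0, 7, 4, 6, 0, 0]), (2, [7, 8, 0, 7, 4, 0, 0, 0, 6]), (4, [7, 4, 0, 5, 4, 0, 0, 0, 6]), (1, [6, 0, 0, 0, 3, 0, 0, 0, 6]), (6, [0, 6, 0, 0, 0, 3, 6, 0, 0]), (4, [1, 0, 0, 0, 0, 3, 0, 1, 0]), (4, [0, 3, 0, 0, 0, 3, 3, 0, 0]), (2, [3, 0, 0, 0, 3, 0, 0, 0, 3])], [(1, [4, 4, 0, 7, 5, 0, 0, 0, 3]), (0, [7, 7,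 0, 4, 8, 0, 0, 0, 3]), (2, [7, 0, 7, 8, 0, 4, 0, 3, 0]), (0, [0, 8, 7, 0, 5, 4, 1, 0, 0]), (0, [5, 0, 7, 4, 0, 4, 0, 6, 0]), (5, [1, 3, 7, 6, 1, 4, 7, 8, 0]), (0, [1, 6, 7, 6, 2, 4, 5, 8, 0]), (1, [0, 5, 7, 0, 4, 4, 3, 0, 0]), (2, [5, 7, 0, 4, 4, 0, 0, 0, 3]), (0, [8, 4, 0, 7, 7, 0, 0, 0, 3]), (5, [0, 1, 0, 1, 0, 0, 0, 0, 3]), (4, [3, 0, 0, 0, 3, 0, 0, 0, 3])], [(2, [0, 0, 3, 3, 0, 0, 0, 3, 0]), (1, [0, 0, 3, 4, 4, 0, 7, 5, 0]), (2, [0, 3, 0, 4, 0, 4, 5, 0, 7]), (0, [1, 0, 0, 0, 7, 4, 0, 4, 7]), (5, [4, 5, 0, 2, 3, 4, 6, 2, 7]), (0, [4, 7, 0, 1, 3, 4, 3, 2, 7]), (1, [0, 1, 0, 5, 0, 4, 8, 0, 7]), (6, [0, 0, 1, 4, 5, 0, 7, 8, 0]), (0, [0, 0, 1, 4,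 7, 0, 5, 8, 0]), (1, [0, 0, 1, 0, 1, 0, 3, 0, 0]), (2, [0, 1, 0, 1, 0, 0, 0, 0, 3]), (4, [3, 0, 0, 0, 3, 0, 0, 0, 3])], [(2, [0, 0, 3, 3, 0, 0, 0, 3, 0]), (1, [0, 0, 3, 4, 4, 0, 7, 5, 0]), (2, [0, 3, 0, 4, 0, 4, 5, 0, 7]), (1, [7, 5, 0, 2, 2, 4, 6, 6, 7]), (4, [8, 4, 0, 6, 6, 4, 1, 1, 7]), (1, [4, 7, 0, 1, 3, 4, 3, 2, 7]), (1, [0, 1, 0, 5, 0, 4, 8, 0, 7]), (6, [0, 0, 1, 4, 5, 0, 7, 8, 0]), (0, [0, 0, 1, 4, 7, 0, 5, 8, 0]), (1, [0, 0, 1, 0, 1, 0, 3, 0, 0]), (2, [0, 1, 0, 1, 0, 0, 0, 0, 3]), (4, [3, 0, 0, 0, 3, 0, 0, 0, 3])], [(2, [0, 0, 3, 3, 0, 0, 0, 3, 0]), (1, [0, 0, 3, 4, 4, 0, 7, 5, 0]), (2, [0, 3, 0, 4, 0, 4, 5, 0, 7]), (4, [2, 0, 0, 0, 5,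 4, 0, 8, 7]), (6, [0, 2, 0, 4, 0, 5, 7, 0, 8]), (4, [6, 0, 0, 0, 5, 5, 0, 4, 8]), (2, [0, 0, 6, 5, 5, 0, 4, 8, 0]), (4, [0, 0, 6, 8, 8, 0, 7, 5, 0]), (5, [0, 0, 6, 6, 0, 0, 0, 3, 0]), (6, [6, 0, 0, 0, 6, 0, 0, 0, 3]), (4, [0, 1, 0, 1, 0, 0, 0, 0, 3]), (4, [3, 0, 0, 0, 3, 0, 0, 0, 3])], [(2, [0, 0, 3, 3, 0, 0, 0, 3, 0]), (1, [0, 0, 3, 4, 4, 0, 7, 5, 0]), (2, [0, 3, 0, 4, 0, 4, 5, 0, 7]), (5, [5, 4, 0, 6, 1, 4, 1, 3, 7]), (0, [7, 4, 0, 6, 2, 4, 1, 6, 7]), (1, [6, 0, 0, 0, 4, 4, 0, 5, 7]), (4, [0, 1, 0, 5, 0, 4, 8, 0, 7]), (6, [0, 0, 1, 4, 5, 0, 7, 8, 0]), (0, [0, 0, 1, 4, 7, 0, 5, 8, 0]), (1, [0, 0, 1, 0, 1, 0, 3, 0, 0]), (2, [0, 1, 0, 1, 0, 0, 0,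 0, 3]), (4, [3, 0, 0, 0, 3, 0, 0, 0, 3])], [(2, [0, 0, 3, 3, 0, 0, 0, 3, 0]), (1, [0, 0, 3, 4, 4, 0, 7, 5, 0]), (6, [3, 0, 0, 0, 4, 4, 0, 7, 5]), (1, [4, 4, 0, 3, 6, 4, 1, 2, 5]), (0, [7, 7, 0, 2, 1, 4, 3, 6, 5]), (0, [8, 8, 0, 6, 3, 4, 2, 1, 5]), (5, [6, 0, 0, 0, 8, 4, 0, 5, 5]), (4, [0, 1, 0, 7, 0, 4, 8, 0, 5]), (6, [0, 0, 1, 4, 7, 0, 5, 8, 0]), (1, [0, 0, 1, 0, 1, 0, 3, 0, 0]), (2, [0, 1, 0, 1, 0, 0, 0, 0, 3]), (4, [3, 0, 0, 0, 3, 0, 0, 0, 3])], [(2, [0, 0, 3, 3, 0, 0, 0, 3, 0]), (1, [0, 0, 3, 4, 4, 0, 7, 5, 0]), (6, [3, 0, 0, 0, 4, 4, 0, 7, 5]), (1, [4, 4, 0, 3, 6, 4, 1, 2, 5]), (0, [7, 7, 0, 2, 1, 4, 3, 6, 5]), (1, [4, 5, 0, 1, 6, 4, 6, 2,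 5]), (0, [4, 7, 0, 2, 6, 4, 3, 2, 5]), (1, [0, 1, 0, 7, 0, 4, 8, 0, 5]), (6, [0, 0, 1, 4, 7, 0, 5, 8, 0]), (1, [0, 0, 1, 0, 1, 0, 3, 0, 0]), (2, [0, 1, 0, 1, 0, 0, 0, 0, 3]), (4, [3, 0, 0, 0, 3, 0, 0, 0, 3])], [(2, [0, 0, 3, 3, 0, 0, 0, 3, 0]), (1, [0, 0, 3, 4, 4, 0, 7, 5, 0]), (6, [3, 0, 0, 0, 4, 4, 0, 7, 5]), (1, [4, 4, 0, 3, 6, 4, 1, 2, 5]), (2, [4, 0, 4, 6, 4, 3, 2, 5, 1]), (5, [6, 1, 4, 4, 3, 3, 6, 4, 1]), (6, [4, 6, 1, 3, 4, 3, 1, 6, 4]), (1, [4, 6, 1, 7, 1, 3, 0, 5, 4]), (2, [6, 1, 4, 1, 3, 7, 5, 4, 0]), (1, [4, 0, 4, 5, 0, 7, 0, 3, 0]), (6, [4, 4, 0, 7, 5, 0, 0, 0, 3]), (5, [3, 0, 0, 0, 3, 0, 0, 0, 3])], [(2, [0, 0, 3, 3, 0, 0, 0, 3, 0]),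 (1, [0, 0, 3, 4, 4, 0, 7, 5, 0]), (6, [3, 0, 0, 0, 4, 4, 0, 7, 5]), (1, [4, 4, 0, 3, 6, 4, 1, 2, 5]), (4, [5, 5, 0, 1, 2, 4, 6, 3, 5]), (1, [8, 7, 0, 2, 3, 4, 3, 1, 5]), (4, [4, 7, 0, 2, 6, 4, 3, 2, 5]), (1, [0, 1, 0, 7, 0, 4, 8, 0, 5]), (6, [0, 0, 1, 4, 7, 0, 5, 8, 0]), (1, [0, 0, 1, 0, 1, 0, 3, 0, 0]), (2, [0, 1, 0, 1, 0, 0, 0, 0, 3]), (4, [3, 0, 0, 0, 3, 0, 0, 0, 3])]]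
def trace4 : List (List (Nat × List Nat)) := [[(0, [0, 1, 0, 0, 1, 0, 0, 0, 0, 0, 3, 0, 0, 0, 0, 3]), (4, [3, 0, 0, 0, 0, 3, 0, 0, 0, 0, 3, 0, 0, 0, 0, 3])], [(1, [4, 4, 0, 0, 7, 5, 0, 0, 0, 0, 3, 0, 0, 0, 0, 3]), (5, [3, 0, 0, 0, 0, 3, 0, 0, 0, 0, 3, 0, 0, 0, 0, 3])], [(2, [0, 0, 3, 0, 3, 0, 0, 0, 0, 3, 0, 0, 0, 0, 0, 3]), (6, [3, 0, 0, 0, 0, 3, 0, 0, 0, 0, 3, 0, 0, 0, 0, 3])], [(3, [0, 3, 0, 0, 3, 0, 0, 0, 0, 0, 0, 3, 0, 0, 3, 0]), (7, [3, 0, 0, 0, 0, 3, 0, 0, 0, 0, 3, 0, 0, 0, 0, 3])], [(4, [0, 2, 0, 0, 2, 0, 0, 0, 0, 0, 3, 0, 0, 0, 0, 3]), (0, [3, 0, 0, 0, 0, 3, 0, 0, 0, 0, 3, 0, 0, 0, 0, 3])], [(5, [5, 8, 0, 0, 5, 4, 0, 0, 0, 0, 3, 0, 0, 0,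 0, 3]), (1, [3, 0, 0, 0, 0, 3, 0, 0, 0, 0, 3, 0, 0, 0, 0, 3])], [(6, [0, 3, 0, 0, 0, 0, 3, 0, 3, 0, 0, 0, 0, 0, 0, 3]), (2, [3, 0, 0, 0, 0, 3, 0, 0, 0, 0, 3, 0, 0, 0, 0, 3])], [(7, [0, 3, 0, 0, 3, 0, 0, 0, 0, 0, 0, 3, 0, 0, 3, 0]), (3, [3, 0, 0, 0, 0, 3, 0, 0, 0, 0, 3, 0, 0, 0, 0, 3])], [(2, [0, 0, 3, 0, 3, 0, 0, 0, 0, 3, 0, 0, 0, 0, 0, 3]), (2, [0, 3, 0, 0, 0, 0, 3, 0, 3, 0, 0, 0, 0, 0, 0, 3]), (2, [3, 0, 0, 0, 0, 3, 0, 0, 0, 0, 3, 0, 0, 0, 0, 3])], [(3, [0, 3, 0, 0, 3, 0, 0, 0, 0, 0, 0, 3, 0, 0, 3, 0]), (3, [3, 0, 0, 0, 0, 3, 0, 0, 0, 0, 3, 0, 0, 0, 0, 3])], [(2, [0, 0, 3, 0, 3, 0, 0, 0, 0, 3, 0, 0, 0, 0, 0, 3]), (3, [0, 0, 0, 3, 0, 3, 0, 0,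 3, 0, 0, 0, 0, 0, 3, 0]), (2, [0, 0, 0, 3, 3, 0, 0, 0, 0, 0, 3, 0, 0, 3, 0, 0]), (3, [0, 0, 3, 0, 0, 3, 0, 0, 0, 0, 0, 3, 3, 0, 0, 0]), (2, [0, 3, 0, 0, 3, 0, 0, 0, 0, 0, 0, 3, 0, 0, 3, 0]), (3, [3, 0, 0, 0, 0, 3, 0, 0, 0, 0, 3, 0, 0, 0, 0, 3])], [(3, [0, 3, 0, 0, 3, 0, 0, 0, 0, 0, 0, 3, 0, 0, 3, 0]), (0, [1, 0, 0, 0, 0, 1, 0, 0, 0, 0, 0, 3, 0, 0, 3, 0]), (7, [0, 1, 0, 0, 1, 0, 0, 0, 0, 0, 3, 0, 0, 0, 0, 3]), (4, [3, 0, 0, 0, 0, 3, 0, 0, 0, 0, 3, 0, 0, 0, 0, 3])], [(3, [0, 3, 0, 0, 3, 0, 0, 0, 0, 0, 0, 3, 0, 0, 3, 0]), (1, [7, 5, 0, 0, 4, 4, 0, 0, 0, 0, 0, 3, 0, 0, 3, 0]), (7, [5, 7, 0, 0, 4, 4, 0, 0, 0, 0, 3, 0, 0, 0, 0, 3]), (4, [4, 8, 0, 0,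 5, 5, 0, 0, 0, 0, 3, 0, 0, 0, 0, 3]), (5, [0, 2, 0, 0, 2, 0, 0, 0, 0, 0, 3, 0, 0, 0, 0, 3]), (4, [6, 0, 0, 0, 0, 6, 0, 0, 0, 0, 3, 0, 0, 0, 0, 3]), (4, [0, 1, 0, 0, 1, 0, 0, 0, 0, 0, 3, 0, 0, 0, 0, 3]), (4, [3, 0, 0, 0, 0, 3, 0, 0, 0, 0, 3, 0, 0, 0, 0, 3])], [(0, [0, 1, 0, 0, 1, 0, 0, 0, 0, 0, 3, 0, 0, 0, 0, 3]), (6, [0, 0, 1, 0, 0, 1, 0, 0, 3, 0, 0, 0, 0, 0, 0, 3]), (3, [0, 0, 0, 1, 1, 0, 0, 0, 0, 3, 0, 0, 0, 0, 3, 0]), (2, [0, 0, 0, 1, 0, 0, 1, 0, 3, 0, 0, 0, 0, 3, 0, 0]), (0, [0, 0, 0, 1, 0, 0, 1, 0, 0, 1, 0, 0, 1, 0, 0, 0]), (6, [0, 0, 0, 1, 1, 0, 0, 0, 0, 0, 1, 0, 0, 1, 0, 0]), (7, [0, 0, 1, 0, 0, 1, 0, 0, 0, 0, 0, 1, 1, 0, 0, 0]), (2, [0,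 1, 0, 0, 1, 0, 0, 0, 0, 0, 0, 1, 0, 0, 1, 0]), (4, [3, 0, 0, 0, 0, 3, 0, 0, 0, 0, 0, 1, 0, 0, 1, 0]), (6, [0, 3, 0, 0, 0, 0, 3, 0, 0, 0, 0, 1, 1, 0, 0, 0]), (3, [3, 0, 0, 0, 0, 0, 0, 3, 0, 0, 1, 0, 0, 1, 0, 0]), (2, [0, 0, 3, 0, 0, 0, 0, 3, 0, 1, 0, 0, 1, 0, 0, 0]), (4, [0, 0, 3, 0, 0, 0, 0, 3, 3, 0, 0, 0, 0, 3, 0, 0]), (6, [3, 0, 0, 0, 0, 0, 0, 3, 0, 3, 0, 0, 0, 0, 3, 0]), (7, [0, 3, 0, 0, 0, 0, 3, 0, 3, 0, 0, 0, 0, 0, 0, 3]), (2, [3, 0, 0, 0, 0, 3, 0, 0, 0, 0, 3, 0, 0, 0, 0, 3])], [(0, [0, 1, 0, 0, 1, 0, 0, 0, 0, 0, 3, 0, 0, 0, 0, 3]), (6, [0, 0, 1, 0, 0, 1, 0, 0, 3, 0, 0, 0, 0, 0, 0, 3]), (3, [0, 0, 0, 1, 1, 0, 0, 0, 0, 3, 0, 0, 0, 0, 3, 0]),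 (2, [0, 0, 0, 1, 0, 0, 1, 0, 3, 0, 0, 0, 0, 3, 0, 0]), (1, [0, 0, 0, 1, 0, 0, 1, 0, 4, 4, 0, 0, 7, 5, 0, 0]), (6, [0, 0, 0, 1, 1, 0, 0, 0, 0, 4, 4, 0, 0, 7, 5, 0]), (7, [0, 0, 1, 0, 0, 1, 0, 0, 4, 0, 0, 4, 7, 0, 0, 5]), (2, [0, 1, 0, 0, 1, 0, 0, 0, 0, 0, 4, 4, 0, 0, 7, 5]), (4, [3, 0, 0, 0, 0, 3, 0, 0, 0, 0, 4, 4, 0, 0, 7, 5]), (6, [0, 3, 0, 0, 0, 0, 3, 0, 4, 0, 0, 4, 7, 0, 0, 5]), (3, [3, 0, 0, 0, 0, 0, 0, 3, 0, 4, 4, 0, 0, 7, 5, 0]), (2, [0, 0, 3, 0, 0, 0, 0, 3, 4, 4, 0, 0, 7, 5, 0, 0]), (5, [0, 0, 3, 0, 0, 0, 0, 3, 3, 0, 0, 0, 0, 3, 0, 0]), (6, [3, 0, 0, 0, 0, 0, 0, 3, 0, 3, 0, 0, 0, 0, 3, 0]), (7, [0, 3, 0, 0, 0, 0, 3, 0, 3, 0, 0, 0, 0, 0,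 0, 3]), (2, [3, 0, 0, 0, 0, 3, 0, 0, 0, 0, 3, 0, 0, 0, 0, 3])], [(1, [4, 4, 0, 0, 7, 5, 0, 0, 0, 0, 3, 0, 0, 0, 0, 3]), (6, [0, 4, 4, 0, 0, 7, 5, 0, 3, 0, 0, 0, 0, 0, 0, 3]), (3, [4, 0, 0, 4, 7, 0, 0, 5, 0, 3, 0, 0, 0, 0, 3, 0]), (2, [0, 0, 4, 4, 0, 0, 7, 5, 3, 0, 0, 0, 0, 3, 0, 0]), (0, [0, 0, 4, 4, 0, 0, 7, 5, 0, 1, 0, 0, 1, 0, 0, 0]), (6, [4, 0, 0, 4, 7, 0, 0, 5, 0, 0, 1, 0, 0, 1, 0, 0]), (7, [0, 4, 4, 0, 0, 7, 5, 0, 0, 0, 0, 1, 1, 0, 0, 0]), (2, [4, 4, 0, 0, 7, 5, 0, 0, 0, 0, 0, 1, 0, 0, 1, 0]), (5, [3, 0, 0, 0, 0, 3, 0, 0, 0, 0, 0, 1, 0, 0, 1, 0]), (6, [0, 3, 0, 0, 0, 0, 3, 0, 0, 0, 0, 1, 1, 0, 0, 0]), (3, [3, 0, 0, 0, 0, 0, 0, 3, 0, 0, 1,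 0, 0, 1, 0, 0]), (2, [0, 0, 3, 0, 0, 0, 0, 3, 0, 1, 0, 0, 1, 0, 0, 0]), (4, [0, 0, 3, 0, 0, 0, 0, 3, 3, 0, 0, 0, 0, 3, 0, 0]), (6, [3, 0, 0, 0, 0, 0, 0, 3, 0, 3, 0, 0, 0, 0, 3, 0]), (7, [0, 3, 0, 0, 0, 0, 3, 0, 3, 0, 0, 0, 0, 0, 0, 3]), (2, [3, 0, 0, 0, 0, 3, 0, 0, 0, 0, 3, 0, 0, 0, 0, 3])], [(1, [4, 4, 0, 0, 7, 5, 0, 0, 0, 0, 3, 0, 0, 0, 0, 3]), (6, [0, 4, 4, 0, 0, 7, 5, 0, 3, 0, 0, 0, 0, 0, 0, 3]), (3, [4, 0, 0, 4, 7, 0, 0, 5, 0, 3, 0, 0, 0, 0, 3, 0]), (2, [0, 0, 4, 4, 0, 0, 7, 5, 3, 0, 0, 0, 0, 3, 0, 0]), (1, [0, 0, 4, 4, 0, 0, 7, 5, 4, 4, 0, 0, 7, 5, 0, 0]), (6, [4, 0, 0, 4, 7, 0, 0, 5, 0, 4, 4, 0, 0, 7, 5, 0]), (7, [0, 4, 4, 0, 0, 7, 5, 0,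 4, 0, 0, 4, 7, 0, 0, 5]), (2, [4, 4, 0, 0, 7, 5, 0, 0, 0, 0, 4, 4, 0, 0, 7, 5]), (5, [3, 0, 0, 0, 0, 3, 0, 0, 0, 0, 4, 4, 0, 0, 7, 5]), (6, [0, 3, 0, 0, 0, 0, 3, 0, 4, 0, 0, 4, 7, 0, 0, 5]), (3, [3, 0, 0, 0, 0, 0, 0, 3, 0, 4, 4, 0, 0, 7, 5, 0]), (2, [0, 0, 3, 0, 0, 0, 0, 3, 4, 4, 0, 0, 7, 5, 0, 0]), (5, [0, 0, 3, 0, 0, 0, 0, 3, 3, 0, 0, 0, 0, 3, 0, 0]), (6, [3, 0, 0, 0, 0, 0, 0, 3, 0, 3, 0, 0, 0, 0, 3, 0]), (7, [0, 3, 0, 0, 0, 0, 3, 0, 3, 0, 0, 0, 0, 0, 0, 3]), (2, [3, 0, 0, 0, 0, 3, 0, 0, 0, 0, 3, 0, 0, 0, 0, 3])], [(5, [5, 8, 0, 0, 5, 4, 0, 0, 0, 0, 3, 0, 0, 0, 0, 3]), (6, [0, 5, 8, 0, 0, 5, 4, 0, 3, 0, 0, 0, 0, 0, 0, 3]), (0, [4, 0, 8, 0, 4,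 0, 4, 0, 0, 1, 0, 0, 0, 0, 0, 3]), (0, [0, 7, 8, 0, 0, 7, 4, 0, 6, 0, 0, 0, 0, 0, 0, 3]), (2, [7, 8, 0, 0, 7, 4, 0, 0, 0, 0, 6, 0, 0, 0, 0, 3]), (4, [7, 4, 0, 0, 5, 4, 0, 0, 0, 0, 6, 0, 0, 0, 0, 3]), (1, [6, 0, 0, 0, 0, 3, 0, 0, 0, 0, 6, 0, 0, 0, 0, 3]), (6, [0, 6, 0, 0, 0, 0, 3, 0, 6, 0, 0, 0, 0, 0, 0, 3]), (4, [1, 0, 0, 0, 0, 0, 3, 0, 0, 1, 0, 0, 0, 0, 0, 3]), (4, [0, 3, 0, 0, 0, 0, 3, 0, 3, 0, 0, 0, 0, 0, 0, 3]), (2, [3, 0, 0, 0, 0, 3, 0, 0, 0, 0, 3, 0, 0, 0, 0, 3])], [(1, [4, 4, 0, 0, 7, 5, 0, 0, 0, 0, 3, 0, 0, 0, 0, 3]), (0, [7, 7, 0, 0, 4, 8, 0, 0, 0, 0, 3, 0, 0, 0, 0, 3]), (2, [7, 0, 7, 0, 8, 0, 4, 0, 0, 3, 0, 0, 0, 0, 0, 3]), (0, [0, 8,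 7, 0, 0, 5, 4, 0, 1, 0, 0, 0, 0, 0, 0, 3]), (0, [5, 0, 7, 0, 4, 0, 4, 0, 0, 6, 0, 0, 0, 0, 0, 3]), (5, [1, 3, 7, 0, 6, 1, 4, 0, 7, 8, 0, 0, 0, 0, 0, 3]), (0, [1, 6, 7, 0, 6, 2, 4, 0, 5, 8, 0, 0, 0, 0, 0, 3]), (1, [0, 5, 7, 0, 0, 4, 4, 0, 3, 0, 0, 0, 0, 0, 0, 3]), (2, [5, 7, 0, 0, 4, 4, 0, 0, 0, 0, 3, 0, 0, 0, 0, 3]), (0, [8, 4, 0, 0, 7, 7, 0, 0, 0, 0, 3, 0, 0, 0, 0, 3]), (5, [0, 1, 0, 0, 1, 0, 0, 0, 0, 0, 3, 0, 0, 0, 0, 3]), (4, [3, 0, 0, 0, 0, 3, 0, 0, 0, 0, 3, 0, 0, 0, 0, 3])], [(2, [0, 0, 3, 0, 3, 0, 0, 0, 0, 3, 0, 0, 0, 0, 0, 3]), (1, [0, 0, 3, 0, 4, 4, 0, 0, 7, 5, 0, 0, 0, 0, 0, 3]), (2, [0, 3, 0, 0, 4, 0, 4, 0, 5, 0, 7, 0, 0, 0, 0, 3]), (0,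 [1, 0, 0, 0, 0, 7, 4, 0, 0, 4, 7, 0, 0, 0, 0, 3]), (5, [4, 5, 0, 0, 2, 3, 4, 0, 6, 2, 7, 0, 0, 0, 0, 3]), (0, [4, 7, 0, 0, 1, 3, 4, 0, 3, 2, 7, 0, 0, 0, 0, 3]), (1, [0, 1, 0, 0, 5, 0, 4, 0, 8, 0, 7, 0, 0, 0, 0, 3]), (6, [0, 0, 1, 0, 4, 5, 0, 0, 7, 8, 0, 0, 0, 0, 0, 3]), (0, [0, 0, 1, 0, 4, 7, 0, 0, 5, 8, 0, 0, 0, 0, 0, 3]), (1, [0, 0, 1, 0, 0, 1, 0, 0, 3, 0, 0, 0, 0, 0, 0, 3]), (2, [0, 1, 0, 0, 1, 0, 0, 0, 0, 0, 3, 0, 0, 0, 0, 3]), (4, [3, 0, 0, 0, 0, 3, 0, 0, 0, 0, 3, 0, 0, 0, 0, 3])], [(2, [0, 0, 3, 0, 3, 0, 0, 0, 0, 3, 0, 0, 0, 0, 0, 3]), (1, [0, 0, 3, 0, 4, 4, 0, 0, 7, 5, 0, 0, 0, 0, 0, 3]), (2, [0, 3, 0, 0, 4, 0, 4, 0, 5, 0, 7, 0, 0, 0, 0,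 3]), (1, [7, 5, 0, 0, 2, 2, 4, 0, 6, 6, 7, 0, 0, 0, 0, 3]), (4, [8, 4, 0, 0, 6, 6, 4, 0, 1, 1, 7, 0, 0, 0, 0, 3]), (1, [4, 7, 0, 0, 1, 3, 4, 0, 3, 2, 7, 0, 0, 0, 0, 3]), (1, [0, 1, 0, 0, 5, 0, 4, 0, 8, 0, 7, 0, 0, 0, 0, 3]), (6, [0, 0, 1, 0, 4, 5, 0, 0, 7, 8, 0, 0, 0, 0, 0, 3]), (0, [0, 0, 1, 0, 4, 7, 0, 0, 5, 8, 0, 0, 0, 0, 0, 3]), (1, [0, 0, 1, 0, 0, 1, 0, 0, 3, 0, 0, 0, 0, 0, 0, 3]), (2, [0, 1, 0, 0, 1, 0, 0, 0, 0, 0, 3, 0, 0, 0, 0, 3]), (4, [3, 0, 0, 0, 0, 3, 0, 0, 0, 0, 3, 0, 0, 0, 0, 3])], [(2, [0, 0, 3, 0, 3, 0, 0, 0, 0, 3, 0, 0, 0, 0, 0, 3]), (1, [0, 0, 3, 0, 4, 4, 0, 0, 7, 5, 0, 0, 0, 0, 0, 3]), (2, [0, 3, 0, 0, 4, 0, 4, 0, 5, 0, 7, 0,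 0, 0, 0, 3]), (4, [2, 0, 0, 0, 0, 5, 4, 0, 0, 8, 7, 0, 0, 0, 0, 3]), (6, [0, 2, 0, 0, 4, 0, 5, 0, 7, 0, 8, 0, 0, 0, 0, 3]), (4, [6, 0, 0, 0, 0, 5, 5, 0, 0, 4, 8, 0, 0, 0, 0, 3]), (2, [0, 0, 6, 0, 5, 5, 0, 0, 4, 8, 0, 0, 0, 0, 0, 3]), (4, [0, 0, 6, 0, 8, 8, 0, 0, 7, 5, 0, 0, 0, 0, 0, 3]), (5, [0, 0, 6, 0, 6, 0, 0, 0, 0, 3, 0, 0, 0, 0, 0, 3]), (6, [6, 0, 0, 0, 0, 6, 0, 0, 0, 0, 3, 0, 0, 0, 0, 3]), (4, [0, 1, 0, 0, 1, 0, 0, 0, 0, 0, 3, 0, 0, 0, 0, 3]), (4, [3, 0, 0, 0, 0, 3, 0, 0, 0, 0, 3, 0, 0, 0, 0, 3])], [(2, [0, 0, 3, 0, 3, 0, 0, 0, 0, 3, 0, 0, 0, 0, 0, 3]), (1, [0, 0, 3, 0, 4, 4, 0, 0, 7, 5, 0, 0, 0, 0, 0, 3]), (2, [0, 3, 0, 0, 4, 0, 4, 0, 5,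 0, 7, 0, 0, 0, 0, 3]), (5, [5, 4, 0, 0, 6, 1, 4, 0, 1, 3, 7, 0, 0, 0, 0, 3]), (0, [7, 4, 0, 0, 6, 2, 4, 0, 1, 6, 7, 0, 0, 0, 0, 3]), (1, [6, 0, 0, 0, 0, 4, 4, 0, 0, 5, 7, 0, 0, 0, 0, 3]), (4, [0, 1, 0, 0, 5, 0, 4, 0, 8, 0, 7, 0, 0, 0, 0, 3]), (6, [0, 0, 1, 0, 4, 5, 0, 0, 7, 8, 0, 0, 0, 0, 0, 3]), (0, [0, 0, 1, 0, 4, 7, 0, 0, 5, 8, 0, 0, 0, 0, 0, 3]), (1, [0, 0, 1, 0, 0, 1, 0, 0, 3, 0, 0, 0, 0, 0, 0, 3]), (2, [0, 1, 0, 0, 1, 0, 0, 0, 0, 0, 3, 0, 0, 0, 0, 3]), (4, [3, 0, 0, 0, 0, 3, 0, 0, 0, 0, 3, 0, 0, 0, 0, 3])], [(2, [0, 0, 3, 0, 3, 0, 0, 0, 0, 3, 0, 0, 0, 0, 0, 3]), (1, [0, 0, 3, 0, 4, 4, 0, 0, 7, 5, 0, 0, 0, 0, 0, 3]), (6, [3, 0, 0, 0, 0, 4,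 4, 0, 0, 7, 5, 0, 0, 0, 0, 3]), (1, [4, 4, 0, 0, 3, 6, 4, 0, 1, 2, 5, 0, 0, 0, 0, 3]), (0, [7, 7, 0, 0, 2, 1, 4, 0, 3, 6, 5, 0, 0, 0, 0, 3]), (0, [8, 8, 0, 0, 6, 3, 4, 0, 2, 1, 5, 0, 0, 0, 0, 3]), (5, [6, 0, 0, 0, 0, 8, 4, 0, 0, 5, 5, 0, 0, 0, 0, 3]), (4, [0, 1, 0, 0, 7, 0, 4, 0, 8, 0, 5, 0, 0, 0, 0, 3]), (6, [0, 0, 1, 0, 4, 7, 0, 0, 5, 8, 0, 0, 0, 0, 0, 3]), (1, [0, 0, 1, 0, 0, 1, 0, 0, 3, 0, 0, 0, 0, 0, 0, 3]), (2, [0, 1, 0, 0, 1, 0, 0, 0, 0, 0, 3, 0, 0, 0, 0, 3]), (4, [3, 0, 0, 0, 0, 3, 0, 0, 0, 0, 3, 0, 0, 0, 0, 3])], [(2, [0, 0, 3, 0, 3, 0, 0, 0, 0, 3, 0, 0, 0, 0, 0, 3]), (1, [0, 0, 3, 0, 4, 4, 0, 0, 7, 5, 0, 0, 0, 0, 0, 3]), (6, [3, 0, 0,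 0, 0, 4, 4, 0, 0, 7, 5, 0, 0, 0, 0, 3]), (1, [4, 4, 0, 0, 3, 6, 4, 0, 1, 2, 5, 0, 0, 0, 0, 3]), (0, [7, 7, 0, 0, 2, 1, 4, 0, 3, 6, 5, 0, 0, 0, 0, 3]), (1, [4, 5, 0, 0, 1, 6, 4, 0, 6, 2, 5, 0, 0, 0, 0, 3]), (0, [4, 7, 0, 0, 2, 6, 4, 0, 3, 2, 5, 0, 0, 0, 0, 3]), (1, [0, 1, 0, 0, 7, 0, 4, 0, 8, 0, 5, 0, 0, 0, 0, 3]), (6, [0, 0, 1, 0, 4, 7, 0, 0, 5, 8, 0, 0, 0, 0, 0, 3]), (1, [0, 0, 1, 0, 0, 1, 0, 0, 3, 0, 0, 0, 0, 0, 0, 3]), (2, [0, 1, 0, 0, 1, 0, 0, 0, 0, 0, 3, 0, 0, 0, 0, 3]), (4, [3, 0, 0, 0, 0, 3, 0, 0, 0, 0, 3, 0, 0, 0, 0, 3])], [(2, [0, 0, 3, 0, 3, 0, 0, 0, 0, 3, 0, 0, 0, 0, 0, 3]), (1, [0, 0, 3, 0, 4, 4, 0, 0, 7, 5, 0, 0, 0, 0, 0, 3]), (6,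 [3, 0, 0, 0, 0, 4, 4, 0, 0, 7, 5, 0, 0, 0, 0, 3]), (1, [4, 4, 0, 0, 3, 6, 4, 0, 1, 2, 5, 0, 0, 0, 0, 3]), (2, [4, 0, 4, 0, 6, 4, 3, 0, 2, 5, 1, 0, 0, 0, 0, 3]), (5, [6, 1, 4, 0, 4, 3, 3, 0, 6, 4, 1, 0, 0, 0, 0, 3]), (6, [4, 6, 1, 0, 3, 4, 3, 0, 1, 6, 4, 0, 0, 0, 0, 3]), (1, [4, 6, 1, 0, 7, 1, 3, 0, 0, 5, 4, 0, 0, 0, 0, 3]), (2, [6, 1, 4, 0, 1, 3, 7, 0, 5, 4, 0, 0, 0, 0, 0, 3]), (1, [4, 0, 4, 0, 5, 0, 7, 0, 0, 3, 0, 0, 0, 0, 0, 3]), (6, [4, 4, 0, 0, 7, 5, 0, 0, 0, 0, 3, 0, 0, 0, 0, 3]), (5, [3, 0, 0, 0, 0, 3, 0, 0, 0, 0, 3, 0, 0, 0, 0, 3])], [(2, [0, 0, 3, 0, 3, 0, 0, 0, 0, 3, 0, 0, 0, 0, 0, 3]), (1, [0, 0, 3, 0, 4, 4, 0, 0, 7, 5, 0, 0, 0, 0, 0,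 3]), (6, [3, 0, 0, 0, 0, 4, 4, 0, 0, 7, 5, 0, 0, 0, 0, 3]), (1, [4, 4, 0, 0, 3, 6, 4, 0, 1, 2, 5, 0, 0, 0, 0, 3]), (4, [5, 5, 0, 0, 1, 2, 4, 0, 6, 3, 5, 0, 0, 0, 0, 3]), (1, [8, 7, 0, 0, 2, 3, 4, 0, 3, 1, 5, 0, 0, 0, 0, 3]), (4, [4, 7, 0, 0, 2, 6, 4, 0, 3, 2, 5, 0, 0, 0, 0, 3]), (1, [0, 1, 0, 0, 7, 0, 4, 0, 8, 0, 5, 0, 0, 0, 0, 3]), (6, [0, 0, 1, 0, 4, 7, 0, 0, 5, 8, 0, 0, 0, 0, 0, 3]), (1, [0, 0, 1, 0, 0, 1, 0, 0, 3, 0, 0, 0, 0, 0, 0, 3]), (2, [0, 1, 0, 0, 1, 0, 0, 0, 0, 0, 3, 0, 0, 0, 0, 3]), (4, [3, 0, 0, 0, 0, 3, 0, 0, 0, 0, 3, 0, 0, 0, 0, 3])], [(3, [0, 3, 0, 0, 3, 0, 0, 0, 0, 0, 0, 3, 0, 0, 3, 0]), (2, [3, 0, 0, 0, 0, 0, 3, 0, 0, 0, 0, 3,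 0, 3, 0, 0]), (1, [4, 4, 0, 0, 0, 0, 3, 0, 0, 0, 0, 3, 7, 5, 0, 0]), (2, [4, 0, 4, 0, 0, 3, 0, 0, 0, 0, 0, 3, 5, 0, 7, 0]), (1, [2, 2, 4, 0, 7, 5, 0, 0, 0, 0, 0, 3, 6, 6, 7, 0]), (2, [2, 4, 2, 0, 5, 0, 7, 0, 0, 0, 0, 3, 6, 7, 6, 0]), (3, [4, 2, 0, 2, 0, 5, 0, 7, 0, 0, 3, 0, 7, 6, 0, 6]), (2, [2, 0, 4, 2, 5, 0, 0, 7, 0, 3, 0, 0, 6, 0, 7, 6]), (1, [5, 5, 4, 2, 6, 6, 0, 7, 7, 5, 0, 0, 8, 8, 7, 6]), (2, [5, 4, 5, 2, 6, 0, 6, 7, 5, 0, 7, 0, 8, 7, 8, 6]), (3, [4, 5, 2, 5, 0, 6, 7, 6, 0, 5, 0, 7, 7, 8, 6, 8]), (1, [1, 0, 2, 5, 5, 7, 7, 6, 2, 1, 0, 7, 0, 6, 6, 8]), (2, [0, 2, 1, 5, 7, 7, 5, 6, 1, 0, 2, 7, 6, 6, 0, 8]), (5, [8, 5, 1, 5, 1, 0, 5, 6, 4, 5,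 2, 7, 5, 0, 0, 8]), (3, [5, 8, 5, 1, 0, 1, 6, 5, 5, 4, 7, 2, 0, 5, 8, 0]), (2, [8, 5, 5, 1, 1, 6, 0, 5, 4, 7, 5, 2, 5, 8, 0, 0]), (1, [0, 2, 5, 1, 0, 5, 0, 5, 0, 1, 5, 2, 3, 0, 0, 0]), (2, [2, 5, 0, 1, 5, 0, 0, 5, 1, 5, 0, 2, 0, 0, 3, 0]), (3, [5, 2, 1, 0, 0, 5, 5, 0, 5, 1, 2, 0, 0, 0, 0, 3]), (2, [2, 1, 5, 0, 5, 5, 0, 0, 1, 2, 5, 0, 0, 0, 0, 3]), (5, [0, 5, 5, 0, 2, 0, 0, 0, 0, 7, 5, 0, 0, 0, 0, 3]), (2, [5, 5, 0, 0, 0, 0, 2, 0, 7, 5, 0, 0, 0, 0, 0, 3]), (5, [2, 0, 0, 0, 0, 0, 2, 0, 0, 3, 0, 0, 0, 0, 0, 3]), (6, [0, 2, 0, 0, 2, 0, 0, 0, 0, 0, 3, 0, 0, 0, 0, 3]), (0, [3, 0, 0, 0, 0, 3, 0, 0, 0, 0, 3, 0, 0, 0, 0, 3])], [(3, [0, 3, 0, 0, 3, 0, 0,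 0, 0, 0, 0, 3, 0, 0, 3, 0]), (2, [3, 0, 0, 0, 0, 0, 3, 0, 0, 0, 0, 3, 0, 3, 0, 0]), (1, [4, 4, 0, 0, 0, 0, 3, 0, 0, 0, 0, 3, 7, 5, 0, 0]), (2, [4, 0, 4, 0, 0, 3, 0, 0, 0, 0, 0, 3, 5, 0, 7, 0]), (1, [2, 2, 4, 0, 7, 5, 0, 0, 0, 0, 0, 3, 6, 6, 7, 0]), (2, [2, 4, 2, 0, 5, 0, 7, 0, 0, 0, 0, 3, 6, 7, 6, 0]), (3, [4, 2, 0, 2, 0, 5, 0, 7, 0, 0, 3, 0, 7, 6, 0, 6]), (2, [2, 0, 4, 2, 5, 0, 0, 7, 0, 3, 0, 0, 6, 0, 7, 6]), (5, [8, 7, 4, 2, 1, 3, 0, 7, 5, 4, 0, 0, 7, 4, 7, 6]), (2, [7, 4, 8, 2, 3, 0, 1, 7, 4, 0, 5, 0, 4, 7, 7, 6]), (3, [4, 7, 2, 8, 0, 3, 7, 1, 0, 4, 0, 5, 7, 4, 6, 7]), (1, [0, 1, 2, 8, 7, 5, 7, 1, 3, 6, 0, 5, 6, 0, 6, 7]), (6, [2, 0, 1, 8, 7,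 7, 5, 1, 0, 3, 6, 5, 6, 6, 0, 7]), (3, [0, 2, 8, 1, 7, 7, 1, 5, 3, 0, 5, 6, 6, 6, 7, 0]), (5, [8, 5, 8, 1, 1, 0, 1, 5, 5, 8, 5, 6, 5, 0, 7, 0]), (6, [8, 8, 5, 1, 1, 1, 0, 5, 5, 5, 8, 6, 7, 5, 0, 0]), (5, [6, 0, 5, 1, 8, 0, 0, 5, 2, 0, 8, 6, 0, 3, 0, 0]), (6, [5, 6, 0, 1, 0, 8, 0, 5, 8, 2, 0, 6, 0, 0, 3, 0]), (3, [6, 5, 1, 0, 8, 0, 5, 0, 2, 8, 6, 0, 0, 0, 0, 3]), (6, [1, 6, 5, 0, 5, 8, 0, 0, 6, 2, 8, 0, 0, 0, 0, 3]), (1, [0, 5, 5, 0, 3, 0, 0, 0, 0, 4, 8, 0, 0, 0, 0, 3]), (2, [5, 5, 0, 0, 0, 0, 3, 0, 4, 8, 0, 0, 0, 0, 0, 3]), (5, [2, 0, 0, 0, 0, 0, 3, 0, 0, 2, 0, 0, 0, 0, 0, 3]), (0, [0, 3, 0, 0, 0, 0, 3, 0, 3, 0, 0, 0, 0, 0, 0, 3]), (2, [3, 0, 0,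 0, 0, 3, 0, 0, 0, 0, 3, 0, 0, 0, 0, 3])]]
def distinctWords : List (List Nat) := [[], [0], [1], [0, 0], [0, 1], [1, 0], [1, 1], [0, 0, 0], [0, 0, 1], [0, 1, 0], [0, 1, 1], [1, 0, 1], [1, 1, 0]]

end CfsgLib.SUShort.Q3
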