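import Cfsg.Agent.SUShort.Calc
import Cfsg.Agent.SUShort.Q3Words
import Cfsg.Agent.SLShort.Glue
import Cfsg.Agent.SUShort.Core
import Mathlib.Algebra.QuadraticAlgebra.Basic

/-!
Generators over the field with nine elements.
-/

set_option autoImplicit false
set_option linter.unusedSectionVars false
set_option linter.style.haveILetI false
set_option maxRecDepth 100000

namespace CfsgLib.SUShort.Q3

open Matrix CfsgLib.Forms CfsgLib.Unitary CfsgLib.BPres CfsgLib.SLShort CfsgLib.Coset Equiv
open CfsgLib.Phan hiding ev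

/-- The field with nine elements. -/
abbrev K9 : Type := QuadraticAlgebra (ZMod 3) 2 0

instance k9Fact : Fact (∀ r : ZMod 3, r ^ 2 ≠ 2 + 0 * r) := ⟨by decide⟩
instance k9Prime : Fact (Nat.Prime 3) := ⟨by norm_num⟩
instance k9Fintype : Fintype K9 := Fintype.ofEquiv _ (QuadraticAlgebra.equivProd (2 : ZMod 3) 0).symm

theorem card_K9 : Nat.card K9 = 3 ^ 2 := by rw [Nat.card_eq_fintype_card]; rfl

/-- An element from its code. -/
def dec (c : Nat) : K9 := ⟨((c / 3 : Nat) : ZMod 3), ((c % 3 : Nat) : ZMod 3)⟩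

theorem cube_add' : ∀ x y : K9, (x + y) ^ 3 = x ^ 3 + y ^ 3 := by decide +kernel

/-- The matrices of the two generators of the small group and their inverses. -/
def yM (i : Fin 4) : Matrix (Fin 2) (Fin 2) K9 := mk dec 2 (code2.getD i.1 [])

theorem yM_det : ∀ i : Fin 4, yM i 0 0 * yM i 1 1 - yM i 0 1 * yM i 1 0 = 1 := by decide +kernel

theorem yM_unitary : ∀ i : Fin 4, ∀ k l : Fin 2,
    yM i 0 k * yM i 0 l ^ 3 + yM i 1 k * yM i 1 l ^ 3 = if k = l then 1 else 0 := by decide +kernel

theorem yM_mem (i : Fin 4) :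
    (⟨yM i, by rw [Matrix.det_fin_two]; exact yM_det i⟩ : Matrix.SpecialLinearGroup (Fin 2) K9) ∈
      Cfsg.SU 2 K9 3 := by
  intro u v
  show Cfsg.hermForm 2 K9 3 (yM i *ᵥ u) (yM i *ᵥ v) = Cfsg.hermForm 2 K9 3 u v
  have h00 := yM_unitary i 0 0
  have h01 := yM_unitary i 0 1
  have h10 := yM_unitary i 1 0
  have h11 := yM_unitary i 1 1
  simp only [Fin.reduceEq, if_true, if_false] at h00 h01 h10 h11
  simp only [Cfsg.hermForm, Matrix.mulVec, dotProduct, Fin.sum_univ_two, cube_add', mul_pow]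
  linear_combination u 0 * v 0 ^ 3 * h00 + u 0 * v 1 ^ 3 * h01 + u 1 * v 0 ^ 3 * h10 +
    u 1 * v 1 ^ 3 * h11

/-- The two generators of the small group. -/
def yK (i : Fin 2) : Cfsg.SU 2 K9 3 :=
  ⟨⟨yM (Fin.castLE (by omega) i), by rw [Matrix.det_fin_two]; exact yM_det _⟩, yM_mem _⟩

theorem matHom_yK (i : Fin 2) : matHom (yK i) = yM (Fin.castLE (by omega) i) := rfl

/-- The exchange of the first two pairs. -/
abbrev t4 : alternatingGroup (Fin 4) := τ4 (n := 4) le_rfl
/-- The rotation of the first three points. -/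
abbrev c4 : alternatingGroup (Fin 4) := altEmb (f3 (n := 4) le_rfl) c012

/-- The matrix of a generator in a larger space. -/
def eM (m : ℕ) (i : Fin 4) : Matrix (Fin m) (Fin m) K9 :=
  Matrix.of fun a b => if h : a.1 < 2 ∧ b.1 < 2 then yM i ⟨a, h.1⟩ ⟨b, h.2⟩ else if a = b then 1 else 0

theorem matHom_emb_yK {m : ℕ} {h : 0 + 2 ≤ m} (i : Fin 2) :
    matHom (emb (win 0 2 m h) (yK i)) = eM m (Fin.castLE (by omega) i) := by
  exact Matrix.ext fun a b => matHom_emb_win (yK i) a b

/-- Letters in three variables. -/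
noncomputable def g3K : Fin 4 → Cfsg.SU 3 K9 3 :=
  ![emb (win 0 2 3 (by omega)) (yK 0), emb (win 0 2 3 (by omega)) (yK 1), PM c012, 1]

/-- Letters in four variables. -/
noncomputable def g4K : Fin 4 → Cfsg.SU 4 K9 3 :=
  ![emb (win 0 2 4 (by omega)) (yK 0), emb (win 0 2 4 (by omega)) (yK 1), PM c4, PM t4]

theorem mat3 : ∀ x : Nat, x < 8 → matHom (fl (lett g3K) x) = mk dec 3 (code3.getD x []) := by
  have hy : eM 3 0 = mk dec 3 (code3.getD 0 []) ∧ eM 3 1 = mk dec 3 (code3.getD 1 []) := by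
    constructor <;> decide +kernel
  have hc : (c012 : Perm (Fin 3))⁻¹.permMatrix K9 = mk dec 3 (code3.getD 2 []) := by decide +kernel
  have h1 : (1 : Matrix (Fin 3) (Fin 3) K9) = mk dec 3 (code3.getD 3 []) := by decide +kernel
  have hgen : ∀ i : Fin 4, matHom (g3K i) = mk dec 3 (code3.getD i.1 []) := by
    intro i
    fin_cases i
    · exact (matHom_emb_yK 0).trans hy.1
    · exact (matHom_emb_yK 1).trans hy.2
    · exact (matHom_PM _).trans hc
    · exact (map_one matHom).trans h1
  have hinv : ∀ i : Fin 4, mk dec 3 (code3.getD i.1 []) * mk dec 3 (code3.getD (4 + i.1) []) = 1 := by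
    decide +kernel
  intro x hx
  rcases Nat.lt_or_ge x 4 with h | h
  · rw [show x = (⟨x, h⟩ : Fin 4).1 from rfl, fl_lett_gen]; exact hgen _
  · obtain ⟨i, rfl⟩ : ∃ i : Fin 4, x = 4 + i.1 := ⟨⟨x - 4, by omega⟩, by simp; omega⟩
    rw [fl_lett_inv]
    exact matHom_inv (by rw [hgen]; exact hinv i)

theorem mat4 : ∀ x : Nat, x < 8 → matHom (fl (lett g4K) x) = mk dec 4 (code4.getD x []) := by
  have hy : eM 4 0 = mk dec 4 (code4.getD 0 []) ∧ eM 4 1 = mk dec 4 (code4.getD 1 []) := by
    constructor <;> decide +kernel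
  have hc : (c4 : Perm (Fin 4))⁻¹.permMatrix K9 = mk dec 4 (code4.getD 2 []) := by decide +kernel
  have ht : (t4 : Perm (Fin 4))⁻¹.permMatrix K9 = mk dec 4 (code4.getD 3 []) := by decide +kernel
  have hgen : ∀ i : Fin 4, matHom (g4K i) = mk dec 4 (code4.getD i.1 []) := by
    intro i
    fin_cases i
    · exact (matHom_emb_yK 0).trans hy.1
    · exact (matHom_emb_yK 1).trans hy.2
    · exact (matHom_PM _).trans hc
    · exact (matHom_PM _).trans ht
  have hinv : ∀ i : Fin 4, mk dec 4 (code4.getD i.1 []) * mk dec 4 (code4.getD (4 + i.1) []) = 1 := by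
    decide +kernel
  intro x hx
  rcases Nat.lt_or_ge x 4 with h | h
  · rw [show x = (⟨x, h⟩ : Fin 4).1 from rfl, fl_lett_gen]; exact hgen _
  · obtain ⟨i, rfl⟩ : ∃ i : Fin 4, x = 4 + i.1 := ⟨⟨x - 4, by omega⟩, by simp; omega⟩
    rw [fl_lett_inv]
    exact matHom_inv (by rw [hgen]; exact hinv i)

theorem rels4_ok : ∀ t ∈ trace4, chk dec 4 (fun x => code4.getD x []) one4 t = true := by decide +kernel

theorem rels3_ok : ∀ t ∈ trace3, chk dec 3 (fun x => code3.getD x []) one3 t = true := by decide +kernel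

theorem rels4_letters : ∀ t ∈ trace4, ∀ x ∈ t.map Prod.fst, x < 8 := by decide +kernel
theorem rels3_letters : ∀ t ∈ trace3, ∀ x ∈ t.map Prod.fst, x < 8 := by decide +kernel

/-- All relations. -/
def allRels : List (List Nat) := invRels ++ altRels ++ flipRels ++ farRels ++ hRels ++ eRels

theorem allRels_eq : trace4.map (fun t => t.map Prod.fst) = allRels := by decide +kernel
theorem hRels_eq : trace3.map (fun t => t.map Prod.fst) = hRels := by decide +kernel

theorem ev4 {w : List Nat} (hw : w ∈ allRels) : ev (lett g4K) w = 1 := by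
  rw [← allRels_eq] at hw
  obtain ⟨t, ht, rfl⟩ := List.mem_map.1 hw
  refine matHom_injective ?_
  rw [map_one, ← one_mul (ev _ _)]
  refine chk_sound matHom dec _ _ t one4 1 ?_ (fun x hx => mat4 x (rels4_letters t ht x hx)) (rels4_ok t ht)
  rw [map_one]
  decide +kernel

theorem ev3 {w : List Nat} (hw : w ∈ hRels) : ev (lett g3K) w = 1 := by
  rw [← hRels_eq] at hw
  obtain ⟨t, ht, rfl⟩ := List.mem_map.1 hw
  refine matHom_injective ?_
  rw [map_one, ← one_mul (ev _ _)]
  refine chk_sound matHom dec _ _ t one3 1 ?_ (fun x hx => mat3 x (rels3_letters t ht x hx)) (rels3_ok t ht)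
  rw [map_one]
  decide +kernel

/-- The two flips. -/
theorem flip_y : emb (pe (Equiv.swap 0 1)) (yK 0) = yK 0 ∧
    emb (pe (Equiv.swap 0 1)) (yK 1) = yK 0 * yK 0 * yK 0 * yK 1 * yK 0 := by
  have h : ∀ i : Fin 2, ∀ j : Fin 2, act (emb (pe (Equiv.swap 0 1)) (yK i)) (Phan.ev j) =
      fun a => yM (Fin.castLE (by omega) i) (Equiv.swap 0 1 a) (Equiv.swap 0 1 j) := fun i j => by
    obtain ⟨b, rfl⟩ := (Equiv.swap (0 : Fin 2) 1).surjective j
    rw [show Equiv.swap (0 : Fin 2) 1 b = pe (Equiv.swap 0 1) b from rfl, act_emb_ev]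
    funext a
    obtain ⟨c, rfl⟩ := (Equiv.swap (0 : Fin 2) 1).surjective a
    rw [show Equiv.swap (0 : Fin 2) 1 c = pe (Equiv.swap 0 1) c from rfl,
      (pe (Equiv.swap (0 : Fin 2) 1)).injective.extend_apply]
    show (matHom (yK i) *ᵥ Pi.single b 1) c = _
    rw [Matrix.mulVec_single_one]
    simp [matHom_yK]
  constructor <;> refine act_eq_of_basis fun j => ?_
  · rw [h]
    show _ = matHom (yK 0) *ᵥ Pi.single j 1
    rw [Matrix.mulVec_single_one, matHom_yK]
    revert j
    decide +kernel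
  · rw [h]
    show _ = matHom (yK 0 * yK 0 * yK 0 * yK 1 * yK 0) *ᵥ Pi.single j 1
    rw [Matrix.mulVec_single_one, map_mul, map_mul, map_mul, map_mul, matHom_yK, matHom_yK]
    revert j
    decide +kernel

theorem distinct_y : ∀ a b : Fin 13,
    ((distinctWords.getD a.1 []).map fun x => yM ⟨x % 2, by omega⟩).prod =
      ((distinctWords.getD b.1 []).map fun x => yM ⟨x % 2, by omega⟩).prod → a = b := by decide +kernel

theorem closure_yK : Subgroup.closure (Set.range yK) = ⊤ := by
  classical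
  set S := Subgroup.closure (Set.range yK)
  let f : Fin 13 → S := fun a =>
    ⟨((distinctWords.getD a.1 []).map fun x => yK ⟨x % 2, by omega⟩).prod,
      list_prod_mem fun y hy => by
        obtain ⟨x, -, rfl⟩ := List.mem_map.1 hy
        exact Subgroup.subset_closure ⟨_, rfl⟩⟩
  have hf : Function.Injective f := fun a b e => by
    refine distinct_y a b ?_
    have := congrArg (fun s : S => matHom (s : Cfsg.SU 2 K9 3)) e
    simp only [f, map_list_prod, List.map_map] at this
    exact this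
  haveI : Finite K9 := inferInstance
  have h24 : Nat.card (Cfsg.SU 2 K9 3) = 24 := by
    have h := card_SU_mul card_K9 (n := 2) (by norm_num)
    rw [card_GU card_K9] at h
    simp only [Finset.prod_range_succ, Finset.prod_range_zero, one_mul] at h
    norm_num [-Nat.card_eq_fintype_card] at h
    omega
  have h13 : 13 ≤ Nat.card S := (Nat.card_fin 13).symm.le.trans (Nat.card_le_card_of_injective f hf)
  have hd : Nat.card S ∣ 24 := h24 ▸ Subgroup.card_subgroup_dvd_card S
  refine Subgroup.eq_top_of_card_eq S ?_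
  rw [h24]
  have h24' := Nat.le_of_dvd (by norm_num) hd
  obtain ⟨k, hk⟩ := hd
  rcases k with - | - | k
  · omega
  · omega
  · exfalso; nlinarith

end CfsgLib.SUShort.Q3
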