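import Cfsg.Agent.SUShort.Q3

/-!
Short presentations of the special unitary groups over nine elements.
-/

set_option autoImplicit false
set_option linter.unusedSectionVars false
set_option linter.style.haveILetI false

namespace CfsgLib.SUShort

open Matrix CfsgLib.Forms CfsgLib.Unitary CfsgLib.BPres CfsgLib.SLShort CfsgLib.Coset Equiv
open CfsgLib.Phan hiding ev

variable {n : ℕ}

theorem altEmb_four_dbl (hn : 4 ≤ n) (a b c d : Fin 4) (hab : a ≠ b) (hcd : c ≠ d) :
    altEmb (win 0 4 n (by omega)) (dbl (n := 4) le_rfl a b c d hab hcd) = dbl hn a b c d hab hcd := by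
  have hf : ∀ k, first hn k = win 0 4 n (by omega) k := fun k => Fin.ext (by simp [first])
  refine perm_ext hn (fun k => ?_) fun i hi => ?_
  · rw [dbl_apply, hf, hf, altEmb_apply]
    congr 1
  · rw [dbl_outside hn _ _ _ _ _ _ hi, altEmb_apply_outside]
    rintro ⟨k, hk⟩
    exact hi k ((hf k).trans hk)

theorem altEmb_four_c4 (hn : 4 ≤ n) :
    altEmb (win 0 4 n (by omega)) (altEmb (f3 (n := 4) le_rfl) c012) = altEmb (f3 hn) c012 := by
  rw [altEmb_comp]
  congr 2
  exact Function.Embedding.ext fun a => Fin.ext (by simp)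

theorem f3_trans (hn : 4 ≤ n) : (win 0 3 4 (by omega)).trans (win 0 4 n (by omega)) = f3 hn :=
  Function.Embedding.ext fun a => Fin.ext (by simp)

/-- A word in four letters as a formal relation. -/
def toRel {K A : Type*} [Group K] [Group A] (a : Fin 3 → K) (t : A) (w : List Nat) : List (K ⊕ A) :=
  w.map fun x => [Sum.inl (a 0), Sum.inl (a 1), Sum.inl (a 2), Sum.inr t, Sum.inl (a 0)⁻¹,
    Sum.inl (a 1)⁻¹, Sum.inl (a 2)⁻¹, Sum.inr t⁻¹].getD x (Sum.inl 1)

theorem eval_toRel {K A G : Type*} [Group K] [Group A] [Group G] (ψ : K →* G) (φ : A →* G)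
    (a : Fin 3 → K) (t : A) (w : List Nat) :
    evalRel ψ φ (toRel a t w) = ev (lett ![ψ (a 0), ψ (a 1), ψ (a 2), φ t]) w := by
  unfold evalRel toRel ev
  rw [List.map_map]
  refine congrArg List.prod (List.map_congr_left fun x _ => ?_)
  rcases Nat.lt_or_ge x 8 with h | h
  · interval_cases x <;> simp [fl, lett]
  · rw [fl_of_le _ (by rw [length_lett]; omega), Function.comp_apply,
      List.getD_eq_default _ _ (by simpa using h)]
    simp

variable {F : Type*} [Field F] [Finite F]

theorem bounds_three (hF : Nat.card F = 3 ^ 2) (hn : 4 ≤ n) : Bounds F 3 n := by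
  classical
  haveI := Fintype.ofFinite F
  let e : Q3.K9 ≃+* F := FiniteField.ringEquivOfCardEq (K := Q3.K9) (K' := F) (by
    rw [← Nat.card_eq_fintype_card, ← Nat.card_eq_fintype_card, hF, Q3.card_K9])
  let a : Fin 3 → Cfsg.SU 3 F 3 := fun i => Q3.g3F e (Fin.castLE (by omega) i)
  let X := Q3.eRels.map (toRel a (τ4 hn))
  have hX : ∀ r ∈ X, evalRel (emb (F := F) (q := 3) (f3 hn)) PM r = 1 := by
    intro r hr
    obtain ⟨w, hw, rfl⟩ := List.mem_map.1 hr
    rw [eval_toRel]
    have := congrArg (emb (F := F) (q := 3) (win 0 4 n (by omega))) (Q3.eRels_true e w hw)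
    rw [map_one, ← ev_lett_map] at this
    refine Eq.trans ?_ this
    congr 2
    funext i
    fin_cases i
    · show emb (f3 hn) _ = emb _ (emb _ _); rw [emb_comp, f3_trans]; rfl
    · show emb (f3 hn) _ = emb _ (emb _ _); rw [emb_comp, f3_trans]; rfl
    · show emb (f3 hn) _ = emb _ (emb _ _); rw [emb_comp, f3_trans]; rfl
    · show PM (τ4 hn) = emb _ (PM _)
      rw [emb_PM]
      exact congrArg PM (altEmb_four_dbl hn _ _ _ _ _ _).symm
  have main : ∀ {r2 s : ℕ}, PresUpTo (c3 n (by omega)) r2 → (2 ≤ s ∨ (n = 5 ∧ 1 ≤ s) ∨ n = 4) →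
      HasPresN (Cfsg.SU n F 3) 6 (17 + r2 + 1 + (2 * s + 5 + 2) + 1) := by
    intro r2 s hA hs
    have h := hasPresN_SU_glue (K := Cfsg.SU 3 F 3) hF hn
      ((SU3Pres.hasPresN_SU3 hF le_rfl).mono (s := 17) (by norm_num)) hA hs
      (MonoidHom.id _) (emb (f3 hn)) (fun _ => rfl) X hX ∅
      fun G _ Ψ A hrot hfix hflip hfar hXv =>
        ⟨{ rot := hrot
           fix := hfix
           flip := hflip
           far := hfar
           gen := gen_pairs hF le_rfl ∅
           stab := fun δ ρ _ t ht => absurd ht (Set.notMem_empty t)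
           swapT := fun t ht => absurd ht (Set.notMem_empty t)
           vu := fun t ht => absurd ht (Set.notMem_empty t)
           vv := fun t ht => absurd ht (Set.notMem_empty t)
           base := Or.inr (by
             set A4 := A.comp (altEmb (win 0 4 n (by omega))) with hA4
             have eτ : A4 (τ4 (n := 4) le_rfl) = A (τ4 hn) := congrArg A (altEmb_four_dbl hn _ _ _ _ _ _)
             have eπ : A4 (π4 (n := 4) le_rfl) = A (π4 hn) := congrArg A (altEmb_four_dbl hn _ _ _ _ _ _)
             refine Q3.exists_four e (Ψ.comp (MonoidHom.id _)) A4 hF ?_ (fun Y => ?_) (fun Y Z => ?_) ?_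
             · exact (congrArg A (altEmb_four_c4 hn)).trans hrot
             · rw [eτ]; exact hflip Y
             · rw [eπ]; exact hfar Y Z
             · intro w hw
               have := hXv _ (List.mem_map.2 ⟨w, hw, rfl⟩)
               rw [eval_toRel] at this
               rw [eτ]
               exact this) }, fun Φ h1 _ x => h1 x⟩
    have hl : X.length = 2 := by simp [X, Q3.eRels]
    rw [hl] at h
    exact h.pad
  refine ⟨(main (presUpTo_any hn) (s := 2) (Or.inl le_rfl)).mono (by norm_num), fun h5 => ?_⟩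
  rcases (show n = 4 ∨ n = 5 by omega) with rfl | rfl
  · exact (main presUpTo_four (s := 0) (Or.inr (Or.inr rfl))).mono (by norm_num)
  · exact (main presUpTo_five (s := 1) (Or.inr (Or.inl ⟨rfl, le_rfl⟩))).mono (by norm_num)

end CfsgLib.SUShort
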