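import Cfsg.Agent.SUShort.Q2
import Cfsg.Agent.SUShort.Three

/-!
Short presentations of the special unitary groups over four elements.
-/

set_option autoImplicit false
set_option linter.unusedSectionVars false
set_option linter.style.haveILetI false
set_option maxRecDepth 100000

namespace CfsgLib.SUShort

open Matrix CfsgLib.Forms CfsgLib.Unitary CfsgLib.BPres CfsgLib.SLShort CfsgLib.Coset Equiv
open CfsgLib.Phan hiding ev

variable {n : ℕ}

theorem stab3_gens (hn : 4 ≤ n) : ∃ SS : List (alternatingGroup (Fin n)),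
    SS.length ≤ 2 ∧ (n ≤ 5 → SS.length = 0) ∧
    (∀ σ ∈ SS, ∀ a, (σ : Perm (Fin n)) (f3 hn a) = f3 hn a) ∧
    ∀ σ : alternatingGroup (Fin n), (∀ a, (σ : Perm (Fin n)) (f3 hn a) = f3 hn a) →
      σ ∈ Subgroup.closure {x | x ∈ SS} := by
  classical
  set D : Finset (Fin n) := (Finset.univ.map (f3 hn))ᶜ with hDdef
  have hD : ∀ x, x ∈ D ↔ ∀ a, f3 hn a ≠ x := fun x => by simp [D]
  have hcard : D.card = n - 3 := by simp [D, Finset.card_compl]
  obtain ⟨l, h2, h5, hl⟩ : ∃ l : List (alternatingGroup D), l.length ≤ 2 ∧ (n ≤ 5 → l.length = 0) ∧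
      Subgroup.closure {x | x ∈ l} = ⊤ := by
    rcases (show n ≤ 5 ∨ 6 ≤ n by omega) with h | h
    · haveI : Subsingleton (alternatingGroup D) := by
        rcases (show D.card ≤ 1 ∨ D.card = 2 by omega) with hc | hc
        · haveI : Subsingleton D := Finset.card_le_one_iff_subsingleton_coe.1 hc
          infer_instance
        · haveI : Nontrivial D := by
            rw [← Fintype.one_lt_card_iff_nontrivial, Fintype.card_coe]; omega
          have := two_mul_nat_card_alternatingGroup (α := D)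
          rw [Nat.card_perm, Nat.card_eq_fintype_card (α := D), Fintype.card_coe, hc,
            show (2 : ℕ).factorial = 2 from rfl] at this
          exact Finite.card_le_one_iff_subsingleton.1 (by omega)
      exact ⟨[], by simp, fun _ => rfl, Subsingleton.elim _ _⟩
    · obtain ⟨S, hS, hgen⟩ := exists_gens D
      exact ⟨S.toList, by simpa using hS, fun e => absurd e (by omega), by simpa using hgen⟩
  refine ⟨l.map (altEmb (valEmb D)), by simpa using h2, fun e => by simpa using h5 e,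
    fun σ hσ a => ?_, fun σ hσ => ?_⟩
  · obtain ⟨τ, -, rfl⟩ := List.mem_map.1 hσ
    exact altEmb_apply_outside _ _ fun ⟨z, hz⟩ => (hD _).1 z.2 a hz.symm
  · obtain ⟨τ, rfl⟩ := exists_preimage D σ fun x hx => by
      rw [hD] at hx
      push Not at hx
      obtain ⟨a, rfl⟩ := hx
      exact hσ a
    have hτ : τ ∈ Subgroup.closure {x | x ∈ l} := by rw [hl]; trivial
    have h := Subgroup.mem_map_of_mem (altEmb (valEmb D)) hτ
    rw [MonoidHom.map_closure] at h
    refine Subgroup.closure_mono ?_ h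
    rintro _ ⟨x, hx, rfl⟩
    exact List.mem_map.2 ⟨x, hx, rfl⟩

/-- The permutation `(01)(34)`. -/
def s5 (h5 : 5 ≤ n) : alternatingGroup (Fin n) :=
  ⟨Equiv.swap (⟨0, by omega⟩ : Fin n) ⟨1, by omega⟩ * Equiv.swap ⟨3, by omega⟩ ⟨4, by omega⟩,
    Perm.mem_alternatingGroup.2 (by
      rw [map_mul, Perm.sign_swap (by simp [Fin.ext_iff]), Perm.sign_swap (by simp [Fin.ext_iff])]
      decide)⟩

theorem s5_f3 (hn : 4 ≤ n) (h5 : 5 ≤ n) :
    (f3 hn).trans (pe (s5 h5 : Perm (Fin n))) = (pe (Equiv.swap 0 1)).trans (f3 hn) := by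
  refine Function.Embedding.ext fun a => ?_
  show Equiv.swap (⟨0, by omega⟩ : Fin n) ⟨1, by omega⟩
    (Equiv.swap (⟨3, by omega⟩ : Fin n) ⟨4, by omega⟩ (f3 hn a)) = f3 hn (Equiv.swap 0 1 a)
  fin_cases a <;> simp [Equiv.swap_apply_def, Fin.ext_iff]

theorem rho_cases : ∀ ρ : Perm (Fin 3), ∃ j : Fin 3,
    ρ = (c012 : Perm (Fin 3)) ^ (j : ℕ) ∨ ρ = (c012 : Perm (Fin 3)) ^ (j : ℕ) * Equiv.swap 0 1 := by
  decide +kernel

theorem rho_four : ∀ (δ : alternatingGroup (Fin 4)) (ρ : Perm (Fin 3)),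
    (∀ a : Fin 3, (δ : Perm (Fin 4)) (f3 (n := 4) le_rfl a) = f3 (n := 4) le_rfl (ρ a)) →
      ∃ j : Fin 3, ρ = (c012 : Perm (Fin 3)) ^ (j : ℕ) := by decide +kernel

theorem alt_four' : ∀ σ : alternatingGroup (Fin 4), ∃ (j : Fin 3),
    σ = altEmb (f3 (n := 4) le_rfl) c012 ^ (j : ℕ) ∨
    σ = τ4 (n := 4) le_rfl * altEmb (f3 (n := 4) le_rfl) c012 ^ (j : ℕ) ∨
    σ = altEmb (f3 (n := 4) le_rfl) c012 * τ4 (n := 4) le_rfl * (altEmb (f3 (n := 4) le_rfl) c012)⁻¹ *
      altEmb (f3 (n := 4) le_rfl) c012 ^ (j : ℕ) ∨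
    σ = (altEmb (f3 (n := 4) le_rfl) c012)⁻¹ * τ4 (n := 4) le_rfl * altEmb (f3 (n := 4) le_rfl) c012 *
      altEmb (f3 (n := 4) le_rfl) c012 ^ (j : ℕ) := Q2.alt_four

variable {F : Type*} [Field F] [Finite F]

theorem bounds_two (hF : Nat.card F = 2 ^ 2) (hn : 4 ≤ n) : Bounds F 2 n := by
  classical
  haveI := Fintype.ofFinite F
  let e : Q2.K4 ≃+* F := FiniteField.ringEquivOfCardEq (K := Q2.K4) (K' := F) (by
    rw [← Nat.card_eq_fintype_card, ← Nat.card_eq_fintype_card, hF, Q2.card_K4])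
  have hsurj : ∀ m : ℕ, Function.Surjective (suHom (n := m) (q := 2) e) := fun m g =>
    ⟨suHom e.symm g, matHom_injective (by
      rw [matHom_suHom, matHom_suHom]; exact Matrix.ext fun i j => e.apply_symm_apply _)⟩
  have hinj : Function.Injective (suHom (n := 4) (q := 2) e) := fun a b h => by
    refine matHom_injective ?_
    have := congrArg matHom h
    rw [matHom_suHom, matHom_suHom] at this
    exact Matrix.map_injective e.injective this
  have hK : HasPresN (Cfsg.SU 4 F 2) 2 5 :=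
    Q2.hasPresN_SU4.congr (MulEquiv.ofBijective (suHom e) ⟨hinj, hsurj 4⟩)
  set ι : Cfsg.SU 3 F 2 →* Cfsg.SU 4 F 2 := emb (win 0 3 4 (by omega)) with hι
  set ε : Cfsg.SU 4 F 2 →* Cfsg.SU n F 2 := emb (win 0 4 n (by omega)) with hεdef
  have hε : ∀ Y, ε (ι Y) = emb (f3 hn) Y := fun Y => by rw [hεdef, hι, emb_comp, f3_trans]
  let w : Fin 2 → Cfsg.SU 3 F 2 := fun i => suHom e (Q2.wK i)
  have hw : ∀ i, emb (pe (Equiv.swap 0 1)) (w i) = w i := fun i => by
    rw [← suHom_emb, Q2.swap_w]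
  set T : Set (Cfsg.SU 3 F 2) := Set.range w with hT
  have hgen : Subgroup.closure (Set.range (emb (F := F) (q := 2) (win 0 2 3 (by omega))) ∪
      Set.range (emb (F := F) (q := 2) (win 1 2 3 (by omega))) ∪ T) = ⊤ := by
    rw [eq_top_iff]
    rintro X -
    obtain ⟨X, rfl⟩ := hsurj 3 X
    have hX : X ∈ Subgroup.closure (Set.range Q2.g3K) := by rw [Q2.closure_g3K]; trivial
    induction hX using Subgroup.closure_induction with
    | mem x hx =>
      obtain ⟨i, rfl⟩ := hx
      refine Subgroup.subset_closure ?_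
      fin_cases i
      · exact Or.inl (Or.inl ⟨_, (suHom_emb e _ _).symm⟩)
      · exact Or.inl (Or.inl ⟨_, (suHom_emb e _ _).symm⟩)
      · exact Or.inl (Or.inr ⟨_, (suHom_emb e _ _).symm⟩)
      · exact Or.inr ⟨0, rfl⟩
      · exact Or.inr ⟨1, rfl⟩
    | one => rw [map_one]; exact one_mem _
    | mul a b _ _ ha hb => rw [map_mul]; exact mul_mem ha hb
    | inv a _ ha => rw [map_inv]; exact inv_mem ha
  obtain ⟨y, hy⟩ := exists_gens_su2 hF
  obtain ⟨SS, hSS2, hSS5, hSSfix, hSSgen⟩ := stab3_gens hn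
  -- the relations
  set u : Fin 2 → Cfsg.SU 4 F 2 := fun j => ι (emb (win 0 2 3 (by omega)) (y j)) with hu
  set Xτ : List (List (Cfsg.SU 4 F 2 ⊕ alternatingGroup (Fin n))) :=
    [[Sum.inr (τ4 hn), Sum.inl (PM (τ4 (n := 4) le_rfl))⁻¹]]
  set X3 := (SS.map fun σ => conjRel σ (ι (w 0)) (ι (w 0))) ++ (SS.map fun σ => conjRel σ (ι (w 1)) (ι (w 1)))
  have hex5 : ∀ h5 : 5 ≤ n, ∃ σ : alternatingGroup (Fin n),
      (p0 hn).trans (pe (σ : Perm (Fin n))) = win 3 2 n (by omega) := fun h5 => by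
    obtain ⟨σ, h0, h1⟩ := exists_even_pair hn (i := win 3 2 n (by omega) 0) (j := win 3 2 n (by omega) 1)
      ((win 3 2 n (by omega)).injective.ne (by decide))
    exact ⟨σ, Function.Embedding.ext fun a => by fin_cases a <;> [exact h0; exact h1]⟩
  have hex6 : ∀ h6 : 6 ≤ n, ∃ (π : Perm (Fin 3)) (σ : alternatingGroup (Fin n)),
      ((pe π).trans (f3 hn)).trans (pe (σ : Perm (Fin n))) = win 3 3 n (by omega) := fun h6 =>
    exists_rep hn _
  choose σu hσu using hex5
  choose πv σv hσv using hex6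
  set Xs : List (List (Cfsg.SU 4 F 2 ⊕ alternatingGroup (Fin n))) :=
    if h5 : 5 ≤ n then [conjRel (s5 h5) (ι (w 0)) (ι (w 0)), conjRel (s5 h5) (ι (w 1)) (ι (w 1)),
      farRel (σu h5) (ι (w 0)) (u 0), farRel (σu h5) (ι (w 0)) (u 1),
      farRel (σu h5) (ι (w 1)) (u 0), farRel (σu h5) (ι (w 1)) (u 1)] else [] with hXs
  set Xv : List (List (Cfsg.SU 4 F 2 ⊕ alternatingGroup (Fin n))) :=
    if h6 : 6 ≤ n then [farRel (σv h6) (ι (w 0)) (ι (emb (pe (πv h6)) (w 0))),
      farRel (σv h6) (ι (w 0)) (ι (emb (pe (πv h6)) (w 1))),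
      farRel (σv h6) (ι (w 1)) (ι (emb (pe (πv h6)) (w 0))),
      farRel (σv h6) (ι (w 1)) (ι (emb (pe (πv h6)) (w 1)))] else [] with hXv'
  set X := Xτ ++ X3 ++ Xs ++ Xv with hXdef
  have mem_τ : ∀ r ∈ Xτ, r ∈ X := fun r hr => by simp [hXdef, hr]
  have mem_3 : ∀ r ∈ X3, r ∈ X := fun r hr => by simp [hXdef, hr]
  have mem_s : ∀ r ∈ Xs, r ∈ X := fun r hr => by simp [hXdef, hr]
  have mem_v : ∀ r ∈ Xv, r ∈ X := fun r hr => by simp [hXdef, hr]
  have hX : ∀ r ∈ X, evalRel ε PM r = 1 := by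
    intro r hr
    simp only [hXdef, List.mem_append] at hr
    rcases hr with ((hr | hr) | hr) | hr
    · obtain rfl := List.mem_singleton.1 hr
      simp only [evalRel, List.map_cons, List.map_nil, List.prod_cons, List.prod_nil, Sum.elim_inl,
        Sum.elim_inr, mul_one, map_inv, mul_inv_eq_one]
      rw [hεdef, emb_PM]
      exact congrArg PM (altEmb_four_dbl hn _ _ _ _ _ _).symm
    · have key : ∀ σ ∈ SS, ∀ Y, evalRel ε PM (conjRel σ (ι Y) (ι Y)) = 1 := fun σ hσ Y => by
        rw [eval_conjRel, hε, PM_conj_emb,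
          show (f3 hn).trans (σ : Perm (Fin n)).toEmbedding = f3 hn from
            Function.Embedding.ext (hSSfix σ hσ)]
      rcases List.mem_append.1 hr with hr | hr <;> obtain ⟨σ, hσ, rfl⟩ := List.mem_map.1 hr <;>
        exact key σ hσ _
    · by_cases h5 : 5 ≤ n
      · have k1 : ∀ i, evalRel ε PM (conjRel (s5 h5) (ι (w i)) (ι (w i))) = 1 := fun i => by
          rw [eval_conjRel, hε, PM_conj_emb, show (s5 h5 : Perm (Fin n)).toEmbedding = pe _ from rfl,
            s5_f3 hn h5, ← emb_comp, hw]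
        have k2 : ∀ i j, evalRel ε PM (farRel (σu h5) (ι (w i)) (u j)) = 1 := fun i j => by
          rw [eval_farRel, hu, hε, hε, emb_comp, show (win 0 2 3 (by omega)).trans (f3 hn) = p0 hn from
            Function.Embedding.ext fun b => Fin.ext (by simp), PM_conj_emb, hσu h5]
          refine commute_emb _ _ (fun a b h => ?_) _ _
          have := congrArg Fin.val h
          simp at this
          omega
        simp only [hXs, dif_pos h5, List.mem_cons, List.not_mem_nil, or_false] at hr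
        rcases hr with rfl | rfl | rfl | rfl | rfl | rfl
        exacts [k1 0, k1 1, k2 0 0, k2 0 1, k2 1 0, k2 1 1]
      · simp [hXs, dif_neg h5] at hr
    · by_cases h6 : 6 ≤ n
      · have k2 : ∀ i j, evalRel ε PM (farRel (σv h6) (ι (w i)) (ι (emb (pe (πv h6)) (w j)))) = 1 := fun i j => by
          rw [eval_farRel, hε, hε, emb_comp, PM_conj_emb, hσv h6]
          refine commute_emb _ _ (fun a b h => ?_) _ _
          have := congrArg Fin.val h
          simp at this
          omega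
        simp only [hXv', dif_pos h6, List.mem_cons, List.not_mem_nil, or_false] at hr
        rcases hr with rfl | rfl | rfl | rfl
        exacts [k2 0 0, k2 0 1, k2 1 0, k2 1 1]
      · simp [hXv', dif_neg h6] at hr
  have hlen : X.length ≤ (if n = 4 then 1 else if n = 5 then 7 else 15) := by
    have e1 : Xs.length ≤ 6 ∧ (n = 4 → Xs.length = 0) := by
      by_cases h5 : 5 ≤ n
      · simp [hXs, dif_pos h5]; omega
      · simp [hXs, dif_neg h5]
    have e2 : Xv.length ≤ 4 ∧ (n ≤ 5 → Xv.length = 0) := by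
      by_cases h6 : 6 ≤ n
      · simp [hXv', dif_pos h6]; omega
      · simp [hXv', dif_neg h6]
    simp only [hXdef, Xτ, X3, List.length_append, List.length_map, List.length_cons, List.length_nil]
    split_ifs with h4 h5
    · have := hSS5 (by omega); have := e1.2 h4; have := e2.2 (by omega); omega
    · have := hSS5 (by omega); have := e2.2 (by omega); omega
    · omega
  have main : ∀ {r2 s : ℕ}, PresUpTo (c3 n (by omega)) r2 → (2 ≤ s ∨ (n = 5 ∧ 1 ≤ s) ∨ n = 4) →
      HasPresN (Cfsg.SU n F 2) 6 (5 + r2 + 1 + (2 * s + 5 + X.length) + 1 + 1) := by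
    intro r2 s hA hs
    refine ((hasPresN_SU_glue (K := Cfsg.SU 4 F 2) hF hn hK hA hs ι ε hε X hX T ?_).pad).pad
    intro G _ Ψ A hrot hfix hflip hfar hXv
    set ψ := Ψ.comp ι
    have hτ : A (τ4 hn) = Ψ (PM (τ4 (n := 4) le_rfl)) := by
      have := hXv _ (mem_τ _ (List.mem_singleton_self _))
      simpa [evalRel, mul_inv_eq_one] using this
    have hA4 : ∀ σ, Ψ (PM σ) = A (altEmb (win 0 4 n (by omega)) σ) := by
      intro σ
      have hc : Ψ (PM (altEmb (f3 (n := 4) le_rfl) c012)) =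
          A (altEmb (win 0 4 n (by omega)) (altEmb (f3 (n := 4) le_rfl) c012)) := by
        rw [altEmb_four_c4 hn, hrot, hι, emb_PM]
      have ht : Ψ (PM (τ4 (n := 4) le_rfl)) = A (altEmb (win 0 4 n (by omega)) (τ4 (n := 4) le_rfl)) := by
        rw [← hτ]; exact congrArg A (altEmb_four_dbl hn _ _ _ _ _ _).symm
      obtain ⟨j, rfl | rfl | rfl | rfl⟩ := alt_four' σ <;>
        simp only [map_mul, map_pow, map_inv, hc, ht]
    have hfix3 : ∀ g : alternatingGroup (Fin n), (∀ a, (g : Perm (Fin n)) (f3 hn a) = f3 hn a) →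
        ∀ t ∈ T, Commute (A g) (ψ t) := by
      intro g hg
      have hm := hSSgen g hg
      clear hg
      induction hm using Subgroup.closure_induction with
      | mem σ hσ =>
        rintro _ ⟨i, rfl⟩
        refine mul_inv_eq_iff_eq_mul.1 ((eval_conjRel Ψ A σ _ _).1 (hXv _ (mem_3 _ ?_)))
        fin_cases i
        · exact List.mem_append.2 (Or.inl (List.mem_map.2 ⟨σ, hσ, rfl⟩))
        · exact List.mem_append.2 (Or.inr (List.mem_map.2 ⟨σ, hσ, rfl⟩))
      | one => intro t _; rw [map_one]; exact Commute.one_left _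
      | mul x z _ _ hx hz => intro t ht; rw [map_mul]; exact (hx t ht).mul_left (hz t ht)
      | inv x _ hx => intro t ht; rw [map_inv]; exact (hx t ht).inv_left
    have hs5 : ∀ h5 : 5 ≤ n, ∀ t ∈ T, A (s5 h5) * ψ t * (A (s5 h5))⁻¹ = ψ t := by
      rintro h5 _ ⟨i, rfl⟩
      refine (eval_conjRel Ψ A (s5 h5) (ι (w i)) (ι (w i))).1 (hXv _ (mem_s _ ?_))
      fin_cases i <;> simp [hXs, dif_pos h5]
    have hγ : ∀ γ : alternatingGroup (Fin 3), A (altEmb (f3 hn) γ) = ψ (PM γ) := fun γ => by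
      obtain ⟨j, rfl⟩ := alt3_pow γ
      rw [map_pow, map_pow, map_pow, map_pow]
      exact congrArg (· ^ (j : ℕ)) hrot
    have hstab : ∀ (δ : alternatingGroup (Fin n)) (ρ : Perm (Fin 3)),
        (f3 hn).trans (pe (δ : Perm (Fin n))) = (pe ρ).trans (f3 hn) →
          ∀ t ∈ T, A δ * ψ t * (A δ)⁻¹ = ψ (emb (pe ρ) t) := by
      intro δ ρ hδ t ht
      have hconj : ∀ γ : alternatingGroup (Fin 3),
          A (altEmb (f3 hn) γ) * ψ t * (A (altEmb (f3 hn) γ))⁻¹ = ψ (emb (pe (γ : Perm (Fin 3))) t) :=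
        fun γ => by rw [hγ, ← map_mul, ← map_inv, ← map_mul, PM_conj]
      have key : ∀ (γ : alternatingGroup (Fin 3)) (g : alternatingGroup (Fin n)),
          (∀ a, (g : Perm (Fin n)) (f3 hn a) = f3 hn a) → δ = altEmb (f3 hn) γ * g →
          A δ * ψ t * (A δ)⁻¹ = ψ (emb (pe (γ : Perm (Fin 3))) t) := by
        intro γ g hg e
        have hc := hfix3 g hg t ht
        rw [e, map_mul, show A (altEmb (f3 hn) γ) * A g * ψ t * (A (altEmb (f3 hn) γ) * A g)⁻¹ =
          A (altEmb (f3 hn) γ) * (A g * ψ t * (A g)⁻¹) * (A (altEmb (f3 hn) γ))⁻¹ by group, hc.eq,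
          mul_inv_cancel_right, hconj]
      have hδa : ∀ a, (δ : Perm (Fin n)) (f3 hn a) = f3 hn (ρ a) := fun a => DFunLike.congr_fun hδ a
      by_cases heven : ∃ γ : alternatingGroup (Fin 3), (γ : Perm (Fin 3)) = ρ
      · obtain ⟨γ, rfl⟩ := heven
        refine key γ ((altEmb (f3 hn) γ)⁻¹ * δ) (fun a => ?_) (by group)
        show ((altEmb (f3 hn) γ : Perm (Fin n))⁻¹) ((δ : Perm (Fin n)) (f3 hn a)) = f3 hn a
        rw [hδa, Perm.inv_def, Equiv.symm_apply_eq, altEmb_apply]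
      obtain ⟨j, hj | hj⟩ := rho_cases ρ
      · exact absurd ⟨c012 ^ (j : ℕ), hj.symm⟩ heven
      have h5 : 5 ≤ n := by
        by_contra h
        obtain rfl : n = 4 := by omega
        obtain ⟨j', hj'⟩ := rho_four δ ρ hδa
        exact heven ⟨c012 ^ (j' : ℕ), hj'.symm⟩
      set γ : alternatingGroup (Fin 3) := c012 ^ (j : ℕ)
      have hρ : ρ = (γ : Perm (Fin 3)) * Equiv.swap 0 1 := hj
      set g := (s5 h5)⁻¹ * ((altEmb (f3 hn) γ)⁻¹ * δ) with hg
      have hgfix : ∀ a, (g : Perm (Fin n)) (f3 hn a) = f3 hn a := fun a => by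
        show ((s5 h5 : Perm (Fin n))⁻¹) (((altEmb (f3 hn) γ : Perm (Fin n))⁻¹)
          ((δ : Perm (Fin n)) (f3 hn a))) = f3 hn a
        rw [hδa, hρ, Perm.mul_apply, ← altEmb_apply, Perm.inv_def, Perm.inv_def, Equiv.symm_apply_apply,
          Equiv.symm_apply_eq]
        exact (DFunLike.congr_fun (s5_f3 hn h5) a).symm
      have hc := hfix3 g hgfix t ht
      obtain ⟨i, rfl⟩ := ht
      rw [show δ = altEmb (f3 hn) γ * (s5 h5 * g) by rw [hg]; group, map_mul, map_mul,
        show A (altEmb (f3 hn) γ) * (A (s5 h5) * A g) * ψ (w i) *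
            (A (altEmb (f3 hn) γ) * (A (s5 h5) * A g))⁻¹ =
          A (altEmb (f3 hn) γ) * (A (s5 h5) * (A g * ψ (w i) * (A g)⁻¹) * (A (s5 h5))⁻¹) *
            (A (altEmb (f3 hn) γ))⁻¹ by group, hc.eq, mul_inv_cancel_right, hs5 h5 _ ⟨i, rfl⟩, hconj]
      congr 1
      conv_lhs => rw [← hw i]
      rw [emb_comp]
      congr 2
      exact Function.Embedding.ext fun a => by rw [hρ]; rfl
    refine ⟨{ rot := hrot
              fix := hfix
              flip := hflip
              far := hfar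
              gen := hgen
              stab := hstab
              swapT := by rintro _ ⟨i, rfl⟩; exact hw i
              vu := ?_
              vv := ?_
              base := Or.inr ⟨Ψ, fun _ => rfl, hA4⟩ }, ?_⟩
    · rintro _ ⟨i, rfl⟩ h5
      refine ⟨σu h5, hσu h5, fun Y => ?_⟩
      have hY : Y ∈ Subgroup.closure (Set.range y) := by rw [hy]; trivial
      induction hY using Subgroup.closure_induction with
      | mem x hx =>
        obtain ⟨j, rfl⟩ := hx
        refine (eval_farRel Ψ A (σu h5) (ι (w i)) (u j)).1 (hXv _ (mem_s _ ?_))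
        fin_cases i <;> fin_cases j <;> simp [hXs, dif_pos h5]
      | one => rw [map_one, mul_one, mul_inv_cancel]; exact Commute.one_right _
      | mul a b _ _ ha hb =>
        rw [map_mul, show A (σu h5) * (u0 ψ a * u0 ψ b) * (A (σu h5))⁻¹ =
          (A (σu h5) * u0 ψ a * (A (σu h5))⁻¹) * (A (σu h5) * u0 ψ b * (A (σu h5))⁻¹) by group]
        exact ha.mul_right hb
      | inv a _ ha =>
        rw [map_inv, show A (σu h5) * (u0 ψ a)⁻¹ * (A (σu h5))⁻¹ =
          (A (σu h5) * u0 ψ a * (A (σu h5))⁻¹)⁻¹ by group]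
        exact ha.inv_right
    · rintro _ ⟨i, rfl⟩ _ ⟨j, rfl⟩ h6
      refine ⟨πv h6, σv h6, hσv h6,
        (eval_farRel Ψ A (σv h6) (ι (w i)) (ι (emb (pe (πv h6)) (w j)))).1 (hXv _ (mem_v _ ?_))⟩
      fin_cases i <;> fin_cases j <;> simp [hXv', dif_pos h6]
    · intro Φ h1 h2
      have key : (Φ.comp ε).eqLocus Ψ = ⊤ := by
        refine closure_block_PM hF le_rfl _ (fun Y => ?_) fun σ => ?_
        · show Φ (ε (ι Y)) = Ψ (ι Y)
          rw [hε]; exact h1 Y
        · show Φ (ε (PM σ)) = Ψ (PM σ)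
          rw [hεdef, emb_PM, h2, hA4]
      exact fun x => (show x ∈ (Φ.comp ε).eqLocus Ψ by rw [key]; trivial)
  refine ⟨(main (presUpTo_any hn) (s := 2) (Or.inl le_rfl)).mono (by split_ifs at hlen <;> omega),
    fun h5 => ?_⟩
  rcases (show n = 4 ∨ n = 5 by omega) with rfl | rfl
  · exact (main presUpTo_four (s := 0) (Or.inr (Or.inr rfl))).mono (by simp at hlen; omega)
  · exact (main presUpTo_five (s := 1) (Or.inr (Or.inl ⟨rfl, le_rfl⟩))).mono (by simp at hlen; omega)

end CfsgLib.SUShort
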